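/-
Project WREATH: the configuration `Cfg`.
-/
import Cfsg.Agent.Wr.Tools

set_option autoImplicit false
open Cfsg Subgroup CL.Even CL.Grp

namespace CL.Wr

universe u

theorem e1a (h : ActThm.{u}) : E1a.{u} := by
  intro Γ _ _ d Th G _ _ t L L₁ ρ m l w
  have ct : cj t (cj t L₁) = L₁ := by rw [← cj_mul, l.t_sq, cj_one]
  have tt : ∀ x, t * (t * x * t⁻¹) * t⁻¹ = x := fun x => by
    rw [← mul_assoc, ← mul_assoc, l.t_sq, one_mul, mul_assoc, ← mul_inv_rev, l.t_sq, inv_one, mul_one]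
  have sur : ∀ y ∈ d.L, ∃ x ∈ L₁, ρ (x * (t * x * t⁻¹)) = y := fun y hy => by
    obtain ⟨a, ha, rfl⟩ := l.surj y hy
    obtain ⟨x, hx, rfl⟩ := w.surj a ha
    exact ⟨x, hx, rfl⟩
  obtain ⟨p, p1, p2, p3, p4⟩ := h d Th L₁ (fun x => ρ (x * (t * x * t⁻¹))) m w.perf
    (fun x hx y hy => (congrArg ρ (w.δ_mul hx hy)).trans (l.toRho.mulL _ (w.mem x hx) _ (w.mem y hy)))
    (fun x hx => l.memL _ (w.mem x hx)) sur fun x hx e => w.cen_of_δ hx ((l.ker _ (le_normalizer (w.mem x hx))).1 e)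
  set M := 𝒩(L₁) ⊓ 𝒩(cj t L₁) with hM
  have tM : t ∈ 𝒩(M) := cj_eq_iff_mem.1 (by rw [cj_inf, cj_norm, cj_norm, ct, inf_comm])
  have tG : t ∈ 𝒩(L₁ ⊔ cj t L₁) := cj_eq_iff_mem.1 (by rw [cj_sup, ct, sup_comm])
  have c1 := w.le_cent
  have GM : L₁ ⊔ cj t L₁ ≤ M := sup_le (le_inf le_normalizer ((le_centralizer_iff.1 c1).trans (cent_le_norm _)))
    (le_inf (c1.trans (cent_le_norm _)) le_normalizer)
  have pM : MulOn M p := p1.mono inf_le_left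
  have qM : MulOn M fun x => p (t * x * t⁻¹) := fun x hx y hy =>
    (congrArg p (conj_mul.symm)).trans (pM _ (conj_mem tM hx) _ (conj_mem tM hy))
  have kc : ∀ n ∈ M, p n = 1 → p (t * n * t⁻¹) = 1 → n ∈ 𝒞(L₁ ⊔ cj t L₁) := fun n hn e1 e2 => by
    rw [cent_sup, ← cj_cent]
    exact ⟨(p3 n hn.1).1 e1, tt n ▸ conj_mem_cj t ((p3 _ (conj_mem tM hn).1).1 e2)⟩
  have p0 : ∀ x ∈ L₁, t * x * t⁻¹ ∈ 𝒩(L₁) ∧ p (t * x * t⁻¹) = 1 := fun x hx =>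
    ⟨cent_le_norm _ (c1 (conj_mem_cj t hx)), (p3 _ (cent_le_norm _ (c1 (conj_mem_cj t hx)))).2 (c1 (conj_mem_cj t hx))⟩
  have pr : ∀ x ∈ L₁, ∀ y ∈ L₁, p (x * (t * y * t⁻¹)) = p x ∧ p (t * (x * (t * y * t⁻¹)) * t⁻¹) = p y :=
    fun x hx y hy => ⟨by rw [p1 x (le_normalizer hx) _ (p0 y hy).1, (p0 y hy).2, mul_one], by
      rw [← conj_mul, tt, p1 _ (p0 x hx).1 y (le_normalizer hy), (p0 x hx).2, one_mul]⟩
  have gs : ∀ α ∈ d.L, ∀ β ∈ d.L, ∃ x ∈ L₁ ⊔ cj t L₁, p x = α ∧ p (t * x * t⁻¹) = β := fun α hα β hβ => by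
    obtain ⟨x, hx, rfl⟩ := sur α hα
    obtain ⟨y, hy, rfl⟩ := sur β hβ
    exact ⟨_, mul_mem (mem_sup_left hx) (mem_sup_right (conj_mem_cj t hy)), (pr x hx y hy).1.trans (p4 x hx),
      (pr x hx y hy).2.trans (p4 y hy)⟩
  have tn : t ∉ M := fun e => by
    obtain ⟨x, hx, e1⟩ := sur _ (m.ok.A_le_L m.ok.a_mem)
    obtain ⟨y, hy, e2⟩ := sur _ (m.ok.swap.A_le_L m.ok.b_mem)
    refine m.ok.ab_ne ?_
    rw [← e1, ← e2, ← p4 x hx, ← p4 y hy]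
    exact p1.mul_comm (le_normalizer hx) (le_normalizer hy) (comm_of_mem (c1 ((cj_eq e.1).ge hy)) hx)
  have od : ∀ n ∈ 𝒞(L₁ ⊔ cj t L₁), Odd (orderOf n) := fun n hn => Nat.not_even_iff_odd.1 fun e => l.four (by
    have k := card_dvd_of_le (sup_le (cent_mono w.L_le) (zpowers_le.2 l.t_mem))
    rw [card_sup_inv l.t_sq (norm_le_norm_cent _ tG) fun e => tn (((cent_sup _ _).le.trans
      (inf_le_inf (cent_le_norm _) (cent_le_norm _))) e)] at k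
    exact (Nat.mul_dvd_mul_left 2 (e.two_dvd.trans (orderOf_dvd_natCard _ hn))).trans k)
  let N := pM.pre Th ⊓ qM.pre Th
  have mN : ∀ x, x ∈ N ↔ x ∈ M ∧ p x ∈ Th ∧ p (t * x * t⁻¹) ∈ Th := fun x =>
    ⟨fun e => ⟨(pM.mem_pre.1 e.1).1, (pM.mem_pre.1 e.1).2, (qM.mem_pre.1 e.2).2⟩, fun e =>
      ⟨pM.mem_pre.2 ⟨e.1, e.2.1⟩, qM.mem_pre.2 ⟨e.1, e.2.2⟩⟩⟩
  have NM : N ≤ M := fun x hx => ((mN x).1 hx).1
  have tN : t ∈ 𝒩(N) := mem_norm_of fun x hx => (mN _).2 ⟨conj_mem tM (NM hx), ((mN x).1 hx).2.2,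
    (tt x).symm ▸ ((mN x).1 hx).2.1⟩
  obtain ⟨P, hP, tP⟩ := exists_isSylowIn_ge (isPGroup_zpowers (p := 2) (k := 1) (by rw [pow_one, sq, l.t_sq]))
    (le_sup_right : zpowers t ≤ N ⊔ zpowers t)
  have sN := hP.inf_of_normalized le_sup_left (sup_le le_normalizer (zpowers_le.2 tN))
  obtain ⟨R, hR⟩ := exists_isSylowIn 2 M
  obtain ⟨g₁, a1, a2⟩ := m.conj_Th (pM.isP_img hR.isPGroup) (pM.img_le fun x _ hx => p2 x hx.1)
  obtain ⟨g₂, b1, b2⟩ := m.conj_Th (qM.isP_img hR.isPGroup) (qM.img_le fun x _ hx => p2 _ (conj_mem tM hx).1)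
  obtain ⟨g, g1, rfl, rfl⟩ := gs g₁ a1 g₂ b1
  have RN : cj g R ≤ N := by
    rintro _ ⟨x, hx, rfl⟩
    exact (mN _).2 ⟨conj_mem (le_normalizer (GM g1)) (hR.le hx),
      (pM.conj (GM g1) (hR.le hx)).symm.subst (motive := (· ∈ Th)) (a2 (conj_mem_cj _ (pM.mem_img_of hx (hR.le hx)))),
      (qM.conj (GM g1) (hR.le hx)).symm.subst (motive := (· ∈ Th)) (b2 (conj_mem_cj _ (qM.mem_img_of hx (hR.le hx))))⟩
  refine ⟨P ⊓ N, p, l.t_sq, tn, tM, tG, le_norm_inf (le_norm_of_le tP) (zpowers_le.2 tN) (mem_zpowers t), pM,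
    fun n hn => p2 n hn.1, GM, le_norm_sup inf_le_left inf_le_right, fun x hx => ?_, gs,
    fun n hn e1 e2 => od n (kc n hn e1 e2), kc, hR.of_card_le sN.isPGroup (inf_le_right.trans NM)
      ((card_cj g R).ge.trans (sN.card_le (isPGroup_cj hR.isPGroup g) RN)), fun x hx => ((mN x).1 hx.2).2.1,
    fun n hn e1 e2 => ?_, fun x hx e1 e2 => ?_, fun c e => ?_⟩
  · obtain ⟨a, ha, _, ⟨b, hb, rfl⟩, rfl⟩ := (mem_sup_nl (c1.trans (cent_le_norm _))).1 hx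
    exact ((pr a ha b hb).1.trans (p4 a ha)).symm ▸ l.memL _ (w.mem a ha)
  · obtain ⟨s, hs, r, hr, rfl⟩ := exists_syl_mul_res sN ((mN n).2 ⟨hn, e1, e2⟩)
    have k : ∀ {f : G → Γ} (hf : MulOn M f), (∀ x ∈ N, f x ∈ Th) → f s = f (s * r) := fun hf a => by
      rw [hf s (NM hs.2) r (NM (res_le _ hr)), mem_bot.1 (hf.mem_pre.1 (res_le_of_pow (K := hf.pre ⊥) (fun x hx =>
        (Two.of_mem m.syl.isPGroup (a x hx)).imp fun k hk => hf.mem_pre.2 ⟨pow_mem (NM hx) _,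
          (hf.pow (NM hx) _).trans hk⟩) hr)).2, mul_one]
    exact ⟨s, hs, k pM fun x hx => ((mN x).1 hx).2.1, k qM fun x hx => ((mN x).1 hx).2.2⟩
  · obtain ⟨y, hy, k1, k2⟩ := gs _ e1 _ e2
    have k := kc _ (mul_mem (inv_mem (GM hy)) (NM hx.2)) ((pM.eq_iff (GM hy) (NM hx.2)).1 k1)
      ((qM.eq_iff (GM hy) (NM hx.2)).1 k2)
    rw [← mul_inv_cancel_left y x]
    exact Two.mem_of_mul ((mul_inv_cancel_left y x).symm ▸ .of_mem sN.isPGroup hx) (comm_of_mem k hy) (od _ k) hy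
  · have k : ∀ c, c * t = t * c → cj c L₁ = L₁ → c ∈ M := fun c e a =>
      ⟨cj_eq_iff_mem.1 a, cj_eq_iff_mem.1 (by rw [← cj_mul, e, cj_mul, a])⟩
    exact (w.perm c e).imp (k c e) fun a => k _ (by rw [← mul_assoc, e]) (by rw [e, cj_mul, a, ct])

end CL.Wr
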