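/-
Project WREATH: the model M24.
Generated by tools/pg.
-/
import Cfsg.Agent.Wr.WT
import Cfsg.Agent.Spor.M24PresM
import Cfsg.Agent.Spor.PGCtx

set_option autoImplicit false
set_option maxRecDepth 200000
set_option Elab.async false
set_option linter.unusedVariables false

namespace CL.Wr.GM24
open CL.PG

noncomputable def xa2 : Net := (.cons 12 (nat_lit 0x1a6)
 (.cons 6 (nat_lit 0x1802a)
 (.cons 3 (nat_lit 0x180044)
 (.cons 1 (nat_lit 0x200)
 (.cons 1 (nat_lit 0x2402)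
 (.cons 1 (nat_lit 0x40200)
 (.cons 6 (nat_lit 0x10028)
 (.cons 12 (nat_lit 0x2a0)
 .nil))))))))
noncomputable def xa3 : Net := (.cons 12 (nat_lit 0x224)
 (.cons 6 (nat_lit 0x2002)
 (.cons 3 (nat_lit 0x1440c0)
 (.cons 1 (nat_lit 0x201000)
 (.cons 1 (nat_lit 0x482000)
 (.cons 1 (nat_lit 0x1040)
 (.cons 3 (nat_lit 0x100080)
 (.cons 6 (nat_lit 0xa008)
 (.cons 12 (nat_lit 0xce4)
 .nil)))))))))
noncomputable def xa4 : Net := (.cons 12 (nat_lit 0x2)
 (.cons 6 (nat_lit 0x2400e)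
 (.cons 3 (nat_lit 0x46100)
 (.cons 1 (nat_lit 0x9048)
 (.cons 1 (nat_lit 0x12090)
 (.cons 1 (nat_lit 0x209008)
 (.cons 3 (nat_lit 0x184)
 (.cons 6 (nat_lit 0x2c02a)
 (.cons 12 (nat_lit 0xf52)
 .nil)))))))))
noncomputable def xa5 : Net := (.cons 12 (nat_lit 0x528)
 (.cons 6 (nat_lit 0x6030)
 (.cons 3 (nat_lit 0x100144)
 (.cons 1 (nat_lit 0x48008)
 (.cons 1 (nat_lit 0x492010)
 (.cons 1 (nat_lit 0x49048)
 (.cons 3 (nat_lit 0x80084)
 (.cons 6 (nat_lit 0x14010)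
 (.cons 12 (nat_lit 0x5dc)
 .nil)))))))))
noncomputable def xa6 : Net := (.cons 12 (nat_lit 0x1ae)
 (.cons 6 (nat_lit 0x1018)
 (.cons 3 (nat_lit 0x1840c2)
 (.cons 1 (nat_lit 0x208200)
 (.cons 1 (nat_lit 0x410400)
 (.cons 1 (nat_lit 0x248208)
 (.cons 3 (nat_lit 0x180000)
 (.cons 6 (nat_lit 0x18)
 (.cons 12 (nat_lit 0x2e)
 .nil)))))))))
noncomputable def xa7 : Net := (.cons 12 (nat_lit 0x360)
 (.cons 6 (nat_lit 0x602e)
 (.cons 3 (nat_lit 0x187184)
 (.cons 1 (nat_lit 0x200040)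
 (.cons 1 (nat_lit 0x410082)
 (.cons 1 (nat_lit 0x8008)
 (.cons 3 (nat_lit 0x6180)
 (.cons 6 (nat_lit 0x8026)
 (.cons 12 (nat_lit 0x360)
 .nil)))))))))
noncomputable def xa8 : Net := (.cons 12 (nat_lit 0x4a2)
 (.cons 6 (nat_lit 0x2a024)
 (.cons 3 (nat_lit 0x142140)
 (.cons 1 (nat_lit 0x41040)
 (.cons 1 (nat_lit 0x482082)
 (.cons 1 (nat_lit 0x249200)
 (.cons 3 (nat_lit 0x2100)
 (.cons 6 (nat_lit 0x1e036)
 (.cons 12 (nat_lit 0x26a)
 .nil)))))))))
noncomputable def xa9 : Net := (.cons 12 (nat_lit 0x726)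
 (.cons 6 (nat_lit 0x2e024)
 (.cons 3 (nat_lit 0x100102)
 (.cons 1 (nat_lit 0x41240)
 (.cons 1 (nat_lit 0x82490)
 (.cons 1 (nat_lit 0x240200)
 (.cons 3 (nat_lit 0x100084)
 (.cons 6 (nat_lit 0x36000)
 (.cons 12 (nat_lit 0xcf6)
 .nil)))))))))
noncomputable def xa10 : Net := (.cons 12 (nat_lit 0x350)
 (.cons 6 (nat_lit 0x2a020)
 (.cons 3 (nat_lit 0x70c0)
 (.cons 1 (nat_lit 0x201000)
 (.cons 1 (nat_lit 0x412410)
 (.cons 1 (nat_lit 0x41040)
 (.cons 3 (nat_lit 0x180)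
 (.cons 6 (nat_lit 0x1c000)
 (.cons 12 (nat_lit 0x550)
 .nil)))))))))
noncomputable def xa11 : Net := (.cons 12 (nat_lit 0x7ca)
 (.cons 6 (nat_lit 0x36020)
 (.cons 3 (nat_lit 0x142)
 (.cons 1 (nat_lit 0x40008)
 (.cons 1 (nat_lit 0x480090)
 (.cons 1 (nat_lit 0x241200)
 (.cons 3 (nat_lit 0x2182)
 (.cons 6 (nat_lit 0x3200a)
 (.cons 12 (nat_lit 0xfca)
 .nil)))))))))
noncomputable def xa12 : Net := (.cons 12 (nat_lit 0xef6)
 (.cons 6 (nat_lit 0x1a010)
 (.cons 3 (nat_lit 0x1400c0)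
 (.cons 1 (nat_lit 0x48240)
 (.cons 1 (nat_lit 0x90482)
 (.cons 1 (nat_lit 0x49040)
 (.cons 3 (nat_lit 0x2004)
 (.cons 6 (nat_lit 0x32036)
 (.cons 12 (nat_lit 0xef6)
 .nil)))))))))
noncomputable def xa13 : Net := (.cons 12 (nat_lit 0x5a2)
 (.cons 6 (nat_lit 0x16002)
 (.cons 3 (nat_lit 0x1c2004)
 (.cons 1 (nat_lit 0x8200)
 (.cons 1 (nat_lit 0x90402)
 (.cons 1 (nat_lit 0x49000)
 (.cons 3 (nat_lit 0x180004)
 (.cons 6 (nat_lit 0x3a000)
 (.cons 12 (nat_lit 0x4a2)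
 .nil)))))))))
noncomputable def xa14 : Net := (.cons 12 (nat_lit 0xdec)
 (.cons 6 (nat_lit 0x12014)
 (.cons 3 (nat_lit 0xc01c4)
 (.cons 1 (nat_lit 0x400010)
 (.cons 1 (nat_lit 0x41208)
 (.cons 3 (nat_lit 0x182084)
 (.cons 6 (nat_lit 0x12034)
 (.cons 12 (nat_lit 0xdec)
 .nil))))))))
noncomputable def xa15 : Net := (.cons 12 (nat_lit 0x428)
 (.cons 6 (nat_lit 0x10020)
 (.cons 3 (nat_lit 0x185002)
 (.cons 1 (nat_lit 0x40048)
 (.cons 1 (nat_lit 0x82090)
 (.cons 1 (nat_lit 0x40249)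
 (.cons 3 (nat_lit 0x104002)
 (.cons 6 (nat_lit 0x10020)
 (.cons 12 (nat_lit 0x428)
 .nil)))))))))
noncomputable def xa16 : Net := (.cons 12 (nat_lit 0x9b0)
 (.cons 6 (nat_lit 0x3800a)
 (.cons 3 (nat_lit 0x2100)
 (.cons 1 (nat_lit 0x240040)
 (.cons 1 (nat_lit 0x490080)
 (.cons 1 (nat_lit 0x241041)
 (.cons 3 (nat_lit 0x2100)
 (.cons 6 (nat_lit 0x38002)
 (.cons 12 (nat_lit 0x9a0)
 .nil)))))))))
noncomputable def xa17 : Net := (.cons 12 (nat_lit 0x308)
 (.cons 6 (nat_lit 0x200e)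
 (.cons 3 (nat_lit 0x7106)
 (.cons 1 (nat_lit 0x8)
 (.cons 1 (nat_lit 0x410)
 (.cons 1 (nat_lit 0x200009)
 (.cons 3 (nat_lit 0x106)
 (.cons 6 (nat_lit 0x200c)
 (.cons 12 (nat_lit 0x308)
 .nil)))))))))
noncomputable def xa18 : Net := (.cons 12 (nat_lit 0x3b8)
 (.cons 6 (nat_lit 0x1c026)
 (.cons 3 (nat_lit 0x2100)
 (.cons 1 (nat_lit 0x80080)
 (.cons 1 (nat_lit 0x1201)
 (.cons 3 (nat_lit 0x2100)
 (.cons 6 (nat_lit 0x14022)
 (.cons 12 (nat_lit 0x3a8)
 .nil))))))))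
noncomputable def xa19 : Net := (.cons 12 (nat_lit 0xfff)
 (.cons 6 (nat_lit 0xe022)
 (.cons 3 (nat_lit 0x183101)
 (.cons 1 (nat_lit 0x201)
 (.cons 1 (nat_lit 0x490482)
 (.cons 1 (nat_lit 0x208000)
 (.cons 3 (nat_lit 0x6104)
 (.cons 6 (nat_lit 0x2200e)
 .nil))))))))
noncomputable def xa20 : Net := (.cons 12 (nat_lit 0xb7a)
 (.cons 6 (nat_lit 0x33009)
 (.cons 3 (nat_lit 0x451c7)
 (.cons 1 (nat_lit 0x8009)
 (.cons 1 (nat_lit 0x90492)
 (.cons 1 (nat_lit 0x40240)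
 (.cons 3 (nat_lit 0x86000)
 (.cons 6 (nat_lit 0xc036)
 (.cons 12 (nat_lit 0xb7a)
 .nil)))))))))
noncomputable def xa21 : Net := (.cons 12 (nat_lit 0xf52)
 (.cons 6 (nat_lit 0xa032)
 (.cons 3 (nat_lit 0x143001)
 (.cons 1 (nat_lit 0x9040)
 (.cons 6 (nat_lit 0xa002)
 (.cons 12 (nat_lit 0xf52)
 .nil))))))
noncomputable def xa22 : Net := (.cons 12 (nat_lit 0x632)
 (.cons 6 (nat_lit 0xe034)
 (.cons 3 (nat_lit 0x83001)
 (.cons 1 (nat_lit 0x200)
 (.cons 1 (nat_lit 0x480)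
 (.cons 1 (nat_lit 0x9200)
 (.cons 6 (nat_lit 0xa024)
 (.cons 12 (nat_lit 0x632)
 .nil))))))))
noncomputable def xa23 : Net := (.cons 12 (nat_lit 0x724)
 (.cons 6 (nat_lit 0x1203c)
 (.cons 3 (nat_lit 0x80104)
 (.cons 1 (nat_lit 0x48008)
 (.cons 1 (nat_lit 0x90090)
 (.cons 1 (nat_lit 0x240000)
 (.cons 3 (nat_lit 0x102004)
 (.cons 6 (nat_lit 0x8034)
 (.cons 12 (nat_lit 0x134)
 .nil)))))))))
noncomputable def xa24 : Net := (.cons 12 (nat_lit 0x8dc)
 (.cons 6 (nat_lit 0x3b010)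
 (.cons 3 (nat_lit 0x100145)
 (.cons 1 (nat_lit 0x201008)
 (.cons 1 (nat_lit 0x492410)
 (.cons 1 (nat_lit 0x1001)
 (.cons 3 (nat_lit 0x102000)
 (.cons 6 (nat_lit 0x28022)
 (.cons 12 (nat_lit 0x356)
 .nil)))))))))
noncomputable def xa25 : Net := (.cons 12 (nat_lit 0x3f7)
 (.cons 6 (nat_lit 0x7020)
 (.cons 3 (nat_lit 0x6084)
 (.cons 1 (nat_lit 0x200201)
 (.cons 1 (nat_lit 0x492412)
 (.cons 1 (nat_lit 0x248241)
 (.cons 3 (nat_lit 0x100082)
 (.cons 6 (nat_lit 0xa008)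
 (.cons 12 (nat_lit 0xe6a)
 .nil)))))))))
noncomputable def xa26 : Net := (.cons 12 (nat_lit 0xd2b)
 (.cons 6 (nat_lit 0x14022)
 (.cons 3 (nat_lit 0x1c6044)
 (.cons 1 (nat_lit 0x40208)
 (.cons 1 (nat_lit 0x90410)
 (.cons 1 (nat_lit 0x248240)
 (.cons 3 (nat_lit 0x184006)
 (.cons 6 (nat_lit 0x22014)
 (.cons 12 (nat_lit 0x2d4)
 .nil)))))))))
noncomputable def xa27 : Net := (.cons 12 (nat_lit 0x50)
 (.cons 6 (nat_lit 0x3034)
 (.cons 3 (nat_lit 0x45)
 (.cons 1 (nat_lit 0x9)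
 (.cons 1 (nat_lit 0x400412)
 (.cons 1 (nat_lit 0x8009)
 (.cons 6 (nat_lit 0x34)
 (.cons 12 (nat_lit 0x50)
 .nil))))))))
noncomputable def xa28 : Net := (.cons 12 (nat_lit 0x325)
 (.cons 6 (nat_lit 0x10000)
 (.cons 3 (nat_lit 0x184104)
 (.cons 1 (nat_lit 0x40200)
 (.cons 1 (nat_lit 0x82400)
 (.cons 1 (nat_lit 0x240208)
 (.cons 3 (nat_lit 0x184100)
 (.cons 12 (nat_lit 0x324)
 .nil))))))))
noncomputable def xa29 : Net := (.cons 12 (nat_lit 0x8a9)
 (.cons 6 (nat_lit 0xc01d)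
 (.cons 3 (nat_lit 0x81181)
 (.cons 1 (nat_lit 0x201001)
 (.cons 1 (nat_lit 0x412082)
 (.cons 1 (nat_lit 0x248209)
 (.cons 3 (nat_lit 0x182104)
 (.cons 6 (nat_lit 0x30028)
 (.cons 12 (nat_lit 0xf8c)
 .nil)))))))))
noncomputable def xa30 : Net := (.cons 12 (nat_lit 0x2cc)
 (.cons 6 (nat_lit 0x3d011)
 (.cons 3 (nat_lit 0x87187)
 (.cons 1 (nat_lit 0x40040)
 (.cons 1 (nat_lit 0x82482)
 (.cons 1 (nat_lit 0x1001)
 (.cons 3 (nat_lit 0x184002)
 (.cons 6 (nat_lit 0xc000)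
 (.cons 12 (nat_lit 0xeb0)
 .nil)))))))))
noncomputable def xa31 : Net := (.cons 12 (nat_lit 0x4af)
 (.cons 6 (nat_lit 0x2902c)
 (.cons 3 (nat_lit 0x1c20c4)
 (.cons 1 (nat_lit 0x208009)
 (.cons 1 (nat_lit 0x492012)
 (.cons 1 (nat_lit 0x208040)
 (.cons 3 (nat_lit 0x86080)
 (.cons 6 (nat_lit 0x14036)
 (.cons 12 (nat_lit 0xcfe)
 .nil)))))))))
noncomputable def xa32 : Net := (.cons 12 (nat_lit 0xd66)
 (.cons 6 (nat_lit 0x3403b)
 (.cons 3 (nat_lit 0x1c3085)
 (.cons 1 (nat_lit 0x48001)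
 (.cons 1 (nat_lit 0x492082)
 (.cons 1 (nat_lit 0x208209)
 (.cons 3 (nat_lit 0x82084)
 (.cons 6 (nat_lit 0x4022)
 (.cons 12 (nat_lit 0x2e)
 .nil)))))))))
noncomputable def xa33 : Net := (.cons 12 (nat_lit 0xd06)
 (.cons 6 (nat_lit 0x2f024)
 (.cons 3 (nat_lit 0x102041)
 (.cons 1 (nat_lit 0x8009)
 (.cons 1 (nat_lit 0x412412)
 (.cons 1 (nat_lit 0x201008)
 (.cons 3 (nat_lit 0x106002)
 (.cons 6 (nat_lit 0x3201c)
 (.cons 12 (nat_lit 0x846)
 .nil)))))))))
noncomputable def xa34 : Net := (.cons 12 (nat_lit 0x42c)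
 (.cons 6 (nat_lit 0x1e00d)
 (.cons 3 (nat_lit 0x84002)
 (.cons 1 (nat_lit 0x200000)
 (.cons 1 (nat_lit 0x402402)
 (.cons 1 (nat_lit 0x49201)
 (.cons 3 (nat_lit 0x4002)
 (.cons 6 (nat_lit 0x38004)
 (.cons 12 (nat_lit 0x42c)
 .nil)))))))))
noncomputable def xa35 : Net := (.cons 12 (nat_lit 0x428)
 (.cons 6 (nat_lit 0x10020)
 (.cons 3 (nat_lit 0x185002)
 (.cons 1 (nat_lit 0x40048)
 (.cons 1 (nat_lit 0x82090)
 (.cons 1 (nat_lit 0x40249)
 (.cons 3 (nat_lit 0x104002)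
 (.cons 6 (nat_lit 0x10020)
 (.cons 12 (nat_lit 0x428)
 .nil)))))))))
noncomputable def xa36 : Net := (.cons 12 (nat_lit 0xc48)
 (.cons 6 (nat_lit 0x3039)
 (.cons 3 (nat_lit 0x143)
 (.cons 1 (nat_lit 0x49201)
 (.cons 3 (nat_lit 0x2)
 (.cons 6 (nat_lit 0x20)
 (.cons 12 (nat_lit 0x448)
 .nil)))))))
noncomputable def xa37 : Net := (.cons 12 (nat_lit 0x600)
 (.cons 6 (nat_lit 0x2101c)
 (.cons 3 (nat_lit 0x47080)
 (.cons 1 (nat_lit 0x201)
 (.cons 1 (nat_lit 0x2412)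
 (.cons 1 (nat_lit 0x48241)
 (.cons 3 (nat_lit 0x6080)
 (.cons 6 (nat_lit 0x2a01c)
 (.cons 12 (nat_lit 0x600)
 .nil)))))))))
noncomputable def xa38 : Net := (.cons 12 (nat_lit 0x750)
 (.cons 6 (nat_lit 0xa028)
 (.cons 3 (nat_lit 0x183002)
 (.cons 1 (nat_lit 0x200201)
 (.cons 3 (nat_lit 0x80002)
 (.cons 6 (nat_lit 0xa008)
 (.cons 12 (nat_lit 0x710)
 .nil)))))))
noncomputable def xa39 : Net := (.cons 12 (nat_lit 0x228)
 (.cons 6 (nat_lit 0x2600a)
 (.cons 3 (nat_lit 0x1c0)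
 (.cons 1 (nat_lit 0x8)
 (.cons 1 (nat_lit 0x12)
 (.cons 1 (nat_lit 0x40008)
 (.cons 6 (nat_lit 0x200a)
 (.cons 12 (nat_lit 0x228)
 .nil))))))))
noncomputable def xa40 : Net := (.cons 12 (nat_lit 0x362)
 (.cons 6 (nat_lit 0x3a014)
 (.cons 3 (nat_lit 0x1c21c2)
 (.cons 1 (nat_lit 0x40040)
 (.cons 1 (nat_lit 0x80490)
 (.cons 1 (nat_lit 0x241040)
 (.cons 3 (nat_lit 0x82180)
 (.cons 6 (nat_lit 0x32038)
 (.cons 12 (nat_lit 0x92c)
 .nil)))))))))
noncomputable def xa41 : Net := (.cons 12 (nat_lit 0x726)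
 (.cons 6 (nat_lit 0x3d008)
 (.cons 3 (nat_lit 0x143142)
 (.cons 1 (nat_lit 0x48200)
 (.cons 1 (nat_lit 0x92490)
 (.cons 1 (nat_lit 0x48048)
 (.cons 3 (nat_lit 0x82)
 (.cons 6 (nat_lit 0x3002e)
 (.cons 12 (nat_lit 0xf00)
 .nil)))))))))
noncomputable def xa42 : Net := (.cons 12 (nat_lit 0x364)
 (.cons 6 (nat_lit 0x24018)
 (.cons 3 (nat_lit 0x100186)
 (.cons 1 (nat_lit 0x48040)
 (.cons 1 (nat_lit 0x92482)
 (.cons 1 (nat_lit 0x48048)
 (.cons 3 (nat_lit 0x100186)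
 (.cons 6 (nat_lit 0x24018)
 (.cons 12 (nat_lit 0x360)
 .nil)))))))))
noncomputable def xa43 : Net := (.cons 12 (nat_lit 0x1c4)
 (.cons 6 (nat_lit 0x24020)
 (.cons 3 (nat_lit 0x106100)
 (.cons 1 (nat_lit 0x200000)
 (.cons 1 (nat_lit 0x480402)
 (.cons 1 (nat_lit 0x208000)
 (.cons 3 (nat_lit 0x102100)
 (.cons 6 (nat_lit 0x24000)
 (.cons 12 (nat_lit 0x184)
 .nil)))))))))
noncomputable def xa44 : Net := (.cons 12 (nat_lit 0xb6a)
 (.cons 6 (nat_lit 0x38004)
 (.cons 3 (nat_lit 0x2102)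
 (.cons 1 (nat_lit 0x40040)
 (.cons 1 (nat_lit 0x80080)
 (.cons 1 (nat_lit 0x41248)
 (.cons 3 (nat_lit 0x2102)
 (.cons 6 (nat_lit 0x10000)
 (.cons 12 (nat_lit 0xb6a)
 .nil)))))))))
noncomputable def xa45 : Net := (.cons 12 (nat_lit 0x4ca)
 (.cons 6 (nat_lit 0x2020)
 (.cons 3 (nat_lit 0x105002)
 (.cons 1 (nat_lit 0x40040)
 (.cons 1 (nat_lit 0x80080)
 (.cons 1 (nat_lit 0x40248)
 (.cons 3 (nat_lit 0x100002)
 (.cons 12 (nat_lit 0x4ca)
 .nil))))))))
noncomputable def xa46 : Net := (.cons 12 (nat_lit 0xb08)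
 (.cons 6 (nat_lit 0x3c02a)
 (.cons 3 (nat_lit 0x102084)
 (.cons 1 (nat_lit 0x208)
 (.cons 1 (nat_lit 0x10490)
 (.cons 1 (nat_lit 0x1208)
 (.cons 3 (nat_lit 0x2084)
 (.cons 6 (nat_lit 0x34028)
 (.cons 12 (nat_lit 0xb08)
 .nil)))))))))
noncomputable def xa47 : Net := (.cons 12 (nat_lit 0x1c4)
 (.cons 6 (nat_lit 0x24020)
 (.cons 3 (nat_lit 0x106100)
 (.cons 1 (nat_lit 0x200000)
 (.cons 1 (nat_lit 0x480402)
 (.cons 1 (nat_lit 0x208000)
 (.cons 3 (nat_lit 0x102100)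
 (.cons 6 (nat_lit 0x24000)
 (.cons 12 (nat_lit 0x184)
 .nil)))))))))
noncomputable def xa48 : Net := (.cons 12 (nat_lit 0xc4c)
 (.cons 6 (nat_lit 0x30000)
 (.cons 3 (nat_lit 0x107100)
 (.cons 1 (nat_lit 0x200008)
 (.cons 1 (nat_lit 0x412010)
 (.cons 1 (nat_lit 0x200208)
 (.cons 3 (nat_lit 0x100000)
 (.cons 6 (nat_lit 0x30000)
 (.cons 12 (nat_lit 0xc0c)
 .nil)))))))))
noncomputable def xa49 : Net := (.cons 12 (nat_lit 0xf68)
 (.cons 6 (nat_lit 0x801c)
 (.cons 3 (nat_lit 0x5104)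
 (.cons 1 (nat_lit 0x40248)
 (.cons 1 (nat_lit 0x482490)
 (.cons 1 (nat_lit 0x240240)
 (.cons 3 (nat_lit 0x104004)
 (.cons 6 (nat_lit 0x8010)
 (.cons 12 (nat_lit 0x220)
 .nil)))))))))
noncomputable def xa50 : Net := (.cons 12 (nat_lit 0xf68)
 (.cons 6 (nat_lit 0x3200a)
 (.cons 3 (nat_lit 0x104046)
 (.cons 1 (nat_lit 0x10080)
 (.cons 1 (nat_lit 0x40008)
 (.cons 3 (nat_lit 0x4002)
 (.cons 6 (nat_lit 0x3200a)
 (.cons 12 (nat_lit 0x768)
 .nil))))))))
noncomputable def xa51 : Net := (.cons 12 (nat_lit 0x120)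
 (.cons 6 (nat_lit 0x2c016)
 (.cons 3 (nat_lit 0x144186)
 (.cons 1 (nat_lit 0x248040)
 (.cons 1 (nat_lit 0x492480)
 (.cons 1 (nat_lit 0x248040)
 (.cons 3 (nat_lit 0x4180)
 (.cons 6 (nat_lit 0x20016)
 (.cons 12 (nat_lit 0x120)
 .nil)))))))))
noncomputable def xa52 : Net := (.cons 12 (nat_lit 0x228)
 (.cons 6 (nat_lit 0x2600a)
 (.cons 3 (nat_lit 0x1c0)
 (.cons 1 (nat_lit 0x8)
 (.cons 1 (nat_lit 0x12)
 (.cons 1 (nat_lit 0x40008)
 (.cons 6 (nat_lit 0x200a)
 (.cons 12 (nat_lit 0x228)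
 .nil))))))))
noncomputable def xa53 : Net := (.cons 12 (nat_lit 0x238)
 (.cons 6 (nat_lit 0x1900d)
 (.cons 3 (nat_lit 0xc6082)
 (.cons 1 (nat_lit 0x40008)
 (.cons 1 (nat_lit 0x482492)
 (.cons 1 (nat_lit 0x49048)
 (.cons 3 (nat_lit 0x2)
 (.cons 6 (nat_lit 0x32020)
 (.cons 12 (nat_lit 0xc0e)
 .nil)))))))))
noncomputable def xa54 : Net := (.cons 12 (nat_lit 0x866)
 (.cons 6 (nat_lit 0x4008)
 (.cons 3 (nat_lit 0x84105)
 (.cons 1 (nat_lit 0x48)
 (.cons 1 (nat_lit 0x402090)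
 (.cons 1 (nat_lit 0x201240)
 (.cons 3 (nat_lit 0x6102)
 (.cons 6 (nat_lit 0x8010)
 (.cons 12 (nat_lit 0xe1c)
 .nil)))))))))
noncomputable def xa55 : Net := (.cons 12 (nat_lit 0xf60)
 (.cons 6 (nat_lit 0x2c032)
 (.cons 3 (nat_lit 0x83040)
 (.cons 1 (nat_lit 0x40)
 (.cons 1 (nat_lit 0x90082)
 (.cons 1 (nat_lit 0x40008)
 (.cons 3 (nat_lit 0x104000)
 (.cons 6 (nat_lit 0x3201c)
 (.cons 12 (nat_lit 0xc4c)
 .nil)))))))))
noncomputable def xa56 : Net := (.cons 12 (nat_lit 0x5bc)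
 (.cons 6 (nat_lit 0x501a)
 (.cons 3 (nat_lit 0x41000)
 (.cons 1 (nat_lit 0x1008)
 (.cons 1 (nat_lit 0x402090)
 (.cons 1 (nat_lit 0x201040)
 (.cons 3 (nat_lit 0x100086)
 (.cons 6 (nat_lit 0x800c)
 (.cons 12 (nat_lit 0x7ec)
 .nil)))))))))
noncomputable def xa57 : Net := (.cons 12 (nat_lit 0xa02)
 (.cons 6 (nat_lit 0x21026)
 (.cons 3 (nat_lit 0x41086)
 (.cons 1 (nat_lit 0x48208)
 (.cons 1 (nat_lit 0x90490)
 (.cons 1 (nat_lit 0x248040)
 (.cons 3 (nat_lit 0x4006)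
 (.cons 6 (nat_lit 0x20002)
 (.cons 12 (nat_lit 0xc68)
 .nil)))))))))
noncomputable def xa58 : Net := (.cons 12 (nat_lit 0x998)
 (.cons 6 (nat_lit 0x2502e)
 (.cons 3 (nat_lit 0xc7002)
 (.cons 1 (nat_lit 0x201000)
 (.cons 1 (nat_lit 0x402480)
 (.cons 1 (nat_lit 0x209240)
 (.cons 3 (nat_lit 0x6000)
 (.cons 6 (nat_lit 0x2006)
 (.cons 12 (nat_lit 0xcb8)
 .nil)))))))))
noncomputable def xa59 : Net := (.cons 12 (nat_lit 0x922)
 (.cons 6 (nat_lit 0x801c)
 (.cons 3 (nat_lit 0x2184)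
 (.cons 1 (nat_lit 0x41040)
 (.cons 1 (nat_lit 0x482092)
 (.cons 1 (nat_lit 0x249248)
 (.cons 3 (nat_lit 0x106082)
 (.cons 6 (nat_lit 0x4010)
 (.cons 12 (nat_lit 0x448)
 .nil)))))))))
noncomputable def xa60 : Net := (.cons 12 (nat_lit 0xa00)
 (.cons 6 (nat_lit 0x10014)
 (.cons 3 (nat_lit 0x3142)
 (.cons 1 (nat_lit 0x240008)
 (.cons 1 (nat_lit 0x480012)
 (.cons 1 (nat_lit 0x240008)
 (.cons 3 (nat_lit 0x2)
 (.cons 6 (nat_lit 0x10014)
 (.cons 12 (nat_lit 0xa00)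
 .nil)))))))))
noncomputable def xa61 : Net := (.cons 12 (nat_lit 0xf64)
 (.cons 6 (nat_lit 0x1004)
 (.cons 3 (nat_lit 0x1021c4)
 (.cons 1 (nat_lit 0x209008)
 (.cons 1 (nat_lit 0x412410)
 (.cons 1 (nat_lit 0x1048)
 (.cons 3 (nat_lit 0x102080)
 (.cons 6 (nat_lit 0x20)
 (.cons 12 (nat_lit 0xf64)
 .nil)))))))))
noncomputable def xa62 : Net := (.cons 12 (nat_lit 0xc64)
 (.cons 6 (nat_lit 0x3d028)
 (.cons 3 (nat_lit 0x106140)
 (.cons 1 (nat_lit 0x8)
 (.cons 1 (nat_lit 0x410)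
 (.cons 1 (nat_lit 0x8)
 (.cons 3 (nat_lit 0x100)
 (.cons 6 (nat_lit 0x10028)
 (.cons 12 (nat_lit 0xc64)
 .nil)))))))))
noncomputable def xa63 : Net := (.cons 12 (nat_lit 0xe68)
 (.cons 6 (nat_lit 0x8004)
 (.cons 3 (nat_lit 0x6040)
 (.cons 1 (nat_lit 0x41000)
 (.cons 1 (nat_lit 0x482400)
 (.cons 1 (nat_lit 0x49000)
 (.cons 3 (nat_lit 0x6000)
 (.cons 6 (nat_lit 0x8000)
 (.cons 12 (nat_lit 0x260)
 .nil)))))))))
noncomputable def xa64 : Net := (.cons 12 (nat_lit 0xc64)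
 (.cons 6 (nat_lit 0x3d028)
 (.cons 3 (nat_lit 0x106140)
 (.cons 1 (nat_lit 0x8)
 (.cons 1 (nat_lit 0x410)
 (.cons 1 (nat_lit 0x8)
 (.cons 3 (nat_lit 0x100)
 (.cons 6 (nat_lit 0x10028)
 (.cons 12 (nat_lit 0xc64)
 .nil)))))))))
noncomputable def xa65 : Net := (.cons 12 (nat_lit 0x24)
 (.cons 6 (nat_lit 0x900c)
 (.cons 3 (nat_lit 0x180044)
 (.cons 1 (nat_lit 0x208008)
 (.cons 1 (nat_lit 0x492410)
 (.cons 1 (nat_lit 0x208008)
 (.cons 3 (nat_lit 0x180004)
 (.cons 6 (nat_lit 0x800c)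
 (.cons 12 (nat_lit 0x24)
 .nil)))))))))
noncomputable def xa66 : Net := (.cons 12 (nat_lit 0xf02)
 (.cons 6 (nat_lit 0x28014)
 (.cons 3 (nat_lit 0x84006)
 (.cons 1 (nat_lit 0x1240)
 (.cons 1 (nat_lit 0x2482)
 (.cons 1 (nat_lit 0x41248)
 (.cons 3 (nat_lit 0x84006)
 (.cons 6 (nat_lit 0x20014)
 (.cons 12 (nat_lit 0xe02)
 .nil)))))))))
noncomputable def xa67 : Net := (.cons 12 (nat_lit 0x15c)
 (.cons 6 (nat_lit 0x16018)
 (.cons 3 (nat_lit 0x46)
 (.cons 1 (nat_lit 0x201008)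
 (.cons 1 (nat_lit 0x402090)
 (.cons 1 (nat_lit 0x249008)
 (.cons 3 (nat_lit 0x86000)
 (.cons 6 (nat_lit 0x2401c)
 (.cons 12 (nat_lit 0xa10)
 .nil)))))))))
noncomputable def xa68 : Net := (.cons 12 (nat_lit 0x770)
 (.cons 6 (nat_lit 0x2103a)
 (.cons 3 (nat_lit 0xc40c0)
 (.cons 1 (nat_lit 0x200048)
 (.cons 1 (nat_lit 0x400490)
 (.cons 1 (nat_lit 0x241040)
 (.cons 3 (nat_lit 0x2184)
 (.cons 6 (nat_lit 0x1a036)
 (.cons 12 (nat_lit 0xe0c)
 .nil)))))))))
noncomputable def xa69 : Net := (.cons 12 (nat_lit 0x234)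
 (.cons 6 (nat_lit 0x1c014)
 (.cons 3 (nat_lit 0x181086)
 (.cons 1 (nat_lit 0x200)
 (.cons 3 (nat_lit 0x80)
 (.cons 6 (nat_lit 0x38030)
 (.cons 12 (nat_lit 0xb10)
 .nil)))))))
noncomputable def xa70 : Net := (.cons 12 (nat_lit 0xa2c)
 (.cons 6 (nat_lit 0x1c00e)
 (.cons 3 (nat_lit 0x850c4)
 (.cons 1 (nat_lit 0x40208)
 (.cons 1 (nat_lit 0x82410)
 (.cons 1 (nat_lit 0x48048)
 (.cons 3 (nat_lit 0x104)
 (.cons 6 (nat_lit 0x3802c)
 (.cons 12 (nat_lit 0x21a)
 .nil)))))))))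
noncomputable def xa71 : Net := (.cons 12 (nat_lit 0x766)
 (.cons 6 (nat_lit 0x9002)
 (.cons 3 (nat_lit 0x181140)
 (.cons 1 (nat_lit 0x208000)
 (.cons 1 (nat_lit 0x410002)
 (.cons 1 (nat_lit 0x248200)
 (.cons 3 (nat_lit 0x180084)
 (.cons 6 (nat_lit 0xc002)
 (.cons 12 (nat_lit 0x926)
 .nil)))))))))
noncomputable def xa72 : Net := (.cons 12 (nat_lit 0x80c)
 (.cons 6 (nat_lit 0x1f02e)
 (.cons 3 (nat_lit 0x102044)
 (.cons 1 (nat_lit 0x9000)
 (.cons 1 (nat_lit 0x12082)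
 (.cons 1 (nat_lit 0x48200)
 (.cons 3 (nat_lit 0x80080)
 (.cons 6 (nat_lit 0x2800a)
 (.cons 12 (nat_lit 0x968)
 .nil)))))))))
noncomputable def xa73 : Net := (.cons 12 (nat_lit 0xbb4)
 (.cons 6 (nat_lit 0x32012)
 (.cons 3 (nat_lit 0x7186)
 (.cons 1 (nat_lit 0x41040)
 (.cons 1 (nat_lit 0x82482)
 (.cons 1 (nat_lit 0x48240)
 (.cons 3 (nat_lit 0x104000)
 (.cons 6 (nat_lit 0x14020)
 (.cons 12 (nat_lit 0x292)
 .nil)))))))))
noncomputable def xa74 : Net := (.cons 12 (nat_lit 0x9c0)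
 (.cons 6 (nat_lit 0x6004)
 (.cons 3 (nat_lit 0x140004)
 (.cons 1 (nat_lit 0x8040)
 (.cons 1 (nat_lit 0x10482)
 (.cons 1 (nat_lit 0x8040)
 (.cons 3 (nat_lit 0x4)
 (.cons 6 (nat_lit 0x4004)
 (.cons 12 (nat_lit 0x8c0)
 .nil)))))))))
noncomputable def xa75 : Net := (.cons 12 (nat_lit 0xa60)
 (.cons 6 (nat_lit 0x3002c)
 (.cons 3 (nat_lit 0x82080)
 (.cons 1 (nat_lit 0x40008)
 (.cons 1 (nat_lit 0x80410)
 (.cons 1 (nat_lit 0x41048)
 (.cons 3 (nat_lit 0x2080)
 (.cons 6 (nat_lit 0x10028)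
 (.cons 12 (nat_lit 0xa60)
 .nil)))))))))
noncomputable def xa76 : Net := (.cons 12 (nat_lit 0x324)
 (.cons 6 (nat_lit 0x26000)
 (.cons 3 (nat_lit 0x6144)
 (.cons 1 (nat_lit 0x8240)
 (.cons 1 (nat_lit 0x10480)
 (.cons 1 (nat_lit 0x248240)
 (.cons 3 (nat_lit 0x4000)
 (.cons 6 (nat_lit 0x6000)
 (.cons 12 (nat_lit 0x324)
 .nil)))))))))
noncomputable def xa77 : Net := (.cons 12 (nat_lit 0x77c)
 (.cons 6 (nat_lit 0x1f02c)
 (.cons 3 (nat_lit 0x107044)
 (.cons 1 (nat_lit 0x8008)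
 (.cons 1 (nat_lit 0x10010)
 (.cons 1 (nat_lit 0x48208)
 (.cons 3 (nat_lit 0x84000)
 (.cons 6 (nat_lit 0x2c024)
 (.cons 12 (nat_lit 0x2c)
 .nil)))))))))
noncomputable def xa78 : Net := (.cons 12 (nat_lit 0x590)
 (.cons 6 (nat_lit 0xa014)
 (.cons 3 (nat_lit 0x184)
 (.cons 1 (nat_lit 0x200040)
 (.cons 1 (nat_lit 0x402080)
 (.cons 1 (nat_lit 0x240040)
 (.cons 3 (nat_lit 0x84000)
 (.cons 6 (nat_lit 0x2014)
 (.cons 12 (nat_lit 0x480)
 .nil)))))))))
noncomputable def xa79 : Net := (.cons 12 (nat_lit 0x500)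
 (.cons 6 (nat_lit 0x35020)
 (.cons 3 (nat_lit 0xc4100)
 (.cons 1 (nat_lit 0x8)
 (.cons 1 (nat_lit 0x2090)
 (.cons 1 (nat_lit 0x8008)
 (.cons 3 (nat_lit 0x6100)
 (.cons 6 (nat_lit 0x22028)
 (.cons 12 (nat_lit 0x420)
 .nil)))))))))
noncomputable def xa80 : Net := (.cons 12 (nat_lit 0xe18)
 (.cons 6 (nat_lit 0x31028)
 (.cons 3 (nat_lit 0x41180)
 (.cons 1 (nat_lit 0x248208)
 (.cons 1 (nat_lit 0x490410)
 (.cons 1 (nat_lit 0x209200)
 (.cons 3 (nat_lit 0x6000)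
 (.cons 6 (nat_lit 0x14010)
 (.cons 12 (nat_lit 0x70)
 .nil)))))))))
noncomputable def xa81 : Net := (.cons 12 (nat_lit 0x57a)
 (.cons 6 (nat_lit 0x1401a)
 (.cons 3 (nat_lit 0x81100)
 (.cons 1 (nat_lit 0x200040)
 (.cons 1 (nat_lit 0x400090)
 (.cons 1 (nat_lit 0x8200)
 (.cons 3 (nat_lit 0x80100)
 (.cons 6 (nat_lit 0x10012)
 (.cons 12 (nat_lit 0x45a)
 .nil)))))))))
noncomputable def xa82 : Net := (.cons 12 (nat_lit 0xce4)
 (.cons 6 (nat_lit 0x1b010)
 (.cons 3 (nat_lit 0x43184)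
 (.cons 1 (nat_lit 0x8000)
 (.cons 1 (nat_lit 0x410410)
 (.cons 1 (nat_lit 0x49208)
 (.cons 3 (nat_lit 0x182084)
 (.cons 6 (nat_lit 0x2a030)
 (.cons 12 (nat_lit 0xbcc)
 .nil)))))))))
noncomputable def xa83 : Net := (.cons 12 (nat_lit 0xdc0)
 (.cons 6 (nat_lit 0x2c030)
 (.cons 3 (nat_lit 0x2000)
 (.cons 1 (nat_lit 0x40200)
 (.cons 1 (nat_lit 0x80410)
 (.cons 1 (nat_lit 0x40240)
 (.cons 6 (nat_lit 0x4030)
 (.cons 12 (nat_lit 0xcc0)
 .nil))))))))
noncomputable def xa84 : Net := (.cons 12 (nat_lit 0x4b0)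
 (.cons 6 (nat_lit 0x19020)
 (.cons 3 (nat_lit 0x47000)
 (.cons 1 (nat_lit 0x1240)
 (.cons 1 (nat_lit 0x2490)
 (.cons 1 (nat_lit 0x8048)
 (.cons 3 (nat_lit 0x4080)
 (.cons 6 (nat_lit 0x18018)
 (.cons 12 (nat_lit 0x9b8)
 .nil)))))))))
noncomputable def xa85 : Net := (.cons 12 (nat_lit 0xfa0)
 (.cons 6 (nat_lit 0x2d012)
 (.cons 3 (nat_lit 0x3144)
 (.cons 1 (nat_lit 0x1048)
 (.cons 1 (nat_lit 0x92090)
 (.cons 1 (nat_lit 0x41000)
 (.cons 3 (nat_lit 0x82186)
 (.cons 6 (nat_lit 0x2802c)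
 (.cons 12 (nat_lit 0xfe4)
 .nil)))))))))
noncomputable def xa86 : Net := (.cons 12 (nat_lit 0x2bc)
 (.cons 6 (nat_lit 0x3f007)
 (.cons 3 (nat_lit 0x1c0)
 (.cons 1 (nat_lit 0x40208)
 (.cons 1 (nat_lit 0x90492)
 (.cons 1 (nat_lit 0x241008)
 (.cons 3 (nat_lit 0x4006)
 (.cons 6 (nat_lit 0x2a000)
 (.cons 12 (nat_lit 0x406)
 .nil)))))))))
noncomputable def xa87 : Net := (.cons 12 (nat_lit 0xaa2)
 (.cons 6 (nat_lit 0x1003c)
 (.cons 3 (nat_lit 0x84006)
 (.cons 1 (nat_lit 0x40248)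
 (.cons 1 (nat_lit 0x90492)
 (.cons 1 (nat_lit 0x241248)
 (.cons 3 (nat_lit 0x84006)
 (.cons 6 (nat_lit 0x1003c)
 (.cons 12 (nat_lit 0xaa2)
 .nil)))))))))
noncomputable def xa88 : Net := (.cons 12 (nat_lit 0x14)
 (.cons 6 (nat_lit 0xf016)
 (.cons 3 (nat_lit 0x42144)
 (.cons 1 (nat_lit 0x1048)
 (.cons 1 (nat_lit 0x82090)
 (.cons 1 (nat_lit 0x201040)
 (.cons 3 (nat_lit 0x180100)
 (.cons 6 (nat_lit 0xa014)
 (.cons 12 (nat_lit 0x214)
 .nil)))))))))
noncomputable def xa89 : Net := (.cons 12 (nat_lit 0xee6)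
 (.cons 6 (nat_lit 0x901a)
 (.cons 3 (nat_lit 0xc4102)
 (.cons 1 (nat_lit 0x8048)
 (.cons 1 (nat_lit 0x90092)
 (.cons 1 (nat_lit 0x209008)
 (.cons 3 (nat_lit 0x104002)
 (.cons 6 (nat_lit 0x22036)
 (.cons 12 (nat_lit 0x7e4)
 .nil)))))))))
noncomputable def xa90 : Net := (.cons 12 (nat_lit 0xac)
 (.cons 6 (nat_lit 0x1a020)
 (.cons 3 (nat_lit 0x100004)
 (.cons 1 (nat_lit 0x201008)
 (.cons 1 (nat_lit 0x402012)
 (.cons 1 (nat_lit 0x209208)
 (.cons 3 (nat_lit 0x100004)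
 (.cons 6 (nat_lit 0x18020)
 (.cons 12 (nat_lit 0x8c)
 .nil)))))))))
noncomputable def xa91 : Net := (.cons 12 (nat_lit 0xb6a)
 (.cons 6 (nat_lit 0x38004)
 (.cons 3 (nat_lit 0x2102)
 (.cons 1 (nat_lit 0x40040)
 (.cons 1 (nat_lit 0x80080)
 (.cons 1 (nat_lit 0x41248)
 (.cons 3 (nat_lit 0x2102)
 (.cons 6 (nat_lit 0x10000)
 (.cons 12 (nat_lit 0xb6a)
 .nil)))))))))
noncomputable def xa92 : Net := (.cons 12 (nat_lit 0xf68)
 (.cons 6 (nat_lit 0x801c)
 (.cons 3 (nat_lit 0x5104)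
 (.cons 1 (nat_lit 0x40248)
 (.cons 1 (nat_lit 0x482490)
 (.cons 1 (nat_lit 0x240240)
 (.cons 3 (nat_lit 0x104004)
 (.cons 6 (nat_lit 0x8010)
 (.cons 12 (nat_lit 0x220)
 .nil)))))))))
noncomputable def xa93 : Net := (.cons 12 (nat_lit 0x24)
 (.cons 6 (nat_lit 0x900c)
 (.cons 3 (nat_lit 0x180044)
 (.cons 1 (nat_lit 0x208008)
 (.cons 1 (nat_lit 0x492410)
 (.cons 1 (nat_lit 0x208008)
 (.cons 3 (nat_lit 0x180004)
 (.cons 6 (nat_lit 0x800c)
 (.cons 12 (nat_lit 0x24)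
 .nil)))))))))
noncomputable def xa94 : Net := (.cons 12 (nat_lit 0x4ca)
 (.cons 6 (nat_lit 0x2020)
 (.cons 3 (nat_lit 0x105002)
 (.cons 1 (nat_lit 0x40040)
 (.cons 1 (nat_lit 0x80080)
 (.cons 1 (nat_lit 0x40248)
 (.cons 3 (nat_lit 0x100002)
 (.cons 12 (nat_lit 0x4ca)
 .nil))))))))
noncomputable def xa95 : Net := (.cons 12 (nat_lit 0x62c)
 (.cons 6 (nat_lit 0x4020)
 (.cons 3 (nat_lit 0x5100)
 (.cons 1 (nat_lit 0x8)
 (.cons 1 (nat_lit 0x2092)
 (.cons 1 (nat_lit 0x200208)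
 (.cons 3 (nat_lit 0x4100)
 (.cons 6 (nat_lit 0x20)
 (.cons 12 (nat_lit 0x2c)
 .nil)))))))))
noncomputable def xa96 : Net := (.cons 12 (nat_lit 0xfb4)
 (.cons 6 (nat_lit 0x1a03a)
 (.cons 3 (nat_lit 0x41184)
 (.cons 1 (nat_lit 0x200008)
 (.cons 1 (nat_lit 0x480410)
 (.cons 1 (nat_lit 0x248000)
 (.cons 3 (nat_lit 0x100006)
 (.cons 6 (nat_lit 0x1a02c)
 (.cons 12 (nat_lit 0x9e4)
 .nil)))))))))
noncomputable def xa97 : Net := (.cons 12 (nat_lit 0xda0)
 (.cons 6 (nat_lit 0x2004)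
 (.cons 3 (nat_lit 0x40104)
 (.cons 1 (nat_lit 0x208040)
 (.cons 1 (nat_lit 0x492082)
 (.cons 1 (nat_lit 0x48040)
 (.cons 3 (nat_lit 0x180104)
 (.cons 6 (nat_lit 0x2000)
 (.cons 12 (nat_lit 0xda0)
 .nil)))))))))
noncomputable def xa98 : Net := (.cons 12 (nat_lit 0x348)
 (.cons 6 (nat_lit 0x8006)
 (.cons 3 (nat_lit 0x105000)
 (.cons 1 (nat_lit 0x200200)
 (.cons 6 (nat_lit 0x8000)
 (.cons 12 (nat_lit 0x308)
 .nil))))))
noncomputable def xa99 : Net := (.cons 12 (nat_lit 0xb08)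
 (.cons 6 (nat_lit 0x3c02a)
 (.cons 3 (nat_lit 0x102084)
 (.cons 1 (nat_lit 0x208)
 (.cons 1 (nat_lit 0x10490)
 (.cons 1 (nat_lit 0x1208)
 (.cons 3 (nat_lit 0x2084)
 (.cons 6 (nat_lit 0x34028)
 (.cons 12 (nat_lit 0xb08)
 .nil)))))))))
noncomputable def xa100 : Net := (.cons 12 (nat_lit 0xb6a)
 (.cons 6 (nat_lit 0x38004)
 (.cons 3 (nat_lit 0x2102)
 (.cons 1 (nat_lit 0x40040)
 (.cons 1 (nat_lit 0x80080)
 (.cons 1 (nat_lit 0x41248)
 (.cons 3 (nat_lit 0x2102)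
 (.cons 6 (nat_lit 0x10000)
 (.cons 12 (nat_lit 0xb6a)
 .nil)))))))))
noncomputable def xa101 : Net := (.cons 12 (nat_lit 0xc4c)
 (.cons 6 (nat_lit 0x30000)
 (.cons 3 (nat_lit 0x107100)
 (.cons 1 (nat_lit 0x200008)
 (.cons 1 (nat_lit 0x412010)
 (.cons 1 (nat_lit 0x200208)
 (.cons 3 (nat_lit 0x100000)
 (.cons 6 (nat_lit 0x30000)
 (.cons 12 (nat_lit 0xc0c)
 .nil)))))))))
noncomputable def xa102 : Net := (.cons 12 (nat_lit 0x2a)
 (.cons 6 (nat_lit 0x2903d)
 (.cons 3 (nat_lit 0x46001)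
 (.cons 1 (nat_lit 0x40001)
 (.cons 1 (nat_lit 0x482012)
 (.cons 1 (nat_lit 0x41041)
 (.cons 3 (nat_lit 0x102002)
 (.cons 6 (nat_lit 0x20022)
 (.cons 12 (nat_lit 0xd4)
 .nil)))))))))
noncomputable def xa103 : Net := (.cons 12 (nat_lit 0x341)
 (.cons 6 (nat_lit 0x3c02a)
 (.cons 3 (nat_lit 0x430c6)
 (.cons 1 (nat_lit 0x40000)
 (.cons 1 (nat_lit 0x90400)
 (.cons 1 (nat_lit 0x241041)
 (.cons 3 (nat_lit 0x6182)
 (.cons 6 (nat_lit 0xc000)
 (.cons 12 (nat_lit 0xe0e)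
 .nil)))))))))
noncomputable def xa104 : Net := (.cons 12 (nat_lit 0x3b6)
 (.cons 6 (nat_lit 0x2f030)
 (.cons 3 (nat_lit 0x2044)
 (.cons 1 (nat_lit 0x1040)
 (.cons 1 (nat_lit 0x82090)
 (.cons 1 (nat_lit 0x40248)
 (.cons 3 (nat_lit 0x102180)
 (.cons 6 (nat_lit 0x14030)
 (.cons 12 (nat_lit 0x45c)
 .nil)))))))))
noncomputable def xa105 : Net := (.cons 12 (nat_lit 0x884)
 (.cons 6 (nat_lit 0x3f012)
 (.cons 3 (nat_lit 0x3002)
 (.cons 1 (nat_lit 0x201040)
 (.cons 1 (nat_lit 0x412082)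
 (.cons 1 (nat_lit 0x248240)
 (.cons 3 (nat_lit 0x6100)
 (.cons 6 (nat_lit 0x14030)
 (.cons 12 (nat_lit 0x410)
 .nil)))))))))
noncomputable def xa106 : Net := (.cons 12 (nat_lit 0x30a)
 (.cons 6 (nat_lit 0x3f018)
 (.cons 3 (nat_lit 0x101000)
 (.cons 1 (nat_lit 0x8208)
 (.cons 1 (nat_lit 0x10412)
 (.cons 1 (nat_lit 0x40240)
 (.cons 3 (nat_lit 0x86100)
 (.cons 6 (nat_lit 0x8034)
 (.cons 12 (nat_lit 0x35a)
 .nil)))))))))
noncomputable def xa107 : Net := (.cons 12 (nat_lit 0x912)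
 (.cons 6 (nat_lit 0x38020)
 (.cons 3 (nat_lit 0x1870c4)
 (.cons 1 (nat_lit 0x240000)
 (.cons 1 (nat_lit 0x490482)
 (.cons 1 (nat_lit 0x49040)
 (.cons 3 (nat_lit 0x80000)
 (.cons 6 (nat_lit 0x20000)
 (.cons 12 (nat_lit 0xa84)
 .nil)))))))))
noncomputable def xa108 : Net := (.cons 12 (nat_lit 0xb40)
 (.cons 6 (nat_lit 0x1a000)
 (.cons 3 (nat_lit 0x146180)
 (.cons 1 (nat_lit 0x200)
 (.cons 1 (nat_lit 0x402)
 (.cons 1 (nat_lit 0x8200)
 (.cons 3 (nat_lit 0x2100)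
 (.cons 6 (nat_lit 0xa000)
 (.cons 12 (nat_lit 0xb40)
 .nil)))))))))
noncomputable def xa109 : Net := (.cons 12 (nat_lit 0xd02)
 (.cons 6 (nat_lit 0x20020)
 (.cons 3 (nat_lit 0x184084)
 (.cons 1 (nat_lit 0x208040)
 (.cons 1 (nat_lit 0x410480)
 (.cons 1 (nat_lit 0x248040)
 (.cons 3 (nat_lit 0x184080)
 (.cons 6 (nat_lit 0x20)
 (.cons 12 (nat_lit 0xd00)
 .nil)))))))))
noncomputable def xa110 : Net := (.cons 12 (nat_lit 0x2c4)
 (.cons 6 (nat_lit 0x26034)
 (.cons 3 (nat_lit 0x86146)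
 (.cons 1 (nat_lit 0x40000)
 (.cons 1 (nat_lit 0x480012)
 (.cons 1 (nat_lit 0x48000)
 (.cons 3 (nat_lit 0x82000)
 (.cons 6 (nat_lit 0x26034)
 (.cons 12 (nat_lit 0x2c4)
 .nil)))))))))
noncomputable def xa111 : Net := (.cons 12 (nat_lit 0xecc)
 (.cons 6 (nat_lit 0x36028)
 (.cons 3 (nat_lit 0x1040c6)
 (.cons 1 (nat_lit 0x40048)
 (.cons 1 (nat_lit 0x92090)
 (.cons 1 (nat_lit 0x200040)
 (.cons 3 (nat_lit 0x100106)
 (.cons 6 (nat_lit 0x14028)
 (.cons 12 (nat_lit 0x6c8)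
 .nil)))))))))
noncomputable def xa112 : Net := (.cons 12 (nat_lit 0x364)
 (.cons 6 (nat_lit 0x24018)
 (.cons 3 (nat_lit 0x100186)
 (.cons 1 (nat_lit 0x48040)
 (.cons 1 (nat_lit 0x92482)
 (.cons 1 (nat_lit 0x48048)
 (.cons 3 (nat_lit 0x100186)
 (.cons 6 (nat_lit 0x24018)
 (.cons 12 (nat_lit 0x360)
 .nil)))))))))
noncomputable def xa113 : Net := (.cons 12 (nat_lit 0x9c0)
 (.cons 6 (nat_lit 0x6004)
 (.cons 3 (nat_lit 0x140004)
 (.cons 1 (nat_lit 0x8040)
 (.cons 1 (nat_lit 0x10482)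
 (.cons 1 (nat_lit 0x8040)
 (.cons 3 (nat_lit 0x4)
 (.cons 6 (nat_lit 0x4004)
 (.cons 12 (nat_lit 0x8c0)
 .nil)))))))))
noncomputable def xa114 : Net := (.cons 12 (nat_lit 0xda0)
 (.cons 6 (nat_lit 0x2004)
 (.cons 3 (nat_lit 0x40104)
 (.cons 1 (nat_lit 0x208040)
 (.cons 1 (nat_lit 0x492082)
 (.cons 1 (nat_lit 0x48040)
 (.cons 3 (nat_lit 0x180104)
 (.cons 6 (nat_lit 0x2000)
 (.cons 12 (nat_lit 0xda0)
 .nil)))))))))
noncomputable def xa115 : Net := (.cons 12 (nat_lit 0xe8)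
 (.cons 6 (nat_lit 0x2c03c)
 (.cons 3 (nat_lit 0x106140)
 (.cons 1 (nat_lit 0x240)
 (.cons 1 (nat_lit 0x492)
 (.cons 1 (nat_lit 0x48240)
 (.cons 3 (nat_lit 0x2000)
 (.cons 6 (nat_lit 0x803c)
 (.cons 12 (nat_lit 0xe8)
 .nil)))))))))
noncomputable def xa116 : Net := (.cons 12 (nat_lit 0x95e)
 (.cons 6 (nat_lit 0x3e01a)
 (.cons 3 (nat_lit 0x1031c0)
 (.cons 1 (nat_lit 0x1040)
 (.cons 1 (nat_lit 0x2480)
 (.cons 1 (nat_lit 0x200048)
 (.cons 3 (nat_lit 0x80080)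
 (.cons 6 (nat_lit 0x28028)
 (.cons 12 (nat_lit 0xe0c)
 .nil)))))))))
noncomputable def xa117 : Net := (.cons 12 (nat_lit 0x3ea)
 (.cons 6 (nat_lit 0x2c03c)
 (.cons 3 (nat_lit 0x43184)
 (.cons 1 (nat_lit 0x40)
 (.cons 1 (nat_lit 0x90090)
 (.cons 1 (nat_lit 0x41248)
 (.cons 3 (nat_lit 0x182086)
 (.cons 6 (nat_lit 0x14)
 (.cons 12 (nat_lit 0x83e)
 .nil)))))))))
noncomputable def xa118 : Net := (.cons 12 (nat_lit 0x28a)
 (.cons 6 (nat_lit 0xa036)
 (.cons 3 (nat_lit 0x101180)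
 (.cons 1 (nat_lit 0x40208)
 (.cons 1 (nat_lit 0x82410)
 (.cons 1 (nat_lit 0x40000)
 (.cons 3 (nat_lit 0x104102)
 (.cons 6 (nat_lit 0x202c)
 (.cons 12 (nat_lit 0x2da)
 .nil)))))))))
noncomputable def xa119 : Net := (.cons 12 (nat_lit 0x338)
 (.cons 6 (nat_lit 0x32000)
 (.cons 3 (nat_lit 0x102104)
 (.cons 1 (nat_lit 0x40040)
 (.cons 1 (nat_lit 0x80080)
 (.cons 1 (nat_lit 0x241240)
 (.cons 3 (nat_lit 0x180)
 (.cons 6 (nat_lit 0x3a004)
 (.cons 12 (nat_lit 0xb38)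
 .nil)))))))))
noncomputable def xa120 : Net := (.cons 12 (nat_lit 0x154)
 (.cons 6 (nat_lit 0x2802e)
 (.cons 3 (nat_lit 0x103106)
 (.cons 1 (nat_lit 0x1040)
 (.cons 1 (nat_lit 0x12090)
 (.cons 1 (nat_lit 0x208048)
 (.cons 3 (nat_lit 0x80004)
 (.cons 6 (nat_lit 0x2202a)
 (.cons 12 (nat_lit 0xab0)
 .nil)))))))))
noncomputable def xa121 : Net := (.cons 12 (nat_lit 0x3cc)
 (.cons 6 (nat_lit 0x2f00e)
 (.cons 3 (nat_lit 0x102144)
 (.cons 1 (nat_lit 0x1048)
 (.cons 1 (nat_lit 0x2090)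
 (.cons 1 (nat_lit 0x48040)
 (.cons 3 (nat_lit 0x106)
 (.cons 6 (nat_lit 0x3c00e)
 (.cons 12 (nat_lit 0x158)
 .nil)))))))))
noncomputable def xa122 : Net := (.cons 12 (nat_lit 0x970)
 (.cons 6 (nat_lit 0x8014)
 (.cons 3 (nat_lit 0x1c4104)
 (.cons 1 (nat_lit 0x8040)
 (.cons 1 (nat_lit 0x12080)
 (.cons 1 (nat_lit 0x8240)
 (.cons 3 (nat_lit 0x4100)
 (.cons 6 (nat_lit 0x8014)
 (.cons 12 (nat_lit 0x970)
 .nil)))))))))
noncomputable def xa123 : Net := (.cons 12 (nat_lit 0x228)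
 (.cons 6 (nat_lit 0x34028)
 (.cons 3 (nat_lit 0x184000)
 (.cons 1 (nat_lit 0x40248)
 (.cons 1 (nat_lit 0x82490)
 (.cons 1 (nat_lit 0x240248)
 (.cons 3 (nat_lit 0x184000)
 (.cons 6 (nat_lit 0x20000)
 (.cons 12 (nat_lit 0x228)
 .nil)))))))))
noncomputable def xa124 : Net := (.cons 12 (nat_lit 0x360)
 (.cons 6 (nat_lit 0x602e)
 (.cons 3 (nat_lit 0x187184)
 (.cons 1 (nat_lit 0x200040)
 (.cons 1 (nat_lit 0x410082)
 (.cons 1 (nat_lit 0x8008)
 (.cons 3 (nat_lit 0x6180)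
 (.cons 6 (nat_lit 0x8026)
 (.cons 12 (nat_lit 0x360)
 .nil)))))))))
noncomputable def xa125 : Net := (.cons 12 (nat_lit 0xf88)
 (.cons 6 (nat_lit 0x16002)
 (.cons 3 (nat_lit 0x103082)
 (.cons 1 (nat_lit 0x9040)
 (.cons 1 (nat_lit 0x12080)
 (.cons 1 (nat_lit 0x209008)
 (.cons 3 (nat_lit 0x80)
 (.cons 6 (nat_lit 0x3000a)
 (.cons 12 (nat_lit 0xd98)
 .nil)))))))))
noncomputable def xa126 : Net := (.cons 12 (nat_lit 0x7d2)
 (.cons 6 (nat_lit 0x8026)
 (.cons 3 (nat_lit 0x6080)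
 (.cons 1 (nat_lit 0x40000)
 (.cons 1 (nat_lit 0x80010)
 (.cons 1 (nat_lit 0x41000)
 (.cons 3 (nat_lit 0x2004)
 (.cons 6 (nat_lit 0x30024)
 (.cons 12 (nat_lit 0x592)
 .nil)))))))))
noncomputable def xa127 : Net := (.cons 12 (nat_lit 0x518)
 (.cons 6 (nat_lit 0x10010)
 (.cons 3 (nat_lit 0x143140)
 (.cons 1 (nat_lit 0x48000)
 (.cons 1 (nat_lit 0x92400)
 (.cons 1 (nat_lit 0x249008)
 (.cons 3 (nat_lit 0x104000)
 (.cons 6 (nat_lit 0x14010)
 (.cons 12 (nat_lit 0x350)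
 .nil)))))))))
noncomputable def xa128 : Net := (.cons 12 (nat_lit 0x158)
 (.cons 6 (nat_lit 0x23010)
 (.cons 3 (nat_lit 0x80040)
 (.cons 1 (nat_lit 0x48000)
 (.cons 1 (nat_lit 0x90400)
 (.cons 1 (nat_lit 0x209008)
 (.cons 3 (nat_lit 0x2100)
 (.cons 6 (nat_lit 0x10018)
 (.cons 12 (nat_lit 0x518)
 .nil)))))))))
noncomputable def xa129 : Net := (.cons 12 (nat_lit 0xc10)
 (.cons 6 (nat_lit 0x1b010)
 (.cons 3 (nat_lit 0x2140)
 (.cons 1 (nat_lit 0x8000)
 (.cons 1 (nat_lit 0x12000)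
 (.cons 1 (nat_lit 0x208008)
 (.cons 3 (nat_lit 0x2000)
 (.cons 6 (nat_lit 0x18010)
 (.cons 12 (nat_lit 0xc10)
 .nil)))))))))
noncomputable def xa130 : Net := (.cons 12 (nat_lit 0xec8)
 (.cons 6 (nat_lit 0x4024)
 (.cons 3 (nat_lit 0x60c2)
 (.cons 1 (nat_lit 0x41008)
 (.cons 1 (nat_lit 0x82012)
 (.cons 1 (nat_lit 0x249008)
 (.cons 3 (nat_lit 0x6002)
 (.cons 6 (nat_lit 0x4024)
 (.cons 12 (nat_lit 0xec8)
 .nil)))))))))
noncomputable def xa131 : Net := (.cons 12 (nat_lit 0xcc0)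
 (.cons 6 (nat_lit 0x1034)
 (.cons 3 (nat_lit 0x60c2)
 (.cons 1 (nat_lit 0x8)
 (.cons 1 (nat_lit 0x12)
 (.cons 1 (nat_lit 0x208008)
 (.cons 3 (nat_lit 0x2002)
 (.cons 6 (nat_lit 0x34)
 (.cons 12 (nat_lit 0xcc0)
 .nil)))))))))
noncomputable def xa132 : Net := (.cons 12 (nat_lit 0xe0)
 (.cons 6 (nat_lit 0x38028)
 (.cons 3 (nat_lit 0x44040)
 (.cons 1 (nat_lit 0x40)
 (.cons 1 (nat_lit 0x480)
 (.cons 1 (nat_lit 0x9208)
 (.cons 3 (nat_lit 0x180)
 (.cons 6 (nat_lit 0x38028)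
 (.cons 12 (nat_lit 0xe0)
 .nil)))))))))
noncomputable def xa133 : Net := (.cons 12 (nat_lit 0x78d)
 (.cons 6 (nat_lit 0x3c014)
 (.cons 3 (nat_lit 0x43087)
 (.cons 1 (nat_lit 0x48200)
 (.cons 1 (nat_lit 0x92492)
 (.cons 1 (nat_lit 0x9048)
 (.cons 3 (nat_lit 0x104082)
 (.cons 6 (nat_lit 0x22020)
 (.cons 12 (nat_lit 0xfdc)
 .nil)))))))))
noncomputable def xa134 : Net := (.cons 12 (nat_lit 0x338)
 (.cons 6 (nat_lit 0x3703e)
 (.cons 3 (nat_lit 0x1810c5)
 (.cons 1 (nat_lit 0x40009)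
 (.cons 1 (nat_lit 0x92012)
 (.cons 1 (nat_lit 0x1049)
 (.cons 3 (nat_lit 0x100080)
 (.cons 6 (nat_lit 0x3c03c)
 (.cons 12 (nat_lit 0xb20)
 .nil)))))))))
noncomputable def xa135 : Net := (.cons 12 (nat_lit 0x1e0)
 (.cons 6 (nat_lit 0x1c03c)
 (.cons 3 (nat_lit 0x147186)
 (.cons 1 (nat_lit 0x1040)
 (.cons 1 (nat_lit 0x12090)
 (.cons 1 (nat_lit 0x40048)
 (.cons 3 (nat_lit 0x4004)
 (.cons 6 (nat_lit 0x12014)
 (.cons 12 (nat_lit 0x4aa)
 .nil)))))))))
noncomputable def xa136 : Net := (.cons 12 (nat_lit 0xb08)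
 (.cons 6 (nat_lit 0x3c02a)
 (.cons 3 (nat_lit 0x102084)
 (.cons 1 (nat_lit 0x208)
 (.cons 1 (nat_lit 0x10490)
 (.cons 1 (nat_lit 0x1208)
 (.cons 3 (nat_lit 0x2084)
 (.cons 6 (nat_lit 0x34028)
 (.cons 12 (nat_lit 0xb08)
 .nil)))))))))
noncomputable def xa137 : Net := (.cons 12 (nat_lit 0x120)
 (.cons 6 (nat_lit 0x2c016)
 (.cons 3 (nat_lit 0x144186)
 (.cons 1 (nat_lit 0x248040)
 (.cons 1 (nat_lit 0x492480)
 (.cons 1 (nat_lit 0x248040)
 (.cons 3 (nat_lit 0x4180)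
 (.cons 6 (nat_lit 0x20016)
 (.cons 12 (nat_lit 0x120)
 .nil)))))))))
noncomputable def xa138 : Net := (.cons 12 (nat_lit 0x222)
 (.cons 6 (nat_lit 0x3900a)
 (.cons 3 (nat_lit 0x145186)
 (.cons 1 (nat_lit 0x48048)
 (.cons 1 (nat_lit 0x92490)
 (.cons 1 (nat_lit 0x40240)
 (.cons 3 (nat_lit 0x100102)
 (.cons 6 (nat_lit 0x1400a)
 (.cons 12 (nat_lit 0x668)
 .nil)))))))))
noncomputable def xa139 : Net := (.cons 12 (nat_lit 0x1c4)
 (.cons 6 (nat_lit 0x24020)
 (.cons 3 (nat_lit 0x106100)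
 (.cons 1 (nat_lit 0x200000)
 (.cons 1 (nat_lit 0x480402)
 (.cons 1 (nat_lit 0x208000)
 (.cons 3 (nat_lit 0x102100)
 (.cons 6 (nat_lit 0x24000)
 (.cons 12 (nat_lit 0x184)
 .nil)))))))))
noncomputable def xa140 : Net := (.cons 12 (nat_lit 0xf68)
 (.cons 6 (nat_lit 0x3200a)
 (.cons 3 (nat_lit 0x104046)
 (.cons 1 (nat_lit 0x10080)
 (.cons 1 (nat_lit 0x40008)
 (.cons 3 (nat_lit 0x4002)
 (.cons 6 (nat_lit 0x3200a)
 (.cons 12 (nat_lit 0x768)
 .nil))))))))
noncomputable def xa141 : Net := (.cons 12 (nat_lit 0x674)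
 (.cons 6 (nat_lit 0x1f00c)
 (.cons 3 (nat_lit 0x103000)
 (.cons 1 (nat_lit 0x8)
 (.cons 1 (nat_lit 0x2010)
 (.cons 1 (nat_lit 0x48208)
 (.cons 3 (nat_lit 0x2004)
 (.cons 6 (nat_lit 0x38018)
 (.cons 12 (nat_lit 0x710)
 .nil)))))))))
noncomputable def xa142 : Net := (.cons 12 (nat_lit 0xb2e)
 (.cons 6 (nat_lit 0x2038)
 (.cons 3 (nat_lit 0x1146)
 (.cons 1 (nat_lit 0x40208)
 (.cons 1 (nat_lit 0x80412)
 (.cons 1 (nat_lit 0x249200)
 (.cons 3 (nat_lit 0x100004)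
 (.cons 6 (nat_lit 0x22014)
 (.cons 12 (nat_lit 0xb2a)
 .nil)))))))))
noncomputable def xa143 : Net := (.cons 12 (nat_lit 0x228)
 (.cons 6 (nat_lit 0x34028)
 (.cons 3 (nat_lit 0x184000)
 (.cons 1 (nat_lit 0x40248)
 (.cons 1 (nat_lit 0x82490)
 (.cons 1 (nat_lit 0x240248)
 (.cons 3 (nat_lit 0x184000)
 (.cons 6 (nat_lit 0x20000)
 (.cons 12 (nat_lit 0x228)
 .nil)))))))))
noncomputable def xa144 : Net := (.cons 12 (nat_lit 0x970)
 (.cons 6 (nat_lit 0x8014)
 (.cons 3 (nat_lit 0x1c4104)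
 (.cons 1 (nat_lit 0x8040)
 (.cons 1 (nat_lit 0x12080)
 (.cons 1 (nat_lit 0x8240)
 (.cons 3 (nat_lit 0x4100)
 (.cons 6 (nat_lit 0x8014)
 (.cons 12 (nat_lit 0x970)
 .nil)))))))))
noncomputable def xa145 : Net := (.cons 12 (nat_lit 0x228)
 (.cons 6 (nat_lit 0x2600a)
 (.cons 3 (nat_lit 0x1c0)
 (.cons 1 (nat_lit 0x8)
 (.cons 1 (nat_lit 0x12)
 (.cons 1 (nat_lit 0x40008)
 (.cons 6 (nat_lit 0x200a)
 (.cons 12 (nat_lit 0x228)
 .nil))))))))
noncomputable def xa146 : Net := (.cons 12 (nat_lit 0x120)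
 (.cons 6 (nat_lit 0x2c016)
 (.cons 3 (nat_lit 0x144186)
 (.cons 1 (nat_lit 0x248040)
 (.cons 1 (nat_lit 0x492480)
 (.cons 1 (nat_lit 0x248040)
 (.cons 3 (nat_lit 0x4180)
 (.cons 6 (nat_lit 0x20016)
 (.cons 12 (nat_lit 0x120)
 .nil)))))))))
noncomputable def xa147 : Net := (.cons 12 (nat_lit 0x1c4)
 (.cons 6 (nat_lit 0x24020)
 (.cons 3 (nat_lit 0x106100)
 (.cons 1 (nat_lit 0x200000)
 (.cons 1 (nat_lit 0x480402)
 (.cons 1 (nat_lit 0x208000)
 (.cons 3 (nat_lit 0x102100)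
 (.cons 6 (nat_lit 0x24000)
 (.cons 12 (nat_lit 0x184)
 .nil)))))))))
noncomputable def xa148 : Net := (.cons 12 (nat_lit 0xbd3)
 (.cons 6 (nat_lit 0x35012)
 (.cons 3 (nat_lit 0x1810c0)
 (.cons 1 (nat_lit 0x40000)
 (.cons 1 (nat_lit 0x482412)
 (.cons 1 (nat_lit 0x201048)
 (.cons 3 (nat_lit 0x180000)
 (.cons 6 (nat_lit 0x6)
 (.cons 12 (nat_lit 0x42c)
 .nil)))))))))
noncomputable def xa149 : Net := (.cons 12 (nat_lit 0x53b)
 (.cons 6 (nat_lit 0x2e00b)
 (.cons 3 (nat_lit 0x1c11c5)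
 (.cons 1 (nat_lit 0x1000)
 (.cons 1 (nat_lit 0x492410)
 (.cons 1 (nat_lit 0x41200)
 (.cons 3 (nat_lit 0x80180)
 (.cons 6 (nat_lit 0x30010)
 (.cons 12 (nat_lit 0xac4)
 .nil)))))))))
noncomputable def xa150 : Net := (.cons 12 (nat_lit 0xc3c)
 (.cons 6 (nat_lit 0x1b005)
 (.cons 3 (nat_lit 0x1c60c2)
 (.cons 1 (nat_lit 0x48200)
 (.cons 1 (nat_lit 0x92482)
 (.cons 1 (nat_lit 0x8201)
 (.cons 3 (nat_lit 0x182086)
 (.cons 6 (nat_lit 0xc008)
 (.cons 12 (nat_lit 0x800)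
 .nil)))))))))
noncomputable def xa151 : Net := (.cons 12 (nat_lit 0xa0c)
 (.cons 6 (nat_lit 0x1e00e)
 (.cons 3 (nat_lit 0x6046)
 (.cons 1 (nat_lit 0x40208)
 (.cons 1 (nat_lit 0x80490)
 (.cons 1 (nat_lit 0x1200)
 (.cons 3 (nat_lit 0x102086)
 (.cons 6 (nat_lit 0x12028)
 (.cons 12 (nat_lit 0xb0e)
 .nil)))))))))
noncomputable def xa152 : Net := (.cons 12 (nat_lit 0xfc3)
 (.cons 6 (nat_lit 0x6022)
 (.cons 3 (nat_lit 0x142006)
 (.cons 1 (nat_lit 0x1000)
 (.cons 1 (nat_lit 0x402400)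
 (.cons 1 (nat_lit 0x200208)
 (.cons 3 (nat_lit 0x104080)
 (.cons 6 (nat_lit 0x12004)
 (.cons 12 (nat_lit 0xc22)
 .nil)))))))))
noncomputable def xa153 : Net := (.cons 12 (nat_lit 0xd1d)
 (.cons 6 (nat_lit 0x1600d)
 (.cons 3 (nat_lit 0xc0141)
 (.cons 1 (nat_lit 0x41208)
 (.cons 1 (nat_lit 0x82490)
 (.cons 1 (nat_lit 0x200200)
 (.cons 6 (nat_lit 0x14014)
 (.cons 12 (nat_lit 0x7c0)
 .nil))))))))
noncomputable def xa154 : Net := (.cons 12 (nat_lit 0xcf0)
 (.cons 6 (nat_lit 0x3c00d)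
 (.cons 3 (nat_lit 0xc1106)
 (.cons 1 (nat_lit 0x49)
 (.cons 1 (nat_lit 0x400092)
 (.cons 1 (nat_lit 0x209248)
 (.cons 3 (nat_lit 0x182)
 (.cons 6 (nat_lit 0x2a03c)
 (.cons 12 (nat_lit 0x88)
 .nil)))))))))
noncomputable def xa155 : Net := (.cons 12 (nat_lit 0xc2)
 (.cons 6 (nat_lit 0x2000c)
 (.cons 3 (nat_lit 0x84145)
 (.cons 1 (nat_lit 0x1001)
 (.cons 1 (nat_lit 0x2092)
 (.cons 1 (nat_lit 0x49008)
 (.cons 3 (nat_lit 0x84102)
 (.cons 6 (nat_lit 0x2000c)
 (.cons 12 (nat_lit 0xc2)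
 .nil)))))))))
noncomputable def xa156 : Net := (.cons 12 (nat_lit 0x366)
 (.cons 6 (nat_lit 0x2c011)
 (.cons 3 (nat_lit 0x44185)
 (.cons 1 (nat_lit 0x1200)
 (.cons 1 (nat_lit 0x412480)
 (.cons 1 (nat_lit 0x41201)
 (.cons 3 (nat_lit 0x4180)
 (.cons 6 (nat_lit 0x14010)
 (.cons 12 (nat_lit 0xb76)
 .nil)))))))))
noncomputable def xa157 : Net := (.cons 12 (nat_lit 0xf68)
 (.cons 6 (nat_lit 0x10011)
 (.cons 3 (nat_lit 0xc6000)
 (.cons 1 (nat_lit 0x41000)
 (.cons 1 (nat_lit 0x482400)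
 (.cons 1 (nat_lit 0x209008)
 (.cons 3 (nat_lit 0x106000)
 (.cons 6 (nat_lit 0x10010)
 (.cons 12 (nat_lit 0xf68)
 .nil)))))))))
noncomputable def xa158 : Net := (.cons 12 (nat_lit 0x58b)
 (.cons 6 (nat_lit 0x38019)
 (.cons 3 (nat_lit 0xc5080)
 (.cons 1 (nat_lit 0x49008)
 (.cons 1 (nat_lit 0x92410)
 (.cons 1 (nat_lit 0x9001)
 (.cons 3 (nat_lit 0x180100)
 (.cons 6 (nat_lit 0x18022)
 (.cons 12 (nat_lit 0x4ea)
 .nil)))))))))
noncomputable def xa159 : Net := (.cons 12 (nat_lit 0x750)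
 (.cons 6 (nat_lit 0xa028)
 (.cons 3 (nat_lit 0x183002)
 (.cons 1 (nat_lit 0x200201)
 (.cons 3 (nat_lit 0x80002)
 (.cons 6 (nat_lit 0xa008)
 (.cons 12 (nat_lit 0x710)
 .nil)))))))
noncomputable def xa160 : Net := (.cons 12 (nat_lit 0xf68)
 (.cons 6 (nat_lit 0x10011)
 (.cons 3 (nat_lit 0xc6000)
 (.cons 1 (nat_lit 0x41000)
 (.cons 1 (nat_lit 0x482400)
 (.cons 1 (nat_lit 0x209008)
 (.cons 3 (nat_lit 0x106000)
 (.cons 6 (nat_lit 0x10010)
 (.cons 12 (nat_lit 0xf68)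
 .nil)))))))))
noncomputable def xa161 : Net := (.cons 12 (nat_lit 0x428)
 (.cons 6 (nat_lit 0x10020)
 (.cons 3 (nat_lit 0x185002)
 (.cons 1 (nat_lit 0x40048)
 (.cons 1 (nat_lit 0x82090)
 (.cons 1 (nat_lit 0x40249)
 (.cons 3 (nat_lit 0x104002)
 (.cons 6 (nat_lit 0x10020)
 (.cons 12 (nat_lit 0x428)
 .nil)))))))))
noncomputable def xa162 : Net := (.cons 12 (nat_lit 0x888)
 (.cons 6 (nat_lit 0x30019)
 (.cons 3 (nat_lit 0x86180)
 (.cons 1 (nat_lit 0x1008)
 (.cons 1 (nat_lit 0x2490)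
 (.cons 1 (nat_lit 0x41008)
 (.cons 3 (nat_lit 0x84000)
 (.cons 6 (nat_lit 0x30018)
 (.cons 12 (nat_lit 0x880)
 .nil)))))))))
noncomputable def xa163 : Net := (.cons 12 (nat_lit 0xf52)
 (.cons 6 (nat_lit 0xa032)
 (.cons 3 (nat_lit 0x143001)
 (.cons 1 (nat_lit 0x9040)
 (.cons 6 (nat_lit 0xa002)
 (.cons 12 (nat_lit 0xf52)
 .nil))))))
noncomputable def xa164 : Net := (.cons 12 (nat_lit 0x1cc)
 (.cons 6 (nat_lit 0xe038)
 (.cons 3 (nat_lit 0x184080)
 (.cons 1 (nat_lit 0x200008)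
 (.cons 1 (nat_lit 0x410010)
 (.cons 1 (nat_lit 0x241209)
 (.cons 3 (nat_lit 0x184080)
 (.cons 6 (nat_lit 0xe028)
 (.cons 12 (nat_lit 0x1cc)
 .nil)))))))))
noncomputable def xa165 : Net := (.cons 12 (nat_lit 0x2c0)
 (.cons 6 (nat_lit 0x38006)
 (.cons 3 (nat_lit 0x106182)
 (.cons 1 (nat_lit 0x1041)
 (.cons 1 (nat_lit 0x82482)
 (.cons 1 (nat_lit 0x209049)
 (.cons 3 (nat_lit 0x106182)
 (.cons 6 (nat_lit 0x38006)
 (.cons 12 (nat_lit 0x2c0)
 .nil)))))))))
noncomputable def xa166 : Net := (.cons 12 (nat_lit 0x242)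
 (.cons 6 (nat_lit 0x14008)
 (.cons 3 (nat_lit 0xc0144)
 (.cons 1 (nat_lit 0x8)
 (.cons 1 (nat_lit 0x2010)
 (.cons 1 (nat_lit 0x248009)
 (.cons 3 (nat_lit 0x4)
 (.cons 6 (nat_lit 0x14008)
 (.cons 12 (nat_lit 0x242)
 .nil)))))))))
noncomputable def xa167 : Net := (.cons 12 (nat_lit 0x810)
 (.cons 6 (nat_lit 0x36012)
 (.cons 3 (nat_lit 0x104183)
 (.cons 1 (nat_lit 0x200)
 (.cons 1 (nat_lit 0x2400)
 (.cons 1 (nat_lit 0x48240)
 (.cons 3 (nat_lit 0x4180)
 (.cons 6 (nat_lit 0x36012)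
 (.cons 12 (nat_lit 0x810)
 .nil)))))))))
noncomputable def xa168 : Net := (.cons 12 (nat_lit 0x18)
 (.cons 6 (nat_lit 0x2803a)
 (.cons 3 (nat_lit 0x83102)
 (.cons 1 (nat_lit 0x41200)
 (.cons 1 (nat_lit 0x482412)
 (.cons 1 (nat_lit 0x9248)
 (.cons 3 (nat_lit 0x2180)
 (.cons 6 (nat_lit 0x1a000)
 (.cons 12 (nat_lit 0xcfe)
 .nil)))))))))
noncomputable def xa169 : Net := (.cons 12 (nat_lit 0x3e4)
 (.cons 6 (nat_lit 0x1a00c)
 (.cons 3 (nat_lit 0xc51c4)
 (.cons 1 (nat_lit 0x200008)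
 (.cons 1 (nat_lit 0x480492)
 (.cons 1 (nat_lit 0x201048)
 (.cons 3 (nat_lit 0x2004)
 (.cons 6 (nat_lit 0x2c01c)
 (.cons 12 (nat_lit 0x700)
 .nil)))))))))
noncomputable def xa170 : Net := (.cons 12 (nat_lit 0x2ec)
 (.cons 6 (nat_lit 0x31024)
 (.cons 3 (nat_lit 0x83180)
 (.cons 1 (nat_lit 0x410410)
 (.cons 1 (nat_lit 0x1048)
 (.cons 3 (nat_lit 0x6004)
 (.cons 6 (nat_lit 0x38014)
 (.cons 12 (nat_lit 0x1b8)
 .nil))))))))
noncomputable def xa171 : Net := (.cons 12 (nat_lit 0x5cc)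
 (.cons 6 (nat_lit 0x503a)
 (.cons 3 (nat_lit 0x1c70c0)
 (.cons 1 (nat_lit 0x200208)
 (.cons 1 (nat_lit 0x490490)
 (.cons 1 (nat_lit 0x48200)
 (.cons 3 (nat_lit 0x100086)
 (.cons 6 (nat_lit 0x2c032)
 (.cons 12 (nat_lit 0x650)
 .nil)))))))))
noncomputable def xa172 : Net := (.cons 12 (nat_lit 0x426)
 (.cons 6 (nat_lit 0x20022)
 (.cons 3 (nat_lit 0x1c3106)
 (.cons 1 (nat_lit 0x208200)
 (.cons 1 (nat_lit 0x490412)
 (.cons 1 (nat_lit 0x249000)
 (.cons 3 (nat_lit 0x102180)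
 (.cons 6 (nat_lit 0x18010)
 (.cons 12 (nat_lit 0x756)
 .nil)))))))))
noncomputable def xa173 : Net := (.cons 12 (nat_lit 0x14c)
 (.cons 6 (nat_lit 0x2e004)
 (.cons 3 (nat_lit 0x187040)
 (.cons 1 (nat_lit 0x40000)
 (.cons 1 (nat_lit 0x80400)
 (.cons 1 (nat_lit 0x200008)
 (.cons 3 (nat_lit 0x100100)
 (.cons 6 (nat_lit 0x34020)
 (.cons 12 (nat_lit 0x84)
 .nil)))))))))
noncomputable def xa174 : Net := (.cons 12 (nat_lit 0x3c4)
 (.cons 6 (nat_lit 0x22014)
 (.cons 3 (nat_lit 0x800c4)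
 (.cons 1 (nat_lit 0x8240)
 (.cons 1 (nat_lit 0x490480)
 (.cons 1 (nat_lit 0x49040)
 (.cons 3 (nat_lit 0x80080)
 (.cons 6 (nat_lit 0x3a004)
 (.cons 12 (nat_lit 0x9e4)
 .nil)))))))))
noncomputable def xa175 : Net := (.cons 12 (nat_lit 0x592)
 (.cons 6 (nat_lit 0x3e010)
 (.cons 3 (nat_lit 0x144002)
 (.cons 1 (nat_lit 0x8000)
 (.cons 1 (nat_lit 0x10080)
 (.cons 1 (nat_lit 0x9000)
 (.cons 3 (nat_lit 0x6100)
 (.cons 6 (nat_lit 0x3e000)
 (.cons 12 (nat_lit 0x7f2)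
 .nil)))))))))
noncomputable def xa176 : Net := (.cons 12 (nat_lit 0x430)
 (.cons 6 (nat_lit 0x22004)
 (.cons 3 (nat_lit 0x46084)
 (.cons 1 (nat_lit 0x200)
 (.cons 1 (nat_lit 0x80410)
 (.cons 1 (nat_lit 0x8240)
 (.cons 3 (nat_lit 0x2084)
 (.cons 6 (nat_lit 0x22004)
 (.cons 12 (nat_lit 0x410)
 .nil)))))))))
noncomputable def xa177 : Net := (.cons 12 (nat_lit 0x2f0)
 (.cons 6 (nat_lit 0x2300c)
 (.cons 3 (nat_lit 0x85106)
 (.cons 1 (nat_lit 0x8048)
 (.cons 1 (nat_lit 0x410092)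
 (.cons 1 (nat_lit 0x49008)
 (.cons 3 (nat_lit 0x180182)
 (.cons 6 (nat_lit 0x2402c)
 (.cons 12 (nat_lit 0xf50)
 .nil)))))))))
noncomputable def xa178 : Net := (.cons 12 (nat_lit 0xdec)
 (.cons 6 (nat_lit 0x35034)
 (.cons 3 (nat_lit 0x46144)
 (.cons 1 (nat_lit 0x8)
 (.cons 1 (nat_lit 0x10010)
 (.cons 1 (nat_lit 0x201040)
 (.cons 3 (nat_lit 0x82004)
 (.cons 6 (nat_lit 0x24014)
 (.cons 12 (nat_lit 0xdec)
 .nil)))))))))
noncomputable def xws : List (List ℕ) :=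
  [W (nat_lit 0x400804008040080300803),
  W (nat_lit 0x100c0100c0101002),
  W (nat_lit 0x10040040300804008020080400804),
  W (nat_lit 0x280801809),
  W (nat_lit 0x90200a),
  W (nat_lit 0x300c0340d02c0b),
  W (nat_lit 0x2c0d0300d0340c),
  W (nat_lit 0xf04411044100401104012),
  W (nat_lit 0x480f0481204012),
  W (nat_lit 0x150501405816),
  W (nat_lit 0x15054150501505014),
  W (nat_lit 0x50160501505014),
  W (nat_lit 0x5c1a0601a),
  W (nat_lit 0x1d0641b04c160441002c0e02403),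
  W (nat_lit 0x1e0701904c1a0401a02c1701c04),
  W (nat_lit 0x1e0601b04c1a03c0b03c03),
  W (nat_lit 0x741706c130540f0540b05c0607804),
  W (nat_lit 0x7819070100600b02c0607804),
  W (nat_lit 0x5c1b0501d0480b064090041c),
  W (nat_lit 0x741804c180401b030140181e0040f),
  W (nat_lit 0x1d05c1c0501603c1402c0f0140c0040f),
  W (nat_lit 0x741906c1306c1504011),
  W (nat_lit 0x1d04c1303c1402c0e0140b00c09),
  W (nat_lit 0xc82f),
  W (nat_lit 0x6c1a04c16058110400b0400a00415),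
  W (nat_lit 0x781906c130541204c0b05c0701017),
  W (nat_lit 0xe0350a0230a02207c210e024080210a8240a0290d4350a0220ac2e),
  W (nat_lit 0xd826080380b42b0ac2307c280dc1f084370b4220b82409429),
  W (nat_lit 0x9021094290e0210dc220a02e0a029080260a82d084280a0220802e09827098290e036),
  W (nat_lit 0xf43a),
  W (nat_lit 0xf43a0f03d),
  W (nat_lit 0xe83b),
  W (nat_lit 0xec3a),
  W (nat_lit 0x110441103f11042100461004211840),
  W (nat_lit 0xfc4211440110411184610c4310846),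
  W (nat_lit 0x4410842100401183f10842),
  W (nat_lit 0x110421104111443118421144211046),
  W (nat_lit 0x2609025088260b42307c1f088260a81f0a01f0a8210a4220981f0841f0a0260902d084260901f094210942507c2d0b02a),
  W (nat_lit 0x842a09821098260842c088260902c0b0220b4220ac20090200802807c280b0210b42a08c1f0ac2d080260b4260b8220b02a),
  W (nat_lit 0x9c1f098220a81f0b82607c1f09c2a0a8220a0260981f08826080260a4250902e0842a08c2e084200b02109822),
  W (nat_lit 0x541405114454),
  W (nat_lit 0x15054),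
  W (nat_lit 0x1f0982709c2709824080250902a09028),
  W (nat_lit 0x9425080200901f0a0240942308c1f0882208c20),
  W (nat_lit 0x2608020088280a02408822090210a01f09c2a),
  W (nat_lit 0x8420084250a8260a4210802407c25),
  W (nat_lit 0x5b1785e1705d1646017060),
  W (nat_lit 0x16c5e178591805916c5a1685e16c5f),
  W (nat_lit 0x802c0b8260902d090220b81f0ac2b09020),
  W (nat_lit 0x88230b42b080240941f0881f090250802208820),
  W (nat_lit 0x88230982308c2b0902e0b8210ac2b07c2508c2b0902c07c2e),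
  W (nat_lit 0x1e06c1e0501903c1402c0b0181900403),
  W (nat_lit 0x741b0681306c150401c02c170140d00404),
  W (nat_lit 0x1b46c1b46b1ac6d),
  W (nat_lit 0x1b06d1b06d),
  W (nat_lit 0x1bc711c071),
  W (nat_lit 0x721bc72),
  W (nat_lit 0x1d0751cc76),
  W (nat_lit 0x741dc771cc781cc771d074),
  W (nat_lit 0x771cc731e0781e078),
  W (nat_lit 0x1dc771d0741d0741e074),
  W (nat_lit 0x7a1f47c1e87b),
  W (nat_lit 0x7a1f479),
  W (nat_lit 0x7c1f47d1e47b),
  W (nat_lit 0x7b1f87c),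
  W (nat_lit 0x3307c360b8200cc2c1b421098240b81f1b42d0e02e0942b0a02d07c211b02b0806d0a4330b06c),
  W (nat_lit 0x9c6c1b82d0dc360ac3809c210d0370ac341b8270d0250b4381b82a1b42909c250a86e),
  W (nat_lit 0x8721c87),
  W (nat_lit 0x2248722887),
  W (nat_lit 0x8a2208922488),
  W (nat_lit 0x8d23c8c),
  W (nat_lit 0x8f2488f),
  W (nat_lit 0x2409224091),
  W (nat_lit 0x2589225092),
  W (nat_lit 0x8e2308d),
  W (nat_lit 0x22c8b238902308e2308e),
  W (nat_lit 0x8c2408e238902308e),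
  W (nat_lit 0x441004012),
  W (nat_lit 0x100481004810044100440f04411),
  W (nat_lit 0x2889f288a02889f288a2),
  W (nat_lit 0xa1280a2),
  W (nat_lit 0x288a227ca2288a0),
  W (nat_lit 0xa7294a7290a528ca6),
  W (nat_lit 0x1fc8120c851ec731ec781d471),
  W (nat_lit 0x1fc812147c1e06b),
  W (nat_lit 0x2b8ab2b8ab2b4ad2b0ae),
  W (nat_lit 0xae2b8ae2acab2b4ad),
  W (nat_lit 0xb02c8b2),
  W (nat_lit 0xb12bcb2),
  W (nat_lit 0x2d0b62ccb62ccb3),
  W (nat_lit 0x2d4b42d0b62d0b4),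
  W (nat_lit 0xb62d0b62d8b62ccb6),
  W (nat_lit 0x7c2a090240bc270802f09024090290942407c2a0c01f0a4290c022),
  W (nat_lit 0xc01f0a4210a427088270bc220942a0982009c230882a),
  W (nat_lit 0xa4260902a088270a42807c230a4250802009c240802a0a02f),
  W (nat_lit 0x300bd),
  W (nat_lit 0x300c22f4c1),
  W (nat_lit 0xc22fcc1),
  W (nat_lit 0x320c8314c82f4c5320c531cbd320bd),
  W (nat_lit 0x318c8320c330cbe31cc4318be318c4),
  W (nat_lit 0x1e0601c04c160401402c12018190040d),
  W (nat_lit 0x1d0601c04c1b03c0b0640502403),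
  W (nat_lit 0x338cf33ccf334cd),
  W (nat_lit 0x334d0334cf33ccf),
  W (nat_lit 0xd4344d3344d1),
  W (nat_lit 0xd134cd3348d2),
  W (nat_lit 0x358d7358d7),
  W (nat_lit 0xd8354d5360d6),
  W (nat_lit 0xd5360d6360d5),
  W (nat_lit 0x35cd5),
  W (nat_lit 0x368dc370dd37cde378d936ce0),
  W (nat_lit 0xd936cde378df36cdd37cdd380dc380da),
  W (nat_lit 0x370dc37cd9374e0378da380e0374da370da),
  W (nat_lit 0xde36cde380d9378db368e0),
  W (nat_lit 0x27088cf0dc2a0d02233c2c08c350d423080280d4330b8203402833436334230e02b07c2907ccf),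
  W (nat_lit 0xd8330d4330ac380902c0dc2e0b0340e0230b43507ccf0d02a0b81f3341f0a034088270b835098260cccf0cc2b0d41f094ce),
  W (nat_lit 0x3b0ec3b0ea3ace9),
  W (nat_lit 0x3aceb3a8ea3a8ea),
  W (nat_lit 0xee3c0f0),
  W (nat_lit 0xed3bced3c0ee),
  W (nat_lit 0xf43c4f4),
  W (nat_lit 0x3ccf13ccf2),
  W (nat_lit 0x4010),
  W (nat_lit 0x1203c11),
  W (nat_lit 0xfa3ecf93f0f9),
  W (nat_lit 0xfb3ecf93e4fc3e4fb),
  W (nat_lit 0x3e4fb3e8fc),
  W (nat_lit 0x1003f4fd),
  W (nat_lit 0x3f900),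
  W (nat_lit 0xfd408fd404fd),
  W (nat_lit 0x404fe),
  W (nat_lit 0xe139cd9358d2340cd),
  W (nat_lit 0x38ce5364df360d1334d9),
  W (nat_lit 0x42d0e4390c4390c),
  W (nat_lit 0x10e42d0d4310c4390e),
  W (nat_lit 0x4491044910),
  W (nat_lit 0x4411144510),
  W (nat_lit 0x45916),
  W (nat_lit 0x11245111),
  W (nat_lit 0xed3bcee),
  W (nat_lit 0xef3b4ef),
  W (nat_lit 0x11b4751c4751d),
  W (nat_lit 0x4751b),
  W (nat_lit 0x20084200b0230b4240c8260c81f0c41f0882d0b0310802c),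
  W (nat_lit 0xac230c4230b42d0942e0b0220b8200ac200c42e07c2d0b02208031),
  W (nat_lit 0x80220c42c07c2e0982b088320b02e0881f0b8220882b08025088260b020),
  W (nat_lit 0x204832147c1e0721ac7b),
  W (nat_lit 0x1fc811f0741f4751c46d),
  W (nat_lit 0xe1394df360d1358cd),
  W (nat_lit 0x384e539cd635cd1),
  W (nat_lit 0x4b52a4a92a4b92c4b5294b92f4a9304c129),
  W (nat_lit 0x12a4a9304b12a4c12c4a5304a92c4b52c),
  W (nat_lit 0x4cd324c932),
  W (nat_lit 0x4d134),
  W (nat_lit 0x1324d131),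
  W (nat_lit 0x1394dd3a),
  W (nat_lit 0x1354e5364e935),
  W (nat_lit 0x1384d53a4e936),
  W (nat_lit 0x13c4e5404f93a4f53a4e940),
  W (nat_lit 0x4f5394f93b4ed3b4ed39),
  W (nat_lit 0x4f53b501404f9394ed395013b4f93e),
  W (nat_lit 0x4e93b4f9404f53c5013d4f539),
  W (nat_lit 0x1e06c1a054100500800c09),
  W (nat_lit 0x1d060100680b040080040d),
  W (nat_lit 0x1d05c1b050190401102c180140800417),
  W (nat_lit 0x1e0641b04c160401b030140181e0040f),
  W (nat_lit 0x8149541490814e5254c5414e5314e),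
  W (nat_lit 0x5282052d4f5314a538205414b0814e),
  W (nat_lit 0x15154d5154d5155154),
  W (nat_lit 0x1535455354d51),
  W (nat_lit 0x55d5655d575555755957),
  W (nat_lit 0x15555d57),
  W (nat_lit 0x1595715c5695b),
  W (nat_lit 0x57959565595755a),
  W (nat_lit 0x5795e),
  W (nat_lit 0x1595655d5655e),
  W (nat_lit 0x1645915f5896059160)]
noncomputable def xns : List Net := [CL.M24P.Md.a0, CL.M24P.Md.a1, xa2, xa3, xa4, xa5, xa6, xa7, xa8, xa9, xa10, xa11, xa12, xa13, xa14, xa15, xa16, xa17, xa18, xa19, xa20, xa21, xa22, xa23, xa24, xa25, xa26, xa27, xa28, xa29, xa30, xa31, xa32, xa33, xa34, xa35, xa36, xa37, xa38, xa39, xa40, xa41, xa42, xa43, xa44, xa45, xa46, xa47, xa48, xa49, xa50, xa51, xa52, xa53, xa54, xa55, xa56, xa57, xa58, xa59, xa60, xa61, xa62, xa63, xa64, xa65, xa66, xa67, xa68, xa69, xa70, xa71, xa72, xa73, xa74, xa75, xa76, xa77, xa78, xa79, xa80, xa81, xa82, xa83, xa84, xa85, xa86, xa87, xa88, xa89,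 xa90, xa91, xa92, xa93, xa94, xa95, xa96, xa97, xa98, xa99, xa100, xa101, xa102, xa103, xa104, xa105, xa106, xa107, xa108, xa109, xa110, xa111, xa112, xa113, xa114, xa115, xa116, xa117, xa118, xa119, xa120, xa121, xa122, xa123, xa124, xa125, xa126, xa127, xa128, xa129, xa130, xa131, xa132, xa133, xa134, xa135, xa136, xa137, xa138, xa139, xa140, xa141, xa142, xa143, xa144, xa145, xa146, xa147, xa148, xa149, xa150, xa151, xa152, xa153, xa154, xa155, xa156, xa157, xa158, xa159, xa160, xa161, xa162, xa163, xa164, xa165, xa166, xa167, xa168, xa169, xa170, xa171, xa172, xa173, xa174, xa175, xa176, xa177, xa178]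
noncomputable def xD : List (ℕ × List ℕ) := app [] (mkDefs xws 2)
noncomputable def xchk : List (List ℕ × List ℕ) → Bool := CL.M24P.Md.P.relsB xns
noncomputable def w : WD :=
  ⟨[30], [38], [42], [34, 38, 40], [42, 44], [46], [48], [54], [52], [52], [54],
  [[0], [2]], [[0], [2]], [[52], [54], [44], [42], [40], [38], [36], [34], [32], [30]],
  [[30], [32], [34], [36], [38], [40], [30], [34], [32], [36], [42], [44]], [[30], [32], [34], [36]], [[30], [32], [34], [36], [38], [40]], [[30], [34], [32], [36], [42], [44]],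
  [[106], [108], [52], [54], [44], [42], [40], [38], [36], [34], [32], [30], [50]],
  [[204], [206], [52], [54], [44], [42], [40], [38], [36], [34], [32], [30], [50]]⟩
noncomputable def xL_v0 : Lev :=
  ⟨0, 24, sg (W (nat_lit 0x100c0100c0100c0100c0100c01)), [[4], [6], [8]], 0, 3⟩
noncomputable def xL_v1 : Lev :=
  ⟨1, 23, sg (W (nat_lit 0x140502407024070240701405)), [[10], [12]], 3, 2⟩
noncomputable def xL_v2 : Lev :=
  ⟨2, 22, sg (W (nat_lit 0xd02c0d02c0b0340b)), [[14], [16]], 5, 2⟩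
noncomputable def xL_v3 : Lev :=
  ⟨3, 21, sg (W (nat_lit 0x110440f0440f0440f0440f)), [[18], [20]], 7, 2⟩
noncomputable def xL_v4 : Lev :=
  ⟨4, 20, sg (W (nat_lit 0x4c130541304c1504c13)), [[22], [24], [26]], 9, 3⟩
noncomputable def xL_v5 : Lev :=
  ⟨5, 16, sg (W (nat_lit 0x190641706c17)), [[28]], 12, 1⟩
noncomputable def xL_v6 : Lev :=
  ⟨6, 3, sg (W (nat_lit 0x741d)), [], 13, 0⟩
noncomputable def xL_vs7 : List Lev :=
  []
noncomputable def xL_vs6 : List Lev :=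
  xL_v6 :: xL_vs7
noncomputable def xL_vs5 : List Lev :=
  xL_v5 :: xL_vs6
noncomputable def xL_vs4 : List Lev :=
  xL_v4 :: xL_vs5
noncomputable def xL_vs3 : List Lev :=
  xL_v3 :: xL_vs4
noncomputable def xL_vs2 : List Lev :=
  xL_v2 :: xL_vs3
noncomputable def xL_vs1 : List Lev :=
  xL_v1 :: xL_vs2
noncomputable def xL_vs : List Lev :=
  xL_v0 :: xL_vs1
noncomputable def xT_v0 : Lev :=
  ⟨1, 8, sg (W (nat_lit 0x270b435)), [[56], [58], [60]], 26, 3⟩
noncomputable def xT_v1 : Lev :=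
  ⟨14, 2, sg [56], [[62], [64], [66], [68]], 29, 4⟩
noncomputable def xT_v2 : Lev :=
  ⟨2, 4, sg (W (nat_lit 0x1043f)), [[70], [72], [74], [76]], 33, 4⟩
noncomputable def xT_v3 : Lev :=
  ⟨0, 16, sg (W (nat_lit 0x1344b12447)), [], 37, 0⟩
noncomputable def xT_vs4 : List Lev :=
  []
noncomputable def xT_vs3 : List Lev :=
  xT_v3 :: xT_vs4
noncomputable def xT_vs2 : List Lev :=
  xT_v2 :: xT_vs3
noncomputable def xT_vs1 : List Lev :=
  xT_v1 :: xT_vs2
noncomputable def xT_vs : List Lev :=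
  xT_v0 :: xT_vs1
noncomputable def xT_ps : List PcG :=
  [⟨[52], 2, [], [[54], [44], [42], W (nat_lit 0x9c29), [38], W (nat_lit 0x8c25), [34], W (nat_lit 0x7c21), [30]]⟩,
  ⟨[54], 2, [], [W (nat_lit 0xac2d), [42], [40], [38], W (nat_lit 0x8425), W (nat_lit 0x7c23), [32], [30]]⟩,
  ⟨[44], 2, [], [[42], W (nat_lit 0x9429), W (nat_lit 0x8c27), [36], [34], [32], [30]]⟩,
  ⟨[42], 2, [], [W (nat_lit 0x8429), W (nat_lit 0x7c27), [36], [34], [32], [30]]⟩,
  ⟨[40], 2, [], [[38], [36], [34], [32], [30]]⟩,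
  ⟨[38], 2, [], [[36], [34], [32], [30]]⟩,
  ⟨[36], 2, [], [[34], [32], [30]]⟩,
  ⟨[34], 2, [], [[32], [30]]⟩,
  ⟨[32], 2, [], [[30]]⟩,
  ⟨[30], 2, [], []⟩]
noncomputable def xU_v0 : Lev :=
  ⟨0, 8, sg (W (nat_lit 0x2b0841f)), [[78], [80], [82]], 37, 3⟩
noncomputable def xU_v1 : Lev :=
  ⟨3, 4, sg (W (nat_lit 0x14c51)), [[78], [84], [86]], 40, 2⟩
noncomputable def xU_v2 : Lev :=
  ⟨1, 8, sg (W (nat_lit 0x571544f)), [], 42, 0⟩
noncomputable def xU_vs3 : List Lev :=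
  []
noncomputable def xU_vs2 : List Lev :=
  xU_v2 :: xU_vs3
noncomputable def xU_vs1 : List Lev :=
  xU_v1 :: xU_vs2
noncomputable def xU_vs : List Lev :=
  xU_v0 :: xU_vs1
noncomputable def xU_ps : List PcG :=
  [⟨[44], 2, [], [[42], W (nat_lit 0x9429), W (nat_lit 0x8c27), [36], [34], [32], [30]]⟩,
  ⟨[42], 2, [], [W (nat_lit 0x8429), W (nat_lit 0x7c27), [36], [34], [32], [30]]⟩,
  ⟨[40], 2, [], [[38], [36], [34], [32], [30]]⟩,
  ⟨[38], 2, [], [[36], [34], [32], [30]]⟩,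
  ⟨[36], 2, [], [[34], [32], [30]]⟩,
  ⟨[34], 2, [], [[32], [30]]⟩,
  ⟨[32], 2, [], [[30]]⟩,
  ⟨[30], 2, [], []⟩]
noncomputable def xA_v0 : Lev :=
  ⟨0, 4, sg (W (nat_lit 0x841f)), [[88], [90], [92], [94]], 42, 4⟩
noncomputable def xA_v1 : Lev :=
  ⟨1, 4, sg (W (nat_lit 0x17c5b)), [[96], [98]], 46, 2⟩
noncomputable def xA_v2 : Lev :=
  ⟨2, 4, sg (W (nat_lit 0x18c61)), [], 48, 0⟩
noncomputable def xA_vs3 : List Lev :=
  []
noncomputable def xA_vs2 : List Lev :=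
  xA_v2 :: xA_vs3
noncomputable def xA_vs1 : List Lev :=
  xA_v1 :: xA_vs2
noncomputable def xA_vs : List Lev :=
  xA_v0 :: xA_vs1
noncomputable def xA_ps : List PcG :=
  [⟨[30], 2, [], [[32], [34], [36], [38], [40]]⟩,
  ⟨[32], 2, [], [[34], [36], [38], [40]]⟩,
  ⟨[34], 2, [], [[36], [38], [40]]⟩,
  ⟨[36], 2, [], [[38], [40]]⟩,
  ⟨[38], 2, [], [[40]]⟩,
  ⟨[40], 2, [], []⟩]
noncomputable def xB_v0 : Lev :=
  ⟨0, 8, sg (W (nat_lit 0x2b0841f)), [[100], [102], [104]], 48, 3⟩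
noncomputable def xB_v1 : Lev :=
  ⟨1, 8, sg (W (nat_lit 0x6919c65)), [], 51, 0⟩
noncomputable def xB_vs2 : List Lev :=
  []
noncomputable def xB_vs1 : List Lev :=
  xB_v1 :: xB_vs2
noncomputable def xB_vs : List Lev :=
  xB_v0 :: xB_vs1
noncomputable def xB_ps : List PcG :=
  [⟨[30], 2, [], [[34], [32], [36], [42], [44]]⟩,
  ⟨[34], 2, [], [[32], [36], [42], [44]]⟩,
  ⟨[32], 2, [], [[36], [42], [44]]⟩,
  ⟨[36], 2, [], [[42], [44]]⟩,
  ⟨[42], 2, [], [[44]]⟩,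
  ⟨[44], 2, [], []⟩]
noncomputable def xzus17 : List (List ℕ) :=
  [[126],
  [128],
  [130],
  [132],
  W (nat_lit 0x1fc81),
  W (nat_lit 0x1fc83),
  W (nat_lit 0x1fc85),
  W (nat_lit 0x20483),
  W (nat_lit 0x20485),
  W (nat_lit 0x20c85),
  W (nat_lit 0x7f20483),
  W (nat_lit 0x7f20485),
  W (nat_lit 0x7f20c85),
  W (nat_lit 0x8120c85),
  W (nat_lit 0x1fc8120c85)]
noncomputable def xzF18 : List (List (ℕ × List ℕ)) :=
  [[(1, []),
   (0, []),
   (5, []),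
   (6, []),
   (7, []),
   (2, []),
   (3, []),
   (4, []),
   (11, []),
   (12, []),
   (13, []),
   (8, []),
   (9, []),
   (10, []),
   (15, []),
   (14, [])],
  [(2, []),
   (5, []),
   (0, []),
   (8, []),
   (9, []),
   (1, []),
   (11, []),
   (12, []),
   (3, []),
   (4, []),
   (14, []),
   (6, []),
   (7, []),
   (15, []),
   (10, []),
   (13, [])],
  [(3, []),
   (6, []),
   (8, []),
   (0, []),
   (10, []),
   (11, []),
   (1, []),
   (13, []),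
   (2, []),
   (14, []),
   (4, []),
   (5, []),
   (15, []),
   (7, []),
   (9, []),
   (12, [])],
  [(4, []),
   (7, []),
   (9, []),
   (10, []),
   (0, []),
   (12, []),
   (13, []),
   (1, []),
   (14, []),
   (2, []),
   (3, []),
   (15, []),
   (5, []),
   (6, []),
   (8, []),
   (11, [])]]
noncomputable def xzE21 : List (ℕ × List ℕ) :=
  [(120, W (nat_lit 0x7f20483)),
  (124, [128])]
noncomputable def xzt22 : List ℕ :=
  []
noncomputable def xzcj23 : List (List ℕ) :=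
  [W (nat_lit 0x20c85),
  [132],
  W (nat_lit 0x7f20483),
  W (nat_lit 0x20485)]
noncomputable def xzus27 : List (List ℕ) :=
  [[114],
  [115],
  [118],
  [119],
  W (nat_lit 0x1cc73),
  W (nat_lit 0x1cc77),
  W (nat_lit 0x1cc79),
  W (nat_lit 0x1cc7c),
  W (nat_lit 0x1dc77),
  W (nat_lit 0x1dc79),
  W (nat_lit 0x1d07b),
  W (nat_lit 0x1d07c),
  W (nat_lit 0x1d07d),
  W (nat_lit 0x1d079),
  W (nat_lit 0x1dc7d),
  W (nat_lit 0x1e07d),
  W (nat_lit 0x731ec77),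
  W (nat_lit 0x731ec78),
  W (nat_lit 0x1cc7b)]
noncomputable def xzF28 : List (List (ℕ × List ℕ)) :=
  [[(1, []),
   (5, []),
   (0, []),
   (2, [122]),
   (10, W (nat_lit 0x2147b)),
   (3, [123]),
   (13, W (nat_lit 0x20c7c)),
   (14, W (nat_lit 0x7f20483)),
   (4, W (nat_lit 0x2047b)),
   (6, [128]),
   (17, W (nat_lit 0x812147b)),
   (18, W (nat_lit 0x1fc85)),
   (9, W (nat_lit 0x2147b)),
   (19, W (nat_lit 0x1fc8120c7b)),
   (11, W (nat_lit 0x1fc7c)),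
   (7, [123]),
   (8, [122]),
   (16, [123]),
   (15, W (nat_lit 0x8120c7c)),
   (12, [123])],
  [(3, []),
   (6, []),
   (7, W (nat_lit 0x7f204832147b)),
   (9, []),
   (0, []),
   (11, W (nat_lit 0x20c7c)),
   (1, W (nat_lit 0x1fc85)),
   (10, W (nat_lit 0x812147c)),
   (2, []),
   (4, []),
   (8, W (nat_lit 0x7f20c85)),
   (13, W (nat_lit 0x7f20483)),
   (5, []),
   (12, [122]),
   (18, W (nat_lit 0x832147b)),
   (16, [128]),
   (15, W (nat_lit 0x7f20485)),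
   (14, W (nat_lit 0x1fc7c)),
   (19, []),
   (17, [])]]
noncomputable def xzt31 : List ℕ :=
  W (nat_lit 0x7f20c7b1cc7c)
noncomputable def xzcj32 : List (List ℕ) :=
  [W (nat_lit 0x1cc77),
  W (nat_lit 0x20c851ec731ec77)]
noncomputable def xzus35 : List (List ℕ) :=
  [[112],
  [113]]
noncomputable def xzF36 : List (List (ℕ × List ℕ)) :=
  [[(0, W (nat_lit 0x1cc75)),
   (2, W (nat_lit 0x1f0771e475)),
   (1, [116])],
  [(1, []),
   (2, []),
   (0, [])]]
noncomputable def xzus39 : List (List ℕ) :=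
  [[106],
  [107],
  [108],
  [109],
  W (nat_lit 0x1ac6b),
  W (nat_lit 0x1ac6d),
  W (nat_lit 0x1ac6e),
  W (nat_lit 0x1b074),
  W (nat_lit 0x1b076),
  W (nat_lit 0x1ac7b),
  W (nat_lit 0x1ac72),
  W (nat_lit 0x1ac73),
  W (nat_lit 0x1ac71),
  W (nat_lit 0x6b1b46c),
  W (nat_lit 0x6b1b86c),
  W (nat_lit 0x1b07c),
  W (nat_lit 0x6b1d06b),
  W (nat_lit 0x1ac77),
  W (nat_lit 0x1b479),
  W (nat_lit 0x1ac70),
  W (nat_lit 0x1ac83),
  W (nat_lit 0x1ac6f),
  W (nat_lit 0x1ac74)]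
noncomputable def xzF40 : List (List (ℕ × List ℕ)) :=
  [[(1, []),
   (5, []),
   (0, []),
   (8, W (nat_lit 0x7c1e071)),
   (2, W (nat_lit 0x812147b1dc71)),
   (11, W (nat_lit 0x1fc7b1cc71)),
   (13, W (nat_lit 0x7f1f0771e475)),
   (12, W (nat_lit 0x7f1f0771e475)),
   (16, W (nat_lit 0x7f20c851f0731f075)),
   (3, W (nat_lit 0x812147c1e07d1d471)),
   (4, W (nat_lit 0x7b1cc77)),
   (19, W (nat_lit 0x832147c1dc72)),
   (21, W (nat_lit 0x1fc8120c851ec771f475)),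
   (10, W (nat_lit 0x851cc7b1e075)),
   (6, []),
   (7, []),
   (15, W (nat_lit 0x1fc812147b1cc7c)),
   (18, W (nat_lit 0x7f2147b1cc7b)),
   (9, W (nat_lit 0x1fc811f078)),
   (22, W (nat_lit 0x851cc731d472)),
   (23, W (nat_lit 0x7f20c731ec71)),
   (20, W (nat_lit 0x811ec741ec71)),
   (14, W (nat_lit 0x2147c1d07b1d471)),
   (17, [])],
  [(3, []),
   (6, []),
   (2, W (nat_lit 0x1fc851ec731f072)),
   (8, W (nat_lit 0x1fc8120c7b1d471)),
   (0, []),
   (12, W (nat_lit 0x7f204851ec771d472)),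
   (7, W (nat_lit 0x204831dc77)),
   (1, []),
   (17, W (nat_lit 0x1fc831ec731d471)),
   (13, W (nat_lit 0x812147c1e07d1d471)),
   (4, W (nat_lit 0x7f2147b1dc75)),
   (20, W (nat_lit 0x204851f0741d472)),
   (5, W (nat_lit 0x7f204831f0731d472)),
   (9, W (nat_lit 0x1fc851cc7c1d471)),
   (21, W (nat_lit 0x831e07d1d471)),
   (11, W (nat_lit 0x8120c851ec741f075)),
   (23, W (nat_lit 0x7f204832147b1cc7b1dc71)),
   (10, W (nat_lit 0x1cc7b1dc75)),
   (18, W (nat_lit 0x7f20c851f0741f071)),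
   (15, W (nat_lit 0x1fc8120c851cc7c)),
   (14, W (nat_lit 0x20c741e472)),
   (19, W (nat_lit 0x1fc83214741f075)),
   (16, W (nat_lit 0x1d472)),
   (22, W (nat_lit 0x811f0731dc75))]]
noncomputable def xHA_v0 : Lev :=
  ⟨0, 24, sg (W (nat_lit 0x6b1ac6d1ac6d1ac6d1ac6b1ac6b)), [[110], [112]], 53, 2⟩
noncomputable def xHA_v1 : Lev :=
  ⟨4, 3, sg (W (nat_lit 0x1bc71)), [[114], [116]], 55, 2⟩
noncomputable def xHA_v2 : Lev :=
  ⟨16, 2, sg [116], [[114], [118]], 57, 1⟩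
noncomputable def xHA_v3 : Lev :=
  ⟨1, 20, sg (W (nat_lit 0x731dc731dc731dc73)), [[120], [122], [124]], 58, 3⟩
noncomputable def xHA_v4 : Lev :=
  ⟨7, 3, sg (W (nat_lit 0x1ec7b)), [[126], [128], [130], [132]], 61, 4⟩
noncomputable def xHA_v5 : Lev :=
  ⟨2, 16, sg (W (nat_lit 0x214832047f)), [], 65, 0⟩
noncomputable def xHA_vs6 : List Lev :=
  []
noncomputable def xHA_vs5 : List Lev :=
  xHA_v5 :: xHA_vs6
noncomputable def xHA_vs4 : List Lev :=
  xHA_v4 :: xHA_vs5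
noncomputable def xHA_vs3 : List Lev :=
  xHA_v3 :: xHA_vs4
noncomputable def xHA_vs2 : List Lev :=
  xHA_v2 :: xHA_vs3
noncomputable def xHA_vs1 : List Lev :=
  xHA_v1 :: xHA_vs2
noncomputable def xHA_vs : List Lev :=
  xHA_v0 :: xHA_vs1
noncomputable def xzts44 : List (List ℕ) :=
  [[106],
  [108],
  W (nat_lit 0x1fc81214741e4721ac7b),
  W (nat_lit 0x1fc831f0731ec781b479),
  W (nat_lit 0x7f204832147b1e07d1d4711ac83),
  W (nat_lit 0x1fc781d4711ac83),
  W (nat_lit 0x8120c7c1dc7d1c86b1b46c),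
  W (nat_lit 0x1dc7d1c46b1b86c),
  W (nat_lit 0x204831dc7d1c46b1b86c),
  W (nat_lit 0x7f204851f0741f06b1d06b),
  W (nat_lit 0x20483214731c46b1b86c),
  W (nat_lit 0x1d06b1d06b),
  W (nat_lit 0x811ec741ec711b479)]
noncomputable def xA : MD :=
  ⟨6, 4, 16, 52, 6, 4, 8067911738421187902, 10378832335288363712, false, [2, 3, 8, 12, 32, 48], [4, 8, 5, 10, 16, 32], [1, 2, 4, 8, 17, 34], [1, 2, 5, 10, 16, 32], [1, 3, 4, 12, 16, 48],
  [[53, 26, 38, 59, 6, 11], [50, 19, 29, 38, 63, 21], [56, 36, 35, 18, 40, 20]],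
  [[1, 2, 22, 43, 7, 9], [1, 2, 4, 8, 17, 34], [1, 2, 5, 10, 17, 34]]⟩
noncomputable def sA : WS :=
  ⟨[30, 32, 34, 36, 38, 40], [W (nat_lit 0x7f20c851cc7b1dc751ac83), W (nat_lit 0x20c851f0741f0751ac74), W (nat_lit 0x7f2147b1cc731c86b)],
  [W (nat_lit 0x7f20c851ec731c86b1b46c), W (nat_lit 0x1fc7c1cc771d4721ac70), W (nat_lit 0x7f20483214731cc751c86e)], false, true, [[30], [32], [34], [36], [38], [40], [30], [34], [32], [36], [42], [44]], [50], W (nat_lit 0x2147c), 1⟩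
noncomputable def xzm48 : ℕ :=
  (nat_lit 0x324486)
noncomputable def xzm49 : ℕ :=
  (nat_lit 0x84a960)
noncomputable def xcenA_F : List (List ℕ × ℕ × ℕ) :=
  [([0], xzm48, xzm48),
  ([4], xzm49, xzm49)]
noncomputable def xcenAG_v0 : Lev :=
  ⟨0, 24, sg (W (nat_lit 0x6b09c2d0d46b)), [[134], [136]], 65, 2⟩
noncomputable def xcenAG_v1 : Lev :=
  ⟨3, 20, sg (W (nat_lit 0x87224872248722487)), [[138], [140], [142]], 67, 3⟩
noncomputable def xcenAG_v2 : Lev :=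
  ⟨4, 3, sg (W (nat_lit 0x2348b)), [[144], [142]], 70, 1⟩
noncomputable def xcenAG_v3 : Lev :=
  ⟨9, 3, sg (W (nat_lit 0x2448f)), [[146], [144], [148]], 71, 2⟩
noncomputable def xcenAG_v4 : Lev :=
  ⟨1, 16, sg (W (nat_lit 0x24c932449324493)), [[150]], 73, 1⟩
noncomputable def xcenAG_v5 : Lev :=
  ⟨2, 2, sg [150], [], 74, 0⟩
noncomputable def xcenAG_vs6 : List Lev :=
  []
noncomputable def xcenAG_vs5 : List Lev :=
  xcenAG_v5 :: xcenAG_vs6
noncomputable def xcenAG_vs4 : List Lev :=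
  xcenAG_v4 :: xcenAG_vs5
noncomputable def xcenAG_vs3 : List Lev :=
  xcenAG_v3 :: xcenAG_vs4
noncomputable def xcenAG_vs2 : List Lev :=
  xcenAG_v2 :: xcenAG_vs3
noncomputable def xcenAG_vs1 : List Lev :=
  xcenAG_v1 :: xcenAG_vs2
noncomputable def xcenAG_vs : List Lev :=
  xcenAG_v0 :: xcenAG_vs1
noncomputable def xcenA_x : List (ℕ × List ℕ) :=
  [((nat_lit 0x200000), [(nat_lit 0xffffff)]),
  ((nat_lit 0), [(nat_lit 0xf6ffee)]),
  ((nat_lit 0), []),
  ((nat_lit 0), []),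
  ((nat_lit 0x3000000000000000000), []),
  ((nat_lit 0), [(nat_lit 0x104)])]
noncomputable def xcenA_G : Gl :=
  ⟨CL.M24P.Md.P, xns, (app xD []), (diag [[30], [32], [34], [36], [38], [40]]), [], [], memM (app xD []) [[30], [32], [34], [36], [38], [40]], true⟩
noncomputable def xcenA_s : St :=
  ⟨(mkS CL.M24P.Md.P.n xcenAG_vs xcenA_x), [[106], [108], [52], [54], [44], [42], [40], [38], [36], [34], [32], [30], [50]], [], mapL Prod.snd xcenA_F, memM (app xD []) [[30], [32], [34], [36], [38], [40]], []⟩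
noncomputable def xzt53 : ST :=
  (.orb 0 (.dif 0 1 (.dif 0 3 (.br 0 [W (nat_lit 0x18c5b17c1f), W (nat_lit 0x6118c5b17c21)] (W (nat_lit 0xc01)) [(3, [42]), (0, [])] (.cons (.img (W (nat_lit 0x2c01)) 0 (.dif 1 0 (.mis 0)))
 (.cons (.orb 0 (.and 2 0 (.br 0 [W (nat_lit 0x6118c5b), W (nat_lit 0x6316c5f)] (W (nat_lit 0xc01)) [(3, [])] (.cons (.img [0] 3 (.br 0 [] [] [(4, [])] (.cons (.img [2] 2 (.br 0 [] [] [(9, [])] (.cons (.br 11 [[94], W (nat_lit 0x6116c5f)] (W (nat_lit 0xc01)) [(2, W (nat_lit 0x24893)), (1, [])] (.cons (.img [4] 0 (.img [10] 1 (.dif 1 0 (.mis 0))))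
 (.cons (.orb 0 (.and 0 13 (.br 0 [] [] [(2, [])] (.cons .fnd
 .nil))))
 .nil)))
 .nil)))
 .nil)))
 .nil))))
 .nil))))))
noncomputable def xzm57 : ℕ :=
  (nat_lit 0x324486)
noncomputable def xzm58 : ℕ :=
  (nat_lit 0x84a960)
noncomputable def xcedA_F : List (List ℕ × ℕ × ℕ) :=
  [([0], xzm57, xzm57),
  ([4], xzm58, xzm58)]
noncomputable def xcedAG_v0 : Lev :=
  ⟨0, 24, sg (W (nat_lit 0x6b09c2d0d46b)), [[134], [136]], 65, 2⟩
noncomputable def xcedAG_v1 : Lev :=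
  ⟨3, 20, sg (W (nat_lit 0x87224872248722487)), [[138], [140], [142]], 67, 3⟩
noncomputable def xcedAG_v2 : Lev :=
  ⟨1, 16, sg (W (nat_lit 0x2348b23c8f2348b)), [[152], [154], [156]], 74, 3⟩
noncomputable def xcedAG_v3 : Lev :=
  ⟨2, 9, sg (W (nat_lit 0x26c992749b)), [[152]], 77, 0⟩
noncomputable def xcedAG_v4 : Lev :=
  ⟨5, 2, sg [152], [], 77, 0⟩
noncomputable def xcedAG_vs5 : List Lev :=
  []
noncomputable def xcedAG_vs4 : List Lev :=
  xcedAG_v4 :: xcedAG_vs5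
noncomputable def xcedAG_vs3 : List Lev :=
  xcedAG_v3 :: xcedAG_vs4
noncomputable def xcedAG_vs2 : List Lev :=
  xcedAG_v2 :: xcedAG_vs3
noncomputable def xcedAG_vs1 : List Lev :=
  xcedAG_v1 :: xcedAG_vs2
noncomputable def xcedAG_vs : List Lev :=
  xcedAG_v0 :: xcedAG_vs1
noncomputable def xcedA_x : List (ℕ × List ℕ) :=
  [((nat_lit 0), [(nat_lit 0xffffff)]),
  ((nat_lit 0), [(nat_lit 0xf6ffee)]),
  ((nat_lit 0), []),
  ((nat_lit 0), [(nat_lit 0x42400)]),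
  ((nat_lit 0), [(nat_lit 0x800020),
   (nat_lit 0x8100)])]
noncomputable def xcedA_G : Gl :=
  ⟨CL.M24P.Md.P, xns, (app xD []), (diag [[30], [32], [34], [36]]), [], [], memM (app xD []) [[30], [32], [34], [36], [38], [40], [30], [34], [32], [36], [42], [44]], true⟩
noncomputable def xcedA_s : St :=
  ⟨(mkS CL.M24P.Md.P.n xcedAG_vs xcedA_x), [[106], [108], [52], [54], [44], [42], [40], [38], [36], [34], [32], [30], [50]], [], mapL Prod.snd xcedA_F, memM (app xD []) [[30], [32], [34], [36], [38], [40], [30], [34], [32], [36], [42], [44]], []⟩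
noncomputable def xzt62 : ST :=
  (.orb 0 (.dif 0 1 (.dif 0 3 (.br 0 [W (nat_lit 0x4f154530842b), W (nat_lit 0x13c21)] (W (nat_lit 0x40100c01)) [(0, [])] (.cons (.orb 0 (.and 2 0 (.br 0 [W (nat_lit 0x13c51), W (nat_lit 0x4f14453)] (W (nat_lit 0xc01)) [(3, [])] (.cons (.br 7 [W (nat_lit 0x13c55), [78], [86]] (W (nat_lit 0x500c01)) [(1, [])] (.cons (.orb 0 (.img [4] 0 (.and 10 0 (.br 0 [] [] [(2, [])] (.cons (.orb 0 (.orb 1 (.img [2] 0 (.and 2 0 (.br 0 [] [] [(5, [])] (.cons .fnd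
 .nil))))))
 .nil)))))
 .nil))
 .nil))))
 .nil)))))
noncomputable def xzm66 : ℕ :=
  (nat_lit 0)
noncomputable def xnorAG_v0 : Lev :=
  ⟨0, 24, sg (W (nat_lit 0x100c0100c0100c0100c0100c01)), [[4], [6], [8]], 0, 3⟩
noncomputable def xnorAG_v1 : Lev :=
  ⟨1, 23, sg (W (nat_lit 0x140502407024070240701405)), [[10], [12]], 3, 2⟩
noncomputable def xnorAG_v2 : Lev :=
  ⟨2, 22, sg (W (nat_lit 0xd02c0d02c0b0340b)), [[14], [16]], 5, 2⟩
noncomputable def xnorAG_v3 : Lev :=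
  ⟨4, 21, sg (W (nat_lit 0x441103c0f0440f0440f)), [[158], [160]], 77, 2⟩
noncomputable def xnorAG_v4 : Lev :=
  ⟨7, 20, sg (W (nat_lit 0xa127ca12849f2849f)), [[162], [164], [166]], 79, 3⟩
noncomputable def xnorAG_v5 : Lev :=
  ⟨14, 16, sg (W (nat_lit 0xa328ca7294a3)), [[168]], 82, 1⟩
noncomputable def xnorAG_v6 : Lev :=
  ⟨10, 3, sg (W (nat_lit 0x2a4a9)), [], 83, 0⟩
noncomputable def xnorAG_vs7 : List Lev :=
  []
noncomputable def xnorAG_vs6 : List Lev :=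
  xnorAG_v6 :: xnorAG_vs7
noncomputable def xnorAG_vs5 : List Lev :=
  xnorAG_v5 :: xnorAG_vs6
noncomputable def xnorAG_vs4 : List Lev :=
  xnorAG_v4 :: xnorAG_vs5
noncomputable def xnorAG_vs3 : List Lev :=
  xnorAG_v3 :: xnorAG_vs4
noncomputable def xnorAG_vs2 : List Lev :=
  xnorAG_v2 :: xnorAG_vs3
noncomputable def xnorAG_vs1 : List Lev :=
  xnorAG_v1 :: xnorAG_vs2
noncomputable def xnorAG_vs : List Lev :=
  xnorAG_v0 :: xnorAG_vs1
noncomputable def xnorA_x : List (ℕ × List ℕ) :=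
  [((nat_lit 0), [(nat_lit 0xffffff)]),
  ((nat_lit 0), [(nat_lit 0xfffffe)]),
  ((nat_lit 0), []),
  ((nat_lit 0), []),
  ((nat_lit 0), []),
  ((nat_lit 0), []),
  ((nat_lit 0), [(nat_lit 0x1408)])]
noncomputable def xnorA_G : Gl :=
  ⟨CL.M24P.Md.P, xns, (app xD []), [], [([[30], [32], [34], [36], [38], [40]], [[30], [32], [34], [36], [38], [40]])], [], memM (app xD []) [[106], [108], [52], [54], [44], [42], [40], [38], [36], [34], [32], [30], [50]], true⟩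
noncomputable def xnorA_s : St :=
  ⟨(mkS CL.M24P.Md.P.n xnorAG_vs xnorA_x), [[0], [2]], [], [(xzm66, xzm66)], memM (app xD []) [[106], [108], [52], [54], [44], [42], [40], [38], [36], [34], [32], [30], [50]], []⟩
noncomputable def xzt70 : ST :=
  (.orb 0 (.br 0 [W (nat_lit 0x7f2147b1d0791ac74), W (nat_lit 0x7f204851f0731e46c)] (W (nat_lit 0xc0100c0100c0100c01)) [(0, [])] (.cons (.orb 0 (.clo 0 1 (W (nat_lit 0xc01)) (W (nat_lit 0xc01)) (.dif 1 0 (.br 0 [W (nat_lit 0x7f20c851ec741d471), W (nat_lit 0x204851f0731ec71)] (W (nat_lit 0x3004030040100c01)) [(1, [])] (.cons (.clo 0 0 (W (nat_lit 0x1c05)) (W (nat_lit 0x1c05)) (.dif 2 0 (.br 0 [W (nat_lit 0x7f204832147c1cc7b1e072), W (nat_lit 0x832147b1cc7b1dc71), W (nat_lit 0x7f20c851ec731f075)] (W (nat_lit 0x10040500c01)) [(2, [])] (.cons (.dif 5 7 (.br 0 [W (nat_lit 0x1cc791d472), W (nat_lit 0x1fc831ec731f075)] (W (nat_lit 0xc01)) [(4, [])] (.cons (.dif 4 5 (.br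 0 [W (nat_lit 0x8120c731f075), W (nat_lit 0x2147c)] (W (nat_lit 0x403)) [(7, [])] (.cons (.dif 1 0 (.br 0 [W (nat_lit 0x8120c731f075)] [0] [(14, [])] (.cons (.orb 0 (.clo 0 7 (W (nat_lit 0x1c05)) (W (nat_lit 0x1c05)) (.and 1 0 (.br 0 [] [] [(10, [])] (.cons .fnd
 .nil)))))
 .nil)))
 .nil)))
 .nil)))
 .nil))))
 .nil)))))
 .nil)))
noncomputable def xzcj73 : List (List (List ℕ)) :=
  [[W (nat_lit 0x6116c1f), W (nat_lit 0x6118c29), W (nat_lit 0x1845b), [94], W (nat_lit 0x6117c21), W (nat_lit 0x6118c5b17c1f)],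
  [[32], W (nat_lit 0x1846317c29), W (nat_lit 0x1846317c21), W (nat_lit 0x5b17c29), W (nat_lit 0x6316c1f), W (nat_lit 0x6118c5b17c21)],
  [[30], W (nat_lit 0x1846317c29), W (nat_lit 0x6116c1f), W (nat_lit 0x6118c29), W (nat_lit 0x5b17c21), W (nat_lit 0x1846316c1f)],
  [[30], [32], W (nat_lit 0x1845b), W (nat_lit 0x6116c5f), W (nat_lit 0x5b17c21), [40]],
  [[30], [32], W (nat_lit 0x6116c1f), W (nat_lit 0x1845b17c21), W (nat_lit 0x18c29), W (nat_lit 0x6316c1f)],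
  [[30], [32], W (nat_lit 0x6116c1f), W (nat_lit 0x1845b17c21), W (nat_lit 0x1846316c29), W (nat_lit 0x1846317c1f)],
  [[30], [32], W (nat_lit 0x6116c1f), W (nat_lit 0x1845b17c21), W (nat_lit 0x5b17c21), [40]],
  [[30], [32], W (nat_lit 0x6116c1f), W (nat_lit 0x1845b17c21), W (nat_lit 0x5b17c21), [40]],
  [[30], [32], W (nat_lit 0x6116c1f), W (nat_lit 0x1845b17c21), W (nat_lit 0x5b17c21), [40]],
  [[30], [32], W (nat_lit 0x6116c1f), W (nat_lit 0x1845b17c21), W (nat_lit 0x5b17c21), [40]],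
  [[30], [32], W (nat_lit 0x6116c1f), W (nat_lit 0x1845b17c21), W (nat_lit 0x5b17c21), [40]],
  [[30], [32], W (nat_lit 0x6116c1f), W (nat_lit 0x1845b17c21), W (nat_lit 0x5b17c21), [40]],
  [W (nat_lit 0x6118c29), W (nat_lit 0x6116c1f), [94], W (nat_lit 0x1845b), W (nat_lit 0x1846316c1f), W (nat_lit 0x5b17c21)]]
noncomputable def xzts77 : List (List ℕ) :=
  [W (nat_lit 0x832147c1cc7b1dc71),
  W (nat_lit 0x1fc81214731ec751ac74),
  W (nat_lit 0x2147c),
  W (nat_lit 0x1fc81214741e4721ac7b),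
  W (nat_lit 0x1fc831f0731ec781b479),
  W (nat_lit 0x7f204832147b1e07d1d4711ac83),
  W (nat_lit 0x1fc781d4711ac83),
  W (nat_lit 0x8120c7c1dc7d1c86b1b46c),
  W (nat_lit 0x1dc7d1c46b1b86c),
  W (nat_lit 0x204831dc7d1c46b1b86c),
  W (nat_lit 0x7f204851f0741f06b1d06b),
  W (nat_lit 0x20483214731c46b1b86c),
  W (nat_lit 0x1d06b1d06b),
  W (nat_lit 0x7f20c851cc7b1dc751ac83),
  W (nat_lit 0x20c851f0741f0751ac74),
  W (nat_lit 0x7f2147b1cc731c86b),
  W (nat_lit 0x7f20c851ec731c86b1b46c),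
  W (nat_lit 0x1fc7c1cc771d4721ac70),
  W (nat_lit 0x7f20483214731cc751c86e)]
noncomputable def xzts85 : List (List ℕ) :=
  [W (nat_lit 0x6317c1f),
  W (nat_lit 0x1845b17c29),
  [],
  [],
  W (nat_lit 0x1845b17c21),
  [32],
  W (nat_lit 0x1846316c1f),
  [40],
  W (nat_lit 0x6118c29),
  W (nat_lit 0x1845b17c21),
  W (nat_lit 0x1846317c29),
  [32],
  []]
noncomputable def xzts88 : List (List ℕ) :=
  [[],
  [],
  []]
noncomputable def xzus94 : List (List ℕ) :=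
  [[182],
  [184],
  [186],
  W (nat_lit 0x2dcb9),
  W (nat_lit 0x2dcbb),
  W (nat_lit 0x2e4bb),
  W (nat_lit 0xb72e4bb)]
noncomputable def xzF95 : List (List (ℕ × List ℕ)) :=
  [[(1, []),
   (0, []),
   (4, []),
   (5, []),
   (2, []),
   (3, []),
   (7, []),
   (6, [])],
  [(2, []),
   (4, []),
   (0, []),
   (6, []),
   (1, []),
   (7, []),
   (3, []),
   (5, [])],
  [(3, []),
   (5, []),
   (6, []),
   (0, []),
   (7, []),
   (1, []),
   (2, []),
   (4, [])]]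
noncomputable def xzus98 : List (List ℕ) :=
  [[178],
  [179],
  [180],
  W (nat_lit 0x2ccb3),
  W (nat_lit 0x2d0b4),
  W (nat_lit 0x2d0b5),
  W (nat_lit 0x2d4b3),
  W (nat_lit 0x2d4b4),
  W (nat_lit 0xb32ccb5),
  W (nat_lit 0x2d0b9),
  W (nat_lit 0x2d4b9),
  W (nat_lit 0xb32e4bb),
  W (nat_lit 0x2ccbb),
  W (nat_lit 0xb32e4b4),
  W (nat_lit 0x2ccb9),
  W (nat_lit 0xb32dcb4),
  W (nat_lit 0xb32ecb4),
  W (nat_lit 0xb32ccb9),
  W (nat_lit 0x2ccb7)]
noncomputable def xzF99 : List (List (ℕ × List ℕ)) :=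
  [[(1, []),
   (4, []),
   (0, []),
   (7, []),
   (5, []),
   (2, []),
   (10, W (nat_lit 0xb72e4bb)),
   (12, [184]),
   (3, []),
   (8, [184]),
   (14, [182]),
   (6, [182]),
   (9, []),
   (16, W (nat_lit 0x2e4bb)),
   (15, []),
   (11, W (nat_lit 0xb72e4bb)),
   (19, []),
   (13, []),
   (17, [186]),
   (18, [184])],
  [(3, []),
   (1, W (nat_lit 0x2e4bb)),
   (6, []),
   (0, []),
   (9, []),
   (10, W (nat_lit 0x2e4bb)),
   (2, []),
   (13, W (nat_lit 0x2e4bb)),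
   (8, [186]),
   (4, []),
   (5, W (nat_lit 0x2e4bb)),
   (16, [182]),
   (17, W (nat_lit 0x2dcbb)),
   (7, W (nat_lit 0x2e4bb)),
   (18, W (nat_lit 0x2e4bb)),
   (15, W (nat_lit 0xb72e4bb)),
   (11, [182]),
   (12, W (nat_lit 0x2dcbb)),
   (14, W (nat_lit 0x2e4bb)),
   (19, W (nat_lit 0x2dcbb))]]
noncomputable def xzE102 : List (ℕ × List ℕ) :=
  [(174, W (nat_lit 0xb72ecb4))]
noncomputable def xzt103 : List ℕ :=
  W (nat_lit 0x2dcbb)
noncomputable def xzcj104 : List (List ℕ) :=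
  [W (nat_lit 0xb72e4bb2d4b3),
  W (nat_lit 0xb72ecb3)]
noncomputable def xzus108 : List (List ℕ) :=
  [[172],
  [173],
  W (nat_lit 0x2b4ab),
  W (nat_lit 0x2b4ac),
  W (nat_lit 0x2b4ad),
  W (nat_lit 0x2b8ab),
  W (nat_lit 0x2b4b4),
  W (nat_lit 0xad2acab),
  W (nat_lit 0x2b4b3),
  W (nat_lit 0xad2acae),
  W (nat_lit 0xad2b0ad),
  W (nat_lit 0x2b8bb),
  W (nat_lit 0x2b8b1),
  W (nat_lit 0xad2e4ae),
  W (nat_lit 0x2b8b5),
  W (nat_lit 0x2b4b7),
  W (nat_lit 0xad2bcb5),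
  W (nat_lit 0x2b4b9),
  W (nat_lit 0xad2ccad),
  W (nat_lit 0x2b4af),
  W (nat_lit 0x2b8b7),
  W (nat_lit 0xad2acb3),
  W (nat_lit 0xae2dcad)]
noncomputable def xzF109 : List (List (ℕ × List ℕ)) :=
  [[(0, W (nat_lit 0xb92ecb32ecb1)),
   (3, []),
   (6, []),
   (8, []),
   (1, []),
   (10, W (nat_lit 0xb72e4bb2d0b5)),
   (2, W (nat_lit 0x2dcb92ecb32ccb9)),
   (12, W (nat_lit 0x2ccb1)),
   (4, []),
   (9, W (nat_lit 0xb72e4b52ccb1)),
   (18, W (nat_lit 0xb72e4bb2ccbb2d0b1)),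
   (5, W (nat_lit 0x2ecb32e4b4)),
   (17, W (nat_lit 0xb72ccb92d0b1)),
   (22, W (nat_lit 0x2e4b52e4b1)),
   (14, W (nat_lit 0xb72d0b1)),
   (20, W (nat_lit 0x2d4b1)),
   (7, W (nat_lit 0x2e4b42d4b1)),
   (16, W (nat_lit 0xb72e4b52ccb1)),
   (11, W (nat_lit 0x2ecb52ccb1)),
   (23, W (nat_lit 0x2dcb42d0b1)),
   (13, W (nat_lit 0x2dcb92d4b3)),
   (21, W (nat_lit 0x2dcb92ccb92ecb1)),
   (15, W (nat_lit 0xb72d0b9)),
   (19, W (nat_lit 0xb92ccb32e4b1))],
  [(1, []),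
   (5, []),
   (0, []),
   (9, W (nat_lit 0x2dcb92ecb5)),
   (11, []),
   (13, W (nat_lit 0xb72e4bb2ccb32e4b1)),
   (14, W (nat_lit 0xb92ccb92ecb1)),
   (2, W (nat_lit 0x2dcb92ecb52e4b1)),
   (17, W (nat_lit 0xb92ccb1)),
   (19, []),
   (3, []),
   (21, W (nat_lit 0xb92ccb92ecb1)),
   (4, W (nat_lit 0xb92ecb32ecb4)),
   (15, W (nat_lit 0xb72e4b32e4bb)),
   (18, []),
   (6, W (nat_lit 0x2dcb4)),
   (12, W (nat_lit 0xb42d0b1)),
   (7, W (nat_lit 0xb72ecb52ccb1)),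
   (8, W (nat_lit 0xb72ecb52d0b1)),
   (16, [179]),
   (10, W (nat_lit 0xb32ecb1)),
   (23, []),
   (20, W (nat_lit 0xb72e4b4)),
   (22, W (nat_lit 0xb72ecb32ecb1))]]
noncomputable def xYA_v0 : Lev :=
  ⟨0, 24, sg (W (nat_lit 0xad2b4ab2b4ad2acad2acad)), [[174], [176]], 85, 2⟩
noncomputable def xYA_v1 : Lev :=
  ⟨4, 2, sg [176], [[178], [180]], 87, 2⟩
noncomputable def xYA_v2 : Lev :=
  ⟨1, 20, sg (W (nat_lit 0xb32d4b32ccb32d4b3)), [[182], [184], [186]], 89, 3⟩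
noncomputable def xYA_v3 : Lev :=
  ⟨2, 8, sg (W (nat_lit 0xbb2e4b7)), [], 92, 0⟩
noncomputable def xYA_vs4 : List Lev :=
  []
noncomputable def xYA_vs3 : List Lev :=
  xYA_v3 :: xYA_vs4
noncomputable def xYA_vs2 : List Lev :=
  xYA_v2 :: xYA_vs3
noncomputable def xYA_vs1 : List Lev :=
  xYA_v1 :: xYA_vs2
noncomputable def xYA_vs : List Lev :=
  xYA_v0 :: xYA_vs1
noncomputable def xceyA_F : List (List ℕ × ℕ × ℕ) :=
  []
noncomputable def xceyAG_v0 : Lev :=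
  ⟨0, 24, sg (W (nat_lit 0x6b09c2d0d46b)), [[134], [136]], 65, 2⟩
noncomputable def xceyAG_v1 : Lev :=
  ⟨3, 20, sg (W (nat_lit 0x87224872248722487)), [[138], [140], [142]], 67, 3⟩
noncomputable def xceyAG_v2 : Lev :=
  ⟨1, 16, sg (W (nat_lit 0x2348b23c8f2348b)), [[152], [154], [156]], 74, 3⟩
noncomputable def xceyAG_v3 : Lev :=
  ⟨7, 3, sg (W (nat_lit 0x2649d)), [[152], [154]], 92, 0⟩
noncomputable def xceyAG_v4 : Lev :=
  ⟨2, 3, sg (W (nat_lit 0x2649b)), [[152]], 92, 0⟩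
noncomputable def xceyAG_v5 : Lev :=
  ⟨5, 2, sg [152], [], 77, 0⟩
noncomputable def xceyAG_vs6 : List Lev :=
  []
noncomputable def xceyAG_vs5 : List Lev :=
  xceyAG_v5 :: xceyAG_vs6
noncomputable def xceyAG_vs4 : List Lev :=
  xceyAG_v4 :: xceyAG_vs5
noncomputable def xceyAG_vs3 : List Lev :=
  xceyAG_v3 :: xceyAG_vs4
noncomputable def xceyAG_vs2 : List Lev :=
  xceyAG_v2 :: xceyAG_vs3
noncomputable def xceyAG_vs1 : List Lev :=
  xceyAG_v1 :: xceyAG_vs2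
noncomputable def xceyAG_vs : List Lev :=
  xceyAG_v0 :: xceyAG_vs1
noncomputable def xceyA_x : List (ℕ × List ℕ) :=
  [((nat_lit 0), [(nat_lit 0xffffff)]),
  ((nat_lit 0), [(nat_lit 0xf6ffee)]),
  ((nat_lit 0), [(nat_lit 0xb6ede6)]),
  ((nat_lit 0), []),
  ((nat_lit 0), [(nat_lit 0x800024),
   (nat_lit 0x42400)]),
  ((nat_lit 0), [(nat_lit 0x800020),
   (nat_lit 0x8100)])]
noncomputable def xceyA_G : Gl :=
  ⟨CL.M24P.Md.P, xns, (app xD []), (diag [W (nat_lit 0x8c21)]), [], [], memM (app xD []) [[170], [172]], true⟩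
noncomputable def xceyA_s : St :=
  ⟨(mkS CL.M24P.Md.P.n xceyAG_vs xceyA_x), [[106], [108], [52], [54], [44], [42], [40], [38], [36], [34], [32], [30], [50]], [], mapL Prod.snd xceyA_F, memM (app xD []) [[170], [172]], []⟩
noncomputable def xzt116 : ST :=
  (.orb 0 (.br 0 [W (nat_lit 0x2dcb92ecb32ecb12b8ab), W (nat_lit 0xb92ccad2acab)] (W (nat_lit 0xc0100c0100c0100c01)) [(0, [])] (.cons (.orb 0 (.br 0 [W (nat_lit 0xbb2ccbb), W (nat_lit 0xb32dcb1)] (W (nat_lit 0x100c0100c0100c01)) [(3, [])] (.cons (.orb 0 (.br 0 [W (nat_lit 0x2e4bb2ccb1), W (nat_lit 0xb92d4b3)] (W (nat_lit 0xc010040100c01)) [(1, [])] (.cons (.img [0] 0 (.br 0 [] [] [(7, [])] (.cons (.orb 0 (.orb 1 (.img [0] 0 (.and 2 0 (.br 0 [] [] [(2, [])] (.cons (.orb 0 (.orb 1 (.img [0] 0 (.and 2 0 (.br 0 [] [] [(5, [])] (.cons .fnd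
 .nil))))))
 .nil))))))
 .nil)))
 .nil)))
 .nil)))
 .nil)))
noncomputable def xzcj120 : List (List (List ℕ)) :=
  [[W (nat_lit 0x324c2), W (nat_lit 0xcb2f81f), W (nat_lit 0x32429), W (nat_lit 0x32cbe), W (nat_lit 0xcb2f8c3), W (nat_lit 0xbe30c21), W (nat_lit 0x324cb30c1f)],
  [W (nat_lit 0xc92f8c330429), [32], W (nat_lit 0xc932cbe30c29), W (nat_lit 0xc932cbe30c21), W (nat_lit 0xcb30c29), W (nat_lit 0x324cb2f81f), W (nat_lit 0x324cb30c21)],
  [W (nat_lit 0x324be30cc2), [30], W (nat_lit 0xc932cbe30c29), W (nat_lit 0xcb2f81f), W (nat_lit 0x32429), W (nat_lit 0xcb30c21), W (nat_lit 0xc92f81f)],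
  [W (nat_lit 0xc930cc1), [30], [32], W (nat_lit 0x32cbe), [194], W (nat_lit 0xcb30c21), [40]],
  [W (nat_lit 0xc932cc330429), [30], [32], W (nat_lit 0xcb2f81f), W (nat_lit 0x30c21), W (nat_lit 0xc932c29), W (nat_lit 0x324cb2f81f)],
  [W (nat_lit 0x324cb30429), [30], [32], W (nat_lit 0xcb2f81f), W (nat_lit 0x30c21), W (nat_lit 0xc92f829), W (nat_lit 0xc932cbe30c1f)],
  [W (nat_lit 0x2f8c330421), [30], [32], W (nat_lit 0xcb2f81f), W (nat_lit 0x30c21), W (nat_lit 0xcb30c21), [40]],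
  [W (nat_lit 0x32cbe3041f), [30], [32], W (nat_lit 0xcb2f81f), W (nat_lit 0x30c21), W (nat_lit 0xcb30c21), [40]],
  [W (nat_lit 0xc932cbe3041f), [30], [32], W (nat_lit 0xcb2f81f), W (nat_lit 0x30c21), W (nat_lit 0xcb30c21), [40]],
  [W (nat_lit 0xc932cc330429), [30], [32], W (nat_lit 0xcb2f81f), W (nat_lit 0x30c21), W (nat_lit 0xcb30c21), [40]],
  [W (nat_lit 0x324c33041f), [30], [32], W (nat_lit 0xcb2f81f), W (nat_lit 0x30c21), W (nat_lit 0xcb30c21), [40]],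
  [W (nat_lit 0x324cb30429), [30], [32], W (nat_lit 0xcb2f81f), W (nat_lit 0x30c21), W (nat_lit 0xcb30c21), [40]],
  [W (nat_lit 0xc930cc1), W (nat_lit 0x32429), W (nat_lit 0xcb2f81f), W (nat_lit 0xcb2f8c3), W (nat_lit 0x32cbe), W (nat_lit 0xc92f81f), W (nat_lit 0xcb30c21)]]
noncomputable def xzus125 : List (List ℕ) :=
  [[224],
  [226],
  [228],
  [230],
  W (nat_lit 0x384e3),
  W (nat_lit 0x384e5),
  W (nat_lit 0x384e7),
  W (nat_lit 0x38ce5),
  W (nat_lit 0x38ce7),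
  W (nat_lit 0x394e7),
  W (nat_lit 0xe138ce5),
  W (nat_lit 0xe138ce7),
  W (nat_lit 0xe1394e7),
  W (nat_lit 0xe3394e7),
  W (nat_lit 0x384e3394e7)]
noncomputable def xzF126 : List (List (ℕ × List ℕ)) :=
  [[(1, []),
   (0, []),
   (5, []),
   (6, []),
   (7, []),
   (2, []),
   (3, []),
   (4, []),
   (11, []),
   (12, []),
   (13, []),
   (8, []),
   (9, []),
   (10, []),
   (15, []),
   (14, [])],
  [(2, []),
   (5, []),
   (0, []),
   (8, []),
   (9, []),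
   (1, []),
   (11, []),
   (12, []),
   (3, []),
   (4, []),
   (14, []),
   (6, []),
   (7, []),
   (15, []),
   (10, []),
   (13, [])],
  [(3, []),
   (6, []),
   (8, []),
   (0, []),
   (10, []),
   (11, []),
   (1, []),
   (13, []),
   (2, []),
   (14, []),
   (4, []),
   (5, []),
   (15, []),
   (7, []),
   (9, []),
   (12, [])],
  [(4, []),
   (7, []),
   (9, []),
   (10, []),
   (0, []),
   (12, []),
   (13, []),
   (1, []),
   (14, []),
   (2, []),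
   (3, []),
   (15, []),
   (5, []),
   (6, []),
   (8, []),
   (11, [])]]
noncomputable def xzus129 : List (List ℕ) :=
  [[216],
  [222],
  W (nat_lit 0x364df)]
noncomputable def xzF130 : List (List (ℕ × List ℕ)) :=
  [[(1, []),
   (0, []),
   (3, W (nat_lit 0x384e5)),
   (2, W (nat_lit 0x384e5))],
  [(0, W (nat_lit 0x384e7)),
   (1, W (nat_lit 0xe138ce5)),
   (2, [226]),
   (3, W (nat_lit 0x394e7))],
  [(0, W (nat_lit 0xe1394e7)),
   (1, W (nat_lit 0x38ce5)),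
   (2, [230]),
   (3, W (nat_lit 0x384e3))],
  [(2, []),
   (3, []),
   (0, W (nat_lit 0xe3394e7)),
   (1, W (nat_lit 0xe3394e7))]]
noncomputable def xzus133 : List (List ℕ) :=
  [[212],
  [213],
  [215],
  W (nat_lit 0x354d7),
  W (nat_lit 0x358d7)]
noncomputable def xzF134 : List (List (ℕ × List ℕ)) :=
  [[(1, []),
   (2, W (nat_lit 0x394e7)),
   (0, []),
   (5, [216]),
   (3, W (nat_lit 0x38ce7)),
   (4, W (nat_lit 0x384e3394d9))],
  [(2, [222]),
   (4, []),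
   (5, []),
   (0, []),
   (1, W (nat_lit 0xe138ce539cd9)),
   (3, W (nat_lit 0x384e339cdf))]]
noncomputable def xzus137 : List (List ℕ) :=
  [[208],
  [209],
  W (nat_lit 0x344d1),
  W (nat_lit 0x344d3),
  W (nat_lit 0x344d7),
  W (nat_lit 0x344d6)]
noncomputable def xzF138 : List (List (ℕ × List ℕ)) :=
  [[(1, []),
   (3, []),
   (0, []),
   (5, W (nat_lit 0x384e339cd937cd6)),
   (2, W (nat_lit 0xe539cd9)),
   (6, W (nat_lit 0x38ce7364d5)),
   (4, W (nat_lit 0xe339cd9358d7))],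
  [(0, W (nat_lit 0x394e7364d6)),
   (4, []),
   (5, W (nat_lit 0x394d5)),
   (1, W (nat_lit 0x384e339cd8)),
   (3, W (nat_lit 0x37cd6)),
   (6, W (nat_lit 0x384e5364df358d7)),
   (2, W (nat_lit 0x384e537cd8))]]
noncomputable def xzus141 : List (List ℕ) :=
  [[204],
  [205],
  [206],
  [207],
  W (nat_lit 0x334cd),
  W (nat_lit 0x334d0),
  W (nat_lit 0x334e1),
  W (nat_lit 0x334d3),
  W (nat_lit 0x334e0),
  W (nat_lit 0x334d2),
  W (nat_lit 0x33ccf),
  W (nat_lit 0x340cd),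
  W (nat_lit 0x338d3),
  W (nat_lit 0x33cd3),
  W (nat_lit 0x334df),
  W (nat_lit 0x340d2),
  W (nat_lit 0x334d9),
  W (nat_lit 0x334d8),
  W (nat_lit 0x334e3),
  W (nat_lit 0x334db),
  W (nat_lit 0x334d4),
  W (nat_lit 0x33cd1),
  W (nat_lit 0x33cd5)]
noncomputable def xzF142 : List (List (ℕ × List ℕ)) :=
  [[(1, []),
   (5, []),
   (0, []),
   (9, W (nat_lit 0x384d8344d7)),
   (12, []),
   (14, W (nat_lit 0xe138ce5364d6344d3)),
   (16, W (nat_lit 0xe3364df358d7)),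
   (2, W (nat_lit 0xe3394e7)),
   (13, W (nat_lit 0xe1364df358d1)),
   (18, W (nat_lit 0xe3364df344d1)),
   (3, W (nat_lit 0xe138ce7354d7344d7)),
   (8, W (nat_lit 0xd9354d7344d6)),
   (20, W (nat_lit 0x384e339cd9354d7344d7)),
   (4, W (nat_lit 0x384e537cd535cd2)),
   (7, W (nat_lit 0x384e339cd937cd8344d6)),
   (6, W (nat_lit 0xe3394d9344d6)),
   (21, W (nat_lit 0x384e3394d937cd6344d1)),
   (10, W (nat_lit 0x384e7364df360d1)),
   (23, W (nat_lit 0xe1394e7364df358d7344d6)),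
   (22, W (nat_lit 0x39cdf358d7344d7)),
   (11, W (nat_lit 0xe138ce7364df354d7344d3)),
   (19, W (nat_lit 0x38ce737cd1)),
   (15, W (nat_lit 0xe3394d8344d1)),
   (17, W (nat_lit 0xe138ce737cd8344d3))],
  [(3, []),
   (2, W (nat_lit 0x38ce539cdf354d7344d3)),
   (8, W (nat_lit 0xe1364d8)),
   (11, []),
   (0, []),
   (12, W (nat_lit 0xe1360d1)),
   (1, []),
   (18, W (nat_lit 0x384e3364d6344d7)),
   (19, W (nat_lit 0xe138ce539cd9354d2)),
   (13, W (nat_lit 0x384e3364d8344d3)),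
   (21, W (nat_lit 0xe138ce539cdf)),
   (22, W (nat_lit 0xe138cd9354d1)),
   (20, W (nat_lit 0x394e7364df358d7344d6)),
   (17, W (nat_lit 0x384e5358d7344d3)),
   (4, W (nat_lit 0xe339cd9358d7344d3)),
   (5, W (nat_lit 0xd9358d7344d3)),
   (14, W (nat_lit 0xe1394d9358d7344d7)),
   (6, W (nat_lit 0x394e7364df344d3)),
   (15, W (nat_lit 0x38ce7364df360d1)),
   (7, W (nat_lit 0xe138ce539cd9354d7344d7)),
   (9, W (nat_lit 0x384e339cdf358d7344d7)),
   (10, W (nat_lit 0x384e539cd937cd535cd2)),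
   (16, [209]),
   (23, W (nat_lit 0x384e7364df344d6))]]
noncomputable def xHB_v0 : Lev :=
  ⟨0, 24, sg (W (nat_lit 0xcd33ccd33ccd33ccd)), [[208], [210]], 102, 2⟩
noncomputable def xHB_v1 : Lev :=
  ⟨3, 7, sg (W (nat_lit 0x34cd3344d1)), [[212], [214]], 104, 2⟩
noncomputable def xHB_v2 : Lev :=
  ⟨4, 6, sg (W (nat_lit 0x354d7354d5)), [[216], [218], [220], [222]], 106, 4⟩
noncomputable def xHB_v3 : Lev :=
  ⟨9, 4, sg (W (nat_lit 0x37cd9)), [[224], [226], [228], [230]], 110, 4⟩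
noncomputable def xHB_v4 : Lev :=
  ⟨1, 16, sg (W (nat_lit 0x39ce538ce1)), [], 114, 0⟩
noncomputable def xHB_vs5 : List Lev :=
  []
noncomputable def xHB_vs4 : List Lev :=
  xHB_v4 :: xHB_vs5
noncomputable def xHB_vs3 : List Lev :=
  xHB_v3 :: xHB_vs4
noncomputable def xHB_vs2 : List Lev :=
  xHB_v2 :: xHB_vs3
noncomputable def xHB_vs1 : List Lev :=
  xHB_v1 :: xHB_vs2
noncomputable def xHB_vs : List Lev :=
  xHB_v0 :: xHB_vs1
noncomputable def xzts146 : List (List ℕ) :=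
  [[204],
  [206],
  W (nat_lit 0x384d9354d133ccf),
  W (nat_lit 0xe3394e737cd8344d7334d9),
  W (nat_lit 0x384e3394e737cd6344d3340d2),
  W (nat_lit 0x38ce737cd6344d3340d2),
  W (nat_lit 0xe138ce5354d7344d733cd3),
  W (nat_lit 0x384e339cdf354d7344d133cd5),
  W (nat_lit 0x38cd9344d333cd5),
  W (nat_lit 0x38ce737cd535cd134ccf),
  W (nat_lit 0xe3394d9344d333cd5),
  W (nat_lit 0xe137cd535cd134ccf),
  W (nat_lit 0xe339cdf358d7344d6334d9)]
noncomputable def xB : MD :=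
  ⟨6, 4, 16, 48, 6, 4, 10378832335288374590, 8067911738421177024, false, [2, 3, 8, 12, 32, 48], [4, 8, 5, 10, 21, 42], [1, 2, 4, 8, 17, 34], [1, 2, 5, 10, 16, 32], [1, 3, 4, 12, 16, 48],
  [[8, 12, 42, 63, 2, 3], [21, 63, 5, 15, 17, 51], [51, 34, 63, 42, 48, 32]],
  [[1, 2, 20, 40, 4, 8], [1, 2, 5, 10, 17, 34], [1, 2, 5, 10, 16, 32]]⟩
noncomputable def sB : WS :=
  ⟨[30, 34, 32, 36, 42, 44], [W (nat_lit 0xe139cdf334e3), W (nat_lit 0xe1394d937cd635cd1334e0), W (nat_lit 0x394e7364df358d7344d3334d0)],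
  [W (nat_lit 0x38ce539cd8344d6334df), W (nat_lit 0xdf358d133cd5), W (nat_lit 0x364d2334d4)], false, true, [[30], [32], [34], [36], [38], [40], [30], [34], [32], [36], [42], [44]], [51], W (nat_lit 0x39cd5344d1), 0⟩
noncomputable def xzm150 : ℕ :=
  (nat_lit 0x324486)
noncomputable def xzm151 : ℕ :=
  (nat_lit 0x84a960)
noncomputable def xcenB_F : List (List ℕ × ℕ × ℕ) :=
  [([0], xzm150, xzm150),
  ([2], xzm151, xzm151)]
noncomputable def xcenBG_v0 : Lev :=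
  ⟨0, 24, sg (W (nat_lit 0x270a43533ccd)), [[232], [234]], 114, 2⟩
noncomputable def xcenBG_v1 : Lev :=
  ⟨1, 16, sg (W (nat_lit 0x3aceb3a4e93a4e93ace9)), [[236], [238]], 116, 2⟩
noncomputable def xcenBG_v2 : Lev :=
  ⟨3, 7, sg (W (nat_lit 0xef3b4ef3b4ed)), [[240], [242]], 118, 2⟩
noncomputable def xcenBG_v3 : Lev :=
  ⟨2, 6, sg (W (nat_lit 0xf13ccf1)), [[244], [246]], 120, 2⟩
noncomputable def xcenBG_v4 : Lev :=
  ⟨9, 4, sg (W (nat_lit 0x3dcf5)), [], 122, 0⟩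
noncomputable def xcenBG_vs5 : List Lev :=
  []
noncomputable def xcenBG_vs4 : List Lev :=
  xcenBG_v4 :: xcenBG_vs5
noncomputable def xcenBG_vs3 : List Lev :=
  xcenBG_v3 :: xcenBG_vs4
noncomputable def xcenBG_vs2 : List Lev :=
  xcenBG_v2 :: xcenBG_vs3
noncomputable def xcenBG_vs1 : List Lev :=
  xcenBG_v1 :: xcenBG_vs2
noncomputable def xcenBG_vs : List Lev :=
  xcenBG_v0 :: xcenBG_vs1
noncomputable def xcenB_x : List (ℕ × List ℕ) :=
  [((nat_lit 0), [(nat_lit 0xffffff)]),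
  ((nat_lit 0), []),
  ((nat_lit 0), []),
  ((nat_lit 0), [(nat_lit 0x400)]),
  ((nat_lit 0), [])]
noncomputable def xcenB_G : Gl :=
  ⟨CL.M24P.Md.P, xns, (app xD []), (diag [[30], [34], [32], [36], [42], [44]]), [], [], memM (app xD []) [[30], [34], [32], [36], [42], [44]], true⟩
noncomputable def xcenB_s : St :=
  ⟨(mkS CL.M24P.Md.P.n xcenBG_vs xcenB_x), [[204], [206], [52], [54], [44], [42], [40], [38], [36], [34], [32], [30], [50]], [], mapL Prod.snd xcenB_F, memM (app xD []) [[30], [34], [32], [36], [42], [44]], []⟩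
noncomputable def xzt155 : ST :=
  (.orb 0 (.dif 0 1 (.dif 0 3 (.br 0 [[30], W (nat_lit 0x6507c2b), W (nat_lit 0x1946707c21)] (W (nat_lit 0x500c01)) [(0, [])] (.cons (.br 4 [W (nat_lit 0x6519c69), [102], W (nat_lit 0x19c69)] (W (nat_lit 0x500c01)) [(1, [])] (.cons (.img [8] 1 (.br 0 [] [] [(3, [])] (.cons (.orb 0 (.img [2] 0 (.br 0 [] [] [(2, [])] (.cons (.img [4] 3 (.br 0 [] [] [(9, [])] (.cons .fnd
 .nil)))
 .nil))))
 .nil)))
 .nil))
 .nil)))))
noncomputable def xzm159 : ℕ :=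
  (nat_lit 0x324486)
noncomputable def xzm160 : ℕ :=
  (nat_lit 0x84a960)
noncomputable def xcedB_F : List (List ℕ × ℕ × ℕ) :=
  [([0], xzm159, xzm159),
  ([4], xzm160, xzm160)]
noncomputable def xcedBG_v0 : Lev :=
  ⟨0, 24, sg (W (nat_lit 0x270a43533ccd)), [[232], [234]], 114, 2⟩
noncomputable def xcedBG_v1 : Lev :=
  ⟨1, 16, sg (W (nat_lit 0x3aceb3a4e93a4e93ace9)), [[236], [238]], 116, 2⟩
noncomputable def xcedBG_v2 : Lev :=
  ⟨3, 7, sg (W (nat_lit 0xef3b4ef3b4ed)), [[240], [242]], 118, 2⟩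
noncomputable def xcedBG_v3 : Lev :=
  ⟨2, 6, sg (W (nat_lit 0xf13ccf1)), [[244], [246]], 120, 2⟩
noncomputable def xcedBG_v4 : Lev :=
  ⟨9, 4, sg (W (nat_lit 0x3dcf5)), [], 122, 0⟩
noncomputable def xcedBG_vs5 : List Lev :=
  []
noncomputable def xcedBG_vs4 : List Lev :=
  xcedBG_v4 :: xcedBG_vs5
noncomputable def xcedBG_vs3 : List Lev :=
  xcedBG_v3 :: xcedBG_vs4
noncomputable def xcedBG_vs2 : List Lev :=
  xcedBG_v2 :: xcedBG_vs3
noncomputable def xcedBG_vs1 : List Lev :=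
  xcedBG_v1 :: xcedBG_vs2
noncomputable def xcedBG_vs : List Lev :=
  xcedBG_v0 :: xcedBG_vs1
noncomputable def xcedB_x : List (ℕ × List ℕ) :=
  [((nat_lit 0), [(nat_lit 0xffffff)]),
  ((nat_lit 0), []),
  ((nat_lit 0), [(nat_lit 0x491218)]),
  ((nat_lit 0), [(nat_lit 0x400)]),
  ((nat_lit 0), [])]
noncomputable def xcedB_G : Gl :=
  ⟨CL.M24P.Md.P, xns, (app xD []), (diag [[30], [32], [34], [36]]), [], [], memM (app xD []) [[30], [32], [34], [36], [38], [40], [30], [34], [32], [36], [42], [44]], true⟩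
noncomputable def xcedB_s : St :=
  ⟨(mkS CL.M24P.Md.P.n xcedBG_vs xcedB_x), [[204], [206], [52], [54], [44], [42], [40], [38], [36], [34], [32], [30], [50]], [], mapL Prod.snd xcedB_F, memM (app xD []) [[30], [32], [34], [36], [38], [40], [30], [34], [32], [36], [42], [44]], []⟩
noncomputable def xzt164 : ST :=
  (.orb 0 (.dif 0 1 (.dif 0 3 (.br 0 [W (nat_lit 0x551445307c2b), W (nat_lit 0x5515c1f), W (nat_lit 0x4f14421)] (W (nat_lit 0x40500c01)) [(0, [])] (.cons (.br 4 [W (nat_lit 0x13c51), W (nat_lit 0x4f15453), W (nat_lit 0x15457)] (W (nat_lit 0x500c01)) [(1, [])] (.cons (.orb 0 (.img [0] 2 (.dif 1 0 (.img [2] 4 (.dif 1 0 (.img (W (nat_lit 0xc01)) 6 (.dif 1 0 (.br 0 [W (nat_lit 0x15451), W (nat_lit 0x14453)] (W (nat_lit 0xc01)) [(3, [])] (.cons (.orb 0 (.img [4] 0 (.br 0 [] [] [(2, [])] (.cons (.img [2] 3 (.br 0 [] [] [(9, [])] (.cons .fnd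
 .nil)))
 .nil))))
 .nil)))))))))
 .nil))
 .nil)))))
noncomputable def xzm168 : ℕ :=
  (nat_lit 0)
noncomputable def xnorBG_v0 : Lev :=
  ⟨0, 24, sg (W (nat_lit 0x100c0100c0100c0100c0100c01)), [[4], [6], [8]], 0, 3⟩
noncomputable def xnorBG_v1 : Lev :=
  ⟨1, 23, sg (W (nat_lit 0x140502407024070240701405)), [[10], [12]], 3, 2⟩
noncomputable def xnorBG_v2 : Lev :=
  ⟨2, 22, sg (W (nat_lit 0xd02c0d02c0b0340b)), [[14], [16]], 5, 2⟩
noncomputable def xnorBG_v3 : Lev :=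
  ⟨5, 21, sg (W (nat_lit 0x3c0f0440f0440f04411)), [[248], [250]], 122, 2⟩
noncomputable def xnorBG_v4 : Lev :=
  ⟨7, 20, sg (W (nat_lit 0xf93ecf93ecf93ecf9)), [[252], [254], [256]], 124, 3⟩
noncomputable def xnorBG_v5 : Lev :=
  ⟨11, 3, sg (W (nat_lit 0x3f4fd)), [[258], [260], [262], [264]], 127, 4⟩
noncomputable def xnorBG_v6 : Lev :=
  ⟨10, 16, sg (W (nat_lit 0x4250741503)), [], 131, 0⟩
noncomputable def xnorBG_vs7 : List Lev :=
  []
noncomputable def xnorBG_vs6 : List Lev :=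
  xnorBG_v6 :: xnorBG_vs7
noncomputable def xnorBG_vs5 : List Lev :=
  xnorBG_v5 :: xnorBG_vs6
noncomputable def xnorBG_vs4 : List Lev :=
  xnorBG_v4 :: xnorBG_vs5
noncomputable def xnorBG_vs3 : List Lev :=
  xnorBG_v3 :: xnorBG_vs4
noncomputable def xnorBG_vs2 : List Lev :=
  xnorBG_v2 :: xnorBG_vs3
noncomputable def xnorBG_vs1 : List Lev :=
  xnorBG_v1 :: xnorBG_vs2
noncomputable def xnorBG_vs : List Lev :=
  xnorBG_v0 :: xnorBG_vs1
noncomputable def xnorB_x : List (ℕ × List ℕ) :=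
  [((nat_lit 0), [(nat_lit 0xffffff)]),
  ((nat_lit 0), [(nat_lit 0xfffffe)]),
  ((nat_lit 0), []),
  ((nat_lit 0), []),
  ((nat_lit 0x20000000000000000000000000000000), []),
  ((nat_lit 0), [(nat_lit 0x110800)]),
  ((nat_lit 0xa00000000000000000000000000000000), [(nat_lit 0xeef758),
   (nat_lit 0x10000)]),
  ((nat_lit 0), [(nat_lit 0x800000),
   (nat_lit 0x100),
   (nat_lit 0x8000)])]
noncomputable def xnorB_G : Gl :=
  ⟨CL.M24P.Md.P, xns, (app xD []), [], [([[30], [34], [32], [36], [42], [44]], [[30], [34], [32], [36], [42], [44]])], [], memM (app xD []) [[204], [206], [52], [54], [44], [42], [40], [38], [36], [34], [32], [30], [50]], true⟩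
noncomputable def xnorB_s : St :=
  ⟨(mkS CL.M24P.Md.P.n xnorBG_vs xnorB_x), [[0], [2]], [], [(xzm168, xzm168)], memM (app xD []) [[204], [206], [52], [54], [44], [42], [40], [38], [36], [34], [32], [30], [50]], []⟩
noncomputable def xzt172 : ST :=
  (.orb 0 (.br 0 [W (nat_lit 0xe1394e7364df360d1334e0), W (nat_lit 0x38ce5354d7338d3)] (W (nat_lit 0x100c0100c0100c0100c01)) [(0, [])] (.cons (.orb 0 (.clo 0 1 (W (nat_lit 0x901401)) (W (nat_lit 0x901401)) (.dif 1 0 (.br 0 [W (nat_lit 0x384e339cd8), W (nat_lit 0xe3394e7364df354d7344d3)] (W (nat_lit 0x403004030040100c01)) [(1, [])] (.cons (.clo 0 0 (W (nat_lit 0xb01c03)) (W (nat_lit 0xb01c03)) (.and 2 0 (.dif 0 2 (.br 0 [W (nat_lit 0xe138ce537cd535cd1), W (nat_lit 0x384e7364d8344d7)] (W (nat_lit 0x40100c0100403)) [(2, [])] (.cons (.dif 5 3 (.br 0 [W (nat_lit 0xe3394e737cd8344d3), W (nat_lit 0xe1394e737cd5344d7)] (W (nat_lit 0x40100c01)) [(5, [])] (.cons (.dif 3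 2 (.br 0 [W (nat_lit 0xe539cd635cd2)] (W (nat_lit 0x401)) [(10, [251]), (7, [])] (.cons (.orb 0 (.and 0 4 (.br 0 [] [] [(8, [])] (.cons (.and 2 13 (.orb 1 (.and 1 0 (.mis 0))))
 .nil))))
 (.cons (.orb 0 (.and 0 4 (.br 0 [] [] [(11, [])] (.cons (.orb 0 (.and 5 0 (.br 0 [] [] [(14, [258]), (17, W (nat_lit 0x40d07)), (21, [262]), (10, [])] (.cons (.orb 2 (.and 0 17 (.mis 0)))
 (.cons (.orb 1 (.and 0 17 (.mis 0)))
 (.cons (.orb 0 (.and 0 17 (.mis 0)))
 (.cons .fnd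
 .nil)))))))
 .nil))))
 .nil))))
 .nil)))
 .nil)))))
 .nil)))))
 .nil)))
noncomputable def xzcj175 : List (List (List ℕ)) :=
  [[W (nat_lit 0x1a42b), [104], W (nat_lit 0x671a41f), W (nat_lit 0x19c69), W (nat_lit 0x6519c21), W (nat_lit 0x19467)],
  [W (nat_lit 0x6519c690842b), W (nat_lit 0x842b), W (nat_lit 0x1a42b), [42], W (nat_lit 0x671a41f), [30]],
  [[30], W (nat_lit 0x671a41f), W (nat_lit 0x7c21), W (nat_lit 0x1946907c21), [42], W (nat_lit 0x1a42b)],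
  [[30], W (nat_lit 0x19c69), [32], W (nat_lit 0x19467), [42], [104]],
  [[30], W (nat_lit 0x671a41f), [32], W (nat_lit 0x6519c21), [42], W (nat_lit 0x1a42b)],
  [[30], W (nat_lit 0x671a41f), [32], W (nat_lit 0x6519c21), [42], W (nat_lit 0x1a42b)],
  [[30], W (nat_lit 0x671a41f), [32], W (nat_lit 0x6519c21), W (nat_lit 0x842b), W (nat_lit 0x6519c690842b)],
  [[30], W (nat_lit 0x671a41f), [32], W (nat_lit 0x6519c21), W (nat_lit 0x7c2b), W (nat_lit 0x6707c2b)],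
  [[30], W (nat_lit 0x671a41f), [32], W (nat_lit 0x6519c21), [42], W (nat_lit 0x1a42b)],
  [[30], W (nat_lit 0x671a41f), [32], W (nat_lit 0x6519c21), [42], W (nat_lit 0x1a42b)],
  [[30], W (nat_lit 0x671a41f), [32], W (nat_lit 0x6519c21), [42], W (nat_lit 0x1a42b)],
  [[30], W (nat_lit 0x671a41f), [32], W (nat_lit 0x6519c21), [42], W (nat_lit 0x1a42b)],
  [W (nat_lit 0x1946907c21), W (nat_lit 0x19469), W (nat_lit 0x671a41f), W (nat_lit 0x19c69), W (nat_lit 0x6519c690842b), W (nat_lit 0x6519c69)]]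
noncomputable def xzts179 : List (List ℕ) :=
  [W (nat_lit 0xe138ce537cd134cce),
  W (nat_lit 0x38ce537cd635cd2),
  W (nat_lit 0x39cd5344d1),
  W (nat_lit 0x384d9354d133ccf),
  W (nat_lit 0xe3394e737cd8344d7334d9),
  W (nat_lit 0x384e3394e737cd6344d3340d2),
  W (nat_lit 0x38ce737cd6344d3340d2),
  W (nat_lit 0xe138ce5354d7344d733cd3),
  W (nat_lit 0x384e339cdf354d7344d133cd5),
  W (nat_lit 0x38cd9344d333cd5),
  W (nat_lit 0x38ce737cd535cd134ccf),
  W (nat_lit 0xe3394d9344d333cd5),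
  W (nat_lit 0xe137cd535cd134ccf),
  W (nat_lit 0xe139cdf334e3),
  W (nat_lit 0xe1394d937cd635cd1334e0),
  W (nat_lit 0x394e7364df358d7344d3334d0),
  W (nat_lit 0x38ce539cd8344d6334df),
  W (nat_lit 0xdf358d133cd5),
  W (nat_lit 0x364d2334d4)]
noncomputable def xzts187 : List (List ℕ) :=
  [[42],
  W (nat_lit 0x6519c6907c2b),
  [],
  [],
  [104],
  W (nat_lit 0x1a42b),
  [],
  [],
  W (nat_lit 0x19467),
  W (nat_lit 0x19c69),
  W (nat_lit 0x6519c21),
  W (nat_lit 0x671a41f),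
  []]
noncomputable def xzts190 : List (List ℕ) :=
  [[],
  [],
  []]
noncomputable def xzus196 : List (List ℕ) :=
  [[278],
  [275],
  [280],
  W (nat_lit 0x45117),
  W (nat_lit 0x45d19),
  W (nat_lit 0x45119),
  W (nat_lit 0x11445d19)]
noncomputable def xzF197 : List (List (ℕ × List ℕ)) :=
  [[(1, []),
   (0, []),
   (4, []),
   (5, []),
   (2, []),
   (3, []),
   (7, []),
   (6, [])],
  [(2, []),
   (4, []),
   (0, []),
   (6, []),
   (1, []),
   (7, []),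
   (3, []),
   (5, [])],
  [(3, []),
   (5, []),
   (6, []),
   (0, []),
   (7, []),
   (1, []),
   (2, []),
   (4, [])]]
noncomputable def xzus200 : List (List ℕ) :=
  [[273],
  [276],
  W (nat_lit 0x44915)]
noncomputable def xzF201 : List (List (ℕ × List ℕ)) :=
  [[(0, [275]),
   (1, [280]),
   (2, W (nat_lit 0x45117)),
   (3, W (nat_lit 0x45d19))],
  [(1, []),
   (0, []),
   (3, W (nat_lit 0x45119)),
   (2, W (nat_lit 0x45119))],
  [(2, []),
   (3, []),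
   (0, [278]),
   (1, [278])]]
noncomputable def xzE204 : List (ℕ × List ℕ) :=
  [(272, [273])]
noncomputable def xzt205 : List ℕ :=
  W (nat_lit 0x45d15)
noncomputable def xzcj206 : List (List ℕ) :=
  [W (nat_lit 0x45d19),
  W (nat_lit 0x11444915),
  [276]]
noncomputable def xzus210 : List (List ℕ) :=
  [[266],
  [267],
  [268],
  [269],
  W (nat_lit 0x42d0b),
  W (nat_lit 0x42d0d),
  W (nat_lit 0x42d0e),
  W (nat_lit 0x42d17),
  W (nat_lit 0x4350b),
  W (nat_lit 0x4350c),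
  W (nat_lit 0x4350d),
  W (nat_lit 0x42d10),
  W (nat_lit 0x4390c),
  W (nat_lit 0x43111),
  W (nat_lit 0x42d19),
  W (nat_lit 0x43116),
  W (nat_lit 0x10b4450c),
  W (nat_lit 0x42d11),
  W (nat_lit 0x42d13),
  W (nat_lit 0x43513),
  W (nat_lit 0x4390f),
  W (nat_lit 0x10b43515),
  W (nat_lit 0x43115)]
noncomputable def xzF211 : List (List (ℕ × List ℕ)) :=
  [[(1, []),
   (5, []),
   (0, []),
   (9, []),
   (12, W (nat_lit 0x45d12)),
   (7, W (nat_lit 0x1174650f)),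
   (15, W (nat_lit 0x45d194550f)),
   (8, W (nat_lit 0x45d194550f)),
   (2, W (nat_lit 0x45119)),
   (17, W (nat_lit 0x4550f)),
   (3, []),
   (20, W (nat_lit 0x451174550f)),
   (22, W (nat_lit 0x46512)),
   (4, []),
   (10, W (nat_lit 0x4490f)),
   (21, W (nat_lit 0x45d19)),
   (6, W (nat_lit 0x451194490f)),
   (18, []),
   (14, [273]),
   (23, W (nat_lit 0x11746512)),
   (16, W (nat_lit 0x451124550f)),
   (11, W (nat_lit 0x45117)),
   (19, W (nat_lit 0x4650f)),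
   (13, W (nat_lit 0x117465124550f))],
  [(3, []),
   (6, []),
   (2, W (nat_lit 0x11445d194490f)),
   (11, []),
   (0, []),
   (14, W (nat_lit 0x1144650f)),
   (15, W (nat_lit 0x45117)),
   (1, []),
   (13, W (nat_lit 0x45115)),
   (9, W (nat_lit 0x117465124550f)),
   (18, W (nat_lit 0x45d19)),
   (4, []),
   (16, W (nat_lit 0x45112)),
   (20, W (nat_lit 0x11445d0f)),
   (5, W (nat_lit 0x45d194550f)),
   (7, W (nat_lit 0x45117)),
   (12, W (nat_lit 0x4511746512)),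
   (8, W (nat_lit 0x1174550f)),
   (22, W (nat_lit 0x45d19)),
   (10, W (nat_lit 0x45115)),
   (17, [276]),
   (21, W (nat_lit 0x1144490f)),
   (19, W (nat_lit 0x45115)),
   (23, W (nat_lit 0x45117465124550f))]]
noncomputable def xYB_v0 : Lev :=
  ⟨0, 24, sg (W (nat_lit 0x10b42d0b4350b42d0d42d0b)), [[270], [272]], 133, 2⟩
noncomputable def xYB_v1 : Lev :=
  ⟨4, 2, sg [270], [[274], [273], [276]], 135, 2⟩
noncomputable def xYB_v2 : Lev :=
  ⟨3, 4, sg (W (nat_lit 0x45512)), [[278], [275], [280]], 137, 2⟩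
noncomputable def xYB_v3 : Lev :=
  ⟨1, 8, sg (W (nat_lit 0x11945117)), [], 139, 0⟩
noncomputable def xYB_vs4 : List Lev :=
  []
noncomputable def xYB_vs3 : List Lev :=
  xYB_v3 :: xYB_vs4
noncomputable def xYB_vs2 : List Lev :=
  xYB_v2 :: xYB_vs3
noncomputable def xYB_vs1 : List Lev :=
  xYB_v1 :: xYB_vs2
noncomputable def xYB_vs : List Lev :=
  xYB_v0 :: xYB_vs1
noncomputable def xceyB_F : List (List ℕ × ℕ × ℕ) :=
  []
noncomputable def xceyBG_v0 : Lev :=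
  ⟨0, 24, sg (W (nat_lit 0x270a43533ccd)), [[232], [234]], 114, 2⟩
noncomputable def xceyBG_v1 : Lev :=
  ⟨1, 16, sg (W (nat_lit 0x3aceb3a4e93a4e93ace9)), [[236], [238]], 116, 2⟩
noncomputable def xceyBG_v2 : Lev :=
  ⟨7, 7, sg (W (nat_lit 0x3b4ed3bced)), [[282], [284]], 139, 2⟩
noncomputable def xceyBG_v3 : Lev :=
  ⟨3, 6, sg (W (nat_lit 0x46d1d46d1b)), [[286], [288]], 141, 2⟩
noncomputable def xceyBG_v4 : Lev :=
  ⟨9, 4, sg (W (nat_lit 0x4851f)), [], 143, 0⟩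
noncomputable def xceyBG_vs5 : List Lev :=
  []
noncomputable def xceyBG_vs4 : List Lev :=
  xceyBG_v4 :: xceyBG_vs5
noncomputable def xceyBG_vs3 : List Lev :=
  xceyBG_v3 :: xceyBG_vs4
noncomputable def xceyBG_vs2 : List Lev :=
  xceyBG_v2 :: xceyBG_vs3
noncomputable def xceyBG_vs1 : List Lev :=
  xceyBG_v1 :: xceyBG_vs2
noncomputable def xceyBG_vs : List Lev :=
  xceyBG_v0 :: xceyBG_vs1
noncomputable def xceyB_x : List (ℕ × List ℕ) :=
  [((nat_lit 0), [(nat_lit 0xffffff)]),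
  ((nat_lit 0), [(nat_lit 0xb6ede6)]),
  ((nat_lit 0), []),
  ((nat_lit 0), [(nat_lit 0x491208)]),
  ((nat_lit 0), [(nat_lit 0x1000)])]
noncomputable def xceyB_G : Gl :=
  ⟨CL.M24P.Md.P, xns, (app xD []), (diag [W (nat_lit 0x8423)]), [], [], memM (app xD []) [[266], [268]], true⟩
noncomputable def xceyB_s : St :=
  ⟨(mkS CL.M24P.Md.P.n xceyBG_vs xceyB_x), [[204], [206], [52], [54], [44], [42], [40], [38], [36], [34], [32], [30], [50]], [], mapL Prod.snd xceyB_F, memM (app xD []) [[266], [268]], []⟩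
noncomputable def xzt218 : ST :=
  (.orb 0 (.br 0 [W (nat_lit 0x4651542d0e), W (nat_lit 0x11242d19)] (W (nat_lit 0xc0100c0100c0100c01)) [(0, [])] (.cons (.orb 0 (.br 0 [W (nat_lit 0x45d194550f), W (nat_lit 0x46512)] (W (nat_lit 0x1004030040300c01)) [(1, [])] (.cons (.img [0] 0 (.br 0 [] [] [(7, [])] (.cons (.orb 0 (.img [0] 0 (.and 1 0 (.br 0 [W (nat_lit 0x45d1944915), W (nat_lit 0x4511746512)] (W (nat_lit 0xc01)) [(3, [])] (.cons (.orb 0 (.img [0] 0 (.br 0 [] [] [(9, [])] (.cons .fnd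
 .nil))))
 .nil)))))
 .nil)))
 .nil)))
 .nil)))
noncomputable def xzcj222 : List (List (List ℕ)) :=
  [[W (nat_lit 0x1234952708431), W (nat_lit 0x48c2b), [290], W (nat_lit 0x1234941f), W (nat_lit 0x48d25), W (nat_lit 0x48d2549c21), W (nat_lit 0x12349527)],
  [W (nat_lit 0x12508432), W (nat_lit 0x495270842b), W (nat_lit 0x842b), W (nat_lit 0x48c2b), [42], W (nat_lit 0x1234941f), [30]],
  [[48], [30], W (nat_lit 0x1234941f), W (nat_lit 0x7c21), W (nat_lit 0x12707c21), [42], W (nat_lit 0x48c2b)],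
  [[49], [30], W (nat_lit 0x48d25), [32], W (nat_lit 0x12349527), [42], [290]],
  [W (nat_lit 0x48c31), [30], W (nat_lit 0x1234941f), [32], W (nat_lit 0x48d2549c21), [42], W (nat_lit 0x48c2b)],
  [W (nat_lit 0x1230ac31), [30], W (nat_lit 0x1234941f), [32], W (nat_lit 0x48d2549c21), [42], W (nat_lit 0x48c2b)],
  [[48], [30], W (nat_lit 0x1234941f), [32], W (nat_lit 0x48d2549c21), W (nat_lit 0x842b), W (nat_lit 0x495270842b)],
  [[48], [30], W (nat_lit 0x1234941f), [32], W (nat_lit 0x48d2549c21), W (nat_lit 0x7c2b), W (nat_lit 0x12507c2b)],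
  [W (nat_lit 0x48d2549c31), [30], W (nat_lit 0x1234941f), [32], W (nat_lit 0x48d2549c21), [42], W (nat_lit 0x48c2b)],
  [W (nat_lit 0x12349431), [30], W (nat_lit 0x1234941f), [32], W (nat_lit 0x48d2549c21), [42], W (nat_lit 0x48c2b)],
  [W (nat_lit 0x1234952708431), [30], W (nat_lit 0x1234941f), [32], W (nat_lit 0x48d2549c21), [42], W (nat_lit 0x48c2b)],
  [W (nat_lit 0x48d2507c31), [30], W (nat_lit 0x1234941f), [32], W (nat_lit 0x48d2549c21), [42], W (nat_lit 0x48c2b)],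
  [[48], W (nat_lit 0x12707c21), [294], W (nat_lit 0x1234941f), W (nat_lit 0x48d25), W (nat_lit 0x495270842b), W (nat_lit 0x49527)]]
noncomputable def xzm227 : ℕ :=
  (nat_lit 0x324486)
noncomputable def xcez_F : List (List ℕ × ℕ × ℕ) :=
  [([0], xzm227, xzm227)]
noncomputable def xcezG_v0 : Lev :=
  ⟨0, 24, sg (W (nat_lit 0x100c0100c0100c0100c0100c01)), [[4], [6], [8]], 0, 3⟩
noncomputable def xcezG_v1 : Lev :=
  ⟨1, 23, sg (W (nat_lit 0x140502407024070240701405)), [[10], [12]], 3, 2⟩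
noncomputable def xcezG_v2 : Lev :=
  ⟨2, 22, sg (W (nat_lit 0xd02c0d02c0b0340b)), [[14], [16]], 5, 2⟩
noncomputable def xcezG_v3 : Lev :=
  ⟨4, 21, sg (W (nat_lit 0x441103c0f0440f0440f)), [[158], [160]], 77, 2⟩
noncomputable def xcezG_v4 : Lev :=
  ⟨7, 20, sg (W (nat_lit 0xa127ca12849f2849f)), [[162], [164], [166]], 79, 3⟩
noncomputable def xcezG_v5 : Lev :=
  ⟨14, 16, sg (W (nat_lit 0xa328ca7294a3)), [[168]], 82, 1⟩
noncomputable def xcezG_v6 : Lev :=
  ⟨10, 3, sg (W (nat_lit 0x2a4a9)), [], 83, 0⟩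
noncomputable def xcezG_vs7 : List Lev :=
  []
noncomputable def xcezG_vs6 : List Lev :=
  xcezG_v6 :: xcezG_vs7
noncomputable def xcezG_vs5 : List Lev :=
  xcezG_v5 :: xcezG_vs6
noncomputable def xcezG_vs4 : List Lev :=
  xcezG_v4 :: xcezG_vs5
noncomputable def xcezG_vs3 : List Lev :=
  xcezG_v3 :: xcezG_vs4
noncomputable def xcezG_vs2 : List Lev :=
  xcezG_v2 :: xcezG_vs3
noncomputable def xcezG_vs1 : List Lev :=
  xcezG_v1 :: xcezG_vs2
noncomputable def xcezG_vs : List Lev :=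
  xcezG_v0 :: xcezG_vs1
noncomputable def xcez_x : List (ℕ × List ℕ) :=
  [((nat_lit 0), [(nat_lit 0xffffff)]),
  ((nat_lit 0), []),
  ((nat_lit 0), []),
  ((nat_lit 0), []),
  ((nat_lit 0), []),
  ((nat_lit 0), [(nat_lit 0xffeb60)]),
  ((nat_lit 0), [(nat_lit 0x1408)])]
noncomputable def xcez_G : Gl :=
  ⟨CL.M24P.Md.P, xns, (app xD []), (diag [[30]]), [], [], memM (app xD []) [[296], [298], [300], [302]], true⟩
noncomputable def xcez_s : St :=
  ⟨(mkS CL.M24P.Md.P.n xcezG_vs xcez_x), [[0], [2]], [], mapL Prod.snd xcez_F, memM (app xD []) [[296], [298], [300], [302]], []⟩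
noncomputable def xzt231 : ST :=
  (.orb 0 (.dif 0 1 (.br 0 [W (nat_lit 0x51d364c530), W (nat_lit 0x1454e93d4d5394cd29)] (W (nat_lit 0xc0100c0100c0100c01)) [(0, [])] (.cons (.br 3 [W (nat_lit 0x14150d474f5354c92a), W (nat_lit 0x14150d474e93d4d9314e52b)] (W (nat_lit 0x10040100c01)) [(1, [])] (.cons (.dif 4 0 (.br 0 [W (nat_lit 0x1354f533), W (nat_lit 0x5153a4c535)] (W (nat_lit 0x40100c01)) [(2, [])] (.cons (.img [0] 3 (.br 0 [] [] [(4, [])] (.cons (.dif 3 2 (.br 0 [W (nat_lit 0x143515474e936), W (nat_lit 0x1415153a4d539)] (W (nat_lit 0x40300401)) [(7, [])] (.cons (.orb 0 (.and 2 0 (.br 0 [W (nat_lit 0x50d474e93d), W (nat_lit 0x14151d3a)] (W (nat_lit 0xc01)) [(14, [])] (.cons (.orb 0 (.and 0 14 (.br 0 [] [] [(10, [])] (.cons .fnd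
 .nil))))
 .nil))))
 .nil)))
 .nil)))
 .nil)))
 .nil))
 .nil))))
noncomputable def PA : List (List ℕ) :=
  [W (nat_lit 0x2047c1cc721ac73),
  W (nat_lit 0x1fc851dc7d1d4711ac83)]
noncomputable def PB : List (List ℕ) :=
  [W (nat_lit 0x384e7364df354d7344d3334db)]
noncomputable def cq : List CQ :=
  [⟨[328], [30], W (nat_lit 0x1b0681403c0b0340503401), 2, 0⟩,
  ⟨[330], [30], W (nat_lit 0x781806c1304c0f0540c0380a0040e), 0, 2⟩,
  ⟨[330], [328], W (nat_lit 0x781304015030140281000417), 2, 0⟩,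
  ⟨[332], [30], W (nat_lit 0x1704c1303c1402c0d0140c0040e), 0, 2⟩,
  ⟨[332], [328], W (nat_lit 0x1d06014078100680b03c090040e), 2, 0⟩,
  ⟨[332], [330], W (nat_lit 0x6c180501e0480c0500700418), 2, 0⟩,
  ⟨[334], [30], W (nat_lit 0x741904c1b0401402c0f0141d0040e), 0, 2⟩,
  ⟨[334], [328], W (nat_lit 0x781804c1b048130300e0040e), 0, 2⟩,
  ⟨[334], [330], W (nat_lit 0x1d05c1c0541002c110141d00417), 2, 0⟩,
  ⟨[334], [332], W (nat_lit 0x1d05c1304c0f0440e0140800414), 0, 1⟩]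
noncomputable def xzts238 : List (List ℕ) :=
  [W (nat_lit 0x58d665695a5795b5655e555555455c52d5f),
  W (nat_lit 0x599645815a56d5956d56575535441f)]
noncomputable def fk : List (Bool × List ℕ × List ℕ) :=
  [(false, W (nat_lit 0x7b1cc791d4721ac71), [15, 5, 53, 26, 60, 20]),
  (true, W (nat_lit 0xac250841f), [1, 2, 4, 8, 17, 34]),
  (false, W (nat_lit 0x7f20c731ec771c46e), [44, 52, 58, 31, 42, 63]),
  (true, W (nat_lit 0xb42508423), [1, 2, 4, 8, 20, 40]),
  (false, W (nat_lit 0x7f204832147b1cc7b1d4711ac7b), [53, 26, 58, 31, 6, 11]),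
  (true, W (nat_lit 0xac250841f), [1, 2, 4, 8, 17, 34]),
  (false, W (nat_lit 0x8120c851dc7d1d4711ac73), [45, 54, 49, 18, 17, 34]),
  (true, W (nat_lit 0xb42b), [1, 2, 4, 8, 21, 42]),
  (false, W (nat_lit 0x7f204832147c1d07d1b076), [26, 47, 62, 23, 20, 40]),
  (true, W (nat_lit 0xb42508423), [1, 2, 4, 8, 20, 40]),
  (false, W (nat_lit 0x1fc7b1dc7d1d4721ac6f), [4, 12, 29, 59, 20, 60]),
  (true, W (nat_lit 0xac250841f), [1, 2, 4, 8, 17, 34]),
  (false, W (nat_lit 0x1fc831ec771dc721b07c), [35, 18, 58, 37, 16, 48])]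
noncomputable def xct0_E : List (ℕ × List CE) :=
  [(3, [])]
noncomputable def xct0_R : List (List ℕ) :=
  [[],
  [52]]
noncomputable def xzts253 : List (List ℕ) :=
  [W (nat_lit 0x6c1a04c16058110400b0400a00415),
  W (nat_lit 0x781906c130541204c0b05c0701017),
  W (nat_lit 0x1d05c1c0501603c1402c0f0140c0040f),
  W (nat_lit 0x741804c180401b030140181e0040f),
  W (nat_lit 0x5c1b0501d0480b064090041c),
  W (nat_lit 0x7819070100600b02c0607804),
  W (nat_lit 0x741706c130540f0540b05c0607804),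
  W (nat_lit 0x1e0601b04c1a03c0b03c03),
  W (nat_lit 0x1e0701904c1a0401a02c1701c04),
  W (nat_lit 0x1d0641b04c160441002c0e02403)]
noncomputable def xzcj256 : List (List (List ℕ)) :=
  [[[54], [44], [42], W (nat_lit 0x9c29), [38], W (nat_lit 0x8c25), [34], W (nat_lit 0x7c21), [30]],
  [[54], W (nat_lit 0xac2d), [42], [40], [38], W (nat_lit 0x8425), W (nat_lit 0x7c23), [32], [30]],
  [W (nat_lit 0xac37), [44], [42], W (nat_lit 0x9429), W (nat_lit 0x8c27), [36], [34], [32], [30]],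
  [[54], [44], [42], W (nat_lit 0x8429), W (nat_lit 0x7c27), [36], [34], [32], [30]],
  [[54], W (nat_lit 0x942d), W (nat_lit 0x842b), [40], [38], [36], [34], [32], [30]],
  [[54], W (nat_lit 0x8c2d), W (nat_lit 0x7c2b), [40], [38], [36], [34], [32], [30]],
  [W (nat_lit 0x8437), [44], [42], [40], [38], [36], [34], [32], [30]],
  [W (nat_lit 0x7c37), [44], [42], [40], [38], [36], [34], [32], [30]],
  [[54], [44], [42], [40], [38], [36], [34], [32], [30]],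
  [[54], [44], [42], [40], [38], [36], [34], [32], [30]]]
noncomputable def xct1_E : List (ℕ × List CE) :=
  [(3, []),
  (3, [])]
noncomputable def xct1_R : List (List ℕ) :=
  [[],
  [54],
  [52],
  W (nat_lit 0xdc35)]
noncomputable def xzcj263 : List (List (List ℕ)) :=
  [[[44], [42], W (nat_lit 0x9c29), [38], W (nat_lit 0x8c25), [34], W (nat_lit 0x7c21), [30]],
  [W (nat_lit 0xac2d), [42], [40], [38], W (nat_lit 0x8425), W (nat_lit 0x7c23), [32], [30]],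
  [[44], [42], W (nat_lit 0x9429), W (nat_lit 0x8c27), [36], [34], [32], [30]],
  [[44], [42], W (nat_lit 0x8429), W (nat_lit 0x7c27), [36], [34], [32], [30]],
  [W (nat_lit 0x942d), W (nat_lit 0x842b), [40], [38], [36], [34], [32], [30]],
  [W (nat_lit 0x8c2d), W (nat_lit 0x7c2b), [40], [38], [36], [34], [32], [30]],
  [[44], [42], [40], [38], [36], [34], [32], [30]],
  [[44], [42], [40], [38], [36], [34], [32], [30]],
  [[44], [42], [40], [38], [36], [34], [32], [30]],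
  [[44], [42], [40], [38], [36], [34], [32], [30]]]
noncomputable def xct2_E : List (ℕ × List CE) :=
  [(3, []),
  (3, []),
  (3, []),
  (3, [])]
noncomputable def xct2_R : List (List ℕ) :=
  [[],
  [44],
  [54],
  W (nat_lit 0xb437),
  [52],
  W (nat_lit 0xb435),
  W (nat_lit 0xdc35),
  W (nat_lit 0x2d0dc35)]
noncomputable def xzcj270 : List (List (List ℕ)) :=
  [[[42], W (nat_lit 0x9c29), [38], W (nat_lit 0x8c25), [34], W (nat_lit 0x7c21), [30]],
  [[42], [40], [38], W (nat_lit 0x8425), W (nat_lit 0x7c23), [32], [30]],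
  [[42], W (nat_lit 0x9429), W (nat_lit 0x8c27), [36], [34], [32], [30]],
  [[42], W (nat_lit 0x8429), W (nat_lit 0x7c27), [36], [34], [32], [30]],
  [W (nat_lit 0x842b), [40], [38], [36], [34], [32], [30]],
  [W (nat_lit 0x7c2b), [40], [38], [36], [34], [32], [30]],
  [[42], [40], [38], [36], [34], [32], [30]],
  [[42], [40], [38], [36], [34], [32], [30]],
  [[42], [40], [38], [36], [34], [32], [30]],
  [[42], [40], [38], [36], [34], [32], [30]]]
noncomputable def xct3_E : List (ℕ × List CE) :=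
  [(3, []),
  (1, [ceD, ⟨false, [54], 0, []⟩]),
  (1, [ceD, ⟨false, [44], 0, []⟩]),
  (1, [ceD, ⟨false, [44], 0, []⟩]),
  (3, []),
  (1, [ceD, ⟨false, [54], 0, []⟩]),
  (1, [ceD, ⟨false, [44], 0, []⟩]),
  (1, [ceD, ⟨false, [44], 0, []⟩])]
noncomputable def xct3_R : List (List ℕ) :=
  [[],
  [42],
  [44],
  [54],
  W (nat_lit 0xb437),
  [52],
  W (nat_lit 0xac35),
  W (nat_lit 0xb435),
  W (nat_lit 0xdc35),
  W (nat_lit 0x2d0dc35)]
noncomputable def xzcj277 : List (List (List ℕ)) :=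
  [[W (nat_lit 0x9c29), [38], W (nat_lit 0x8c25), [34], W (nat_lit 0x7c21), [30]],
  [[40], [38], W (nat_lit 0x8425), W (nat_lit 0x7c23), [32], [30]],
  [W (nat_lit 0x9429), W (nat_lit 0x8c27), [36], [34], [32], [30]],
  [W (nat_lit 0x8429), W (nat_lit 0x7c27), [36], [34], [32], [30]],
  [[40], [38], [36], [34], [32], [30]],
  [[40], [38], [36], [34], [32], [30]],
  [[40], [38], [36], [34], [32], [30]],
  [[40], [38], [36], [34], [32], [30]],
  [[40], [38], [36], [34], [32], [30]],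
  [[40], [38], [36], [34], [32], [30]]]
noncomputable def xct4_E : List (ℕ × List CE) :=
  [(3, []),
  (3, []),
  (3, []),
  (3, []),
  (3, []),
  (3, []),
  (3, []),
  (3, []),
  (3, []),
  (3, [])]
noncomputable def xct4_R : List (List ℕ) :=
  [[],
  [40],
  [42],
  W (nat_lit 0xa42b),
  [44],
  W (nat_lit 0xa42d),
  [54],
  W (nat_lit 0xa437),
  W (nat_lit 0xb437),
  W (nat_lit 0x290b437),
  [52],
  W (nat_lit 0xa435),
  W (nat_lit 0xac35),
  W (nat_lit 0x290ac35),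
  W (nat_lit 0xb435),
  W (nat_lit 0x290b435),
  W (nat_lit 0xdc35),
  W (nat_lit 0x290dc35),
  W (nat_lit 0x2d0dc35),
  W (nat_lit 0xa42d0dc35)]
noncomputable def xzcj284 : List (List (List ℕ)) :=
  [[[38], W (nat_lit 0x8c25), [34], W (nat_lit 0x7c21), [30]],
  [[38], W (nat_lit 0x8425), W (nat_lit 0x7c23), [32], [30]],
  [W (nat_lit 0x8c27), [36], [34], [32], [30]],
  [W (nat_lit 0x7c27), [36], [34], [32], [30]],
  [[38], [36], [34], [32], [30]],
  [[38], [36], [34], [32], [30]],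
  [[38], [36], [34], [32], [30]],
  [[38], [36], [34], [32], [30]],
  [[38], [36], [34], [32], [30]],
  [[38], [36], [34], [32], [30]]]
noncomputable def xct5_E : List (ℕ × List CE) :=
  [(3, []),
  (1, [ceD, ⟨false, [52], 0, []⟩]),
  (3, []),
  (1, [ceD, ⟨false, [52], 0, []⟩]),
  (3, []),
  (1, [ceD, ⟨false, [52], 0, []⟩]),
  (3, []),
  (1, [ceD, ⟨false, [52], 0, []⟩]),
  (3, []),
  (1, [ceD, ⟨false, [52], 0, []⟩]),
  (1, [ceD, ⟨false, [40], 0, []⟩]),
  (1, [ceD, ⟨false, [40], 0, []⟩]),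
  (1, [ceD, ⟨false, [40], 0, W (nat_lit 0x7c21)⟩]),
  (1, [ceD, ⟨false, [40], 0, W (nat_lit 0x7c21)⟩]),
  (1, [ceD, ⟨false, [40], 0, W (nat_lit 0x8c25)⟩]),
  (1, [ceD, ⟨false, [40], 0, W (nat_lit 0x8c25)⟩]),
  (1, [ceD, ⟨false, [40], 0, []⟩]),
  (1, [ceD, ⟨false, [40], 0, []⟩]),
  (1, [ceD, ⟨false, [40], 0, W (nat_lit 0x8c25)⟩]),
  (1, [ceD, ⟨false, [40], 0, W (nat_lit 0x8c25)⟩])]
noncomputable def xct5_R : List (List ℕ) :=
  [[],
  [38],
  [40],
  [42],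
  W (nat_lit 0x9c2b),
  W (nat_lit 0xa42b),
  [44],
  W (nat_lit 0x9c2d),
  W (nat_lit 0xa42d),
  [54],
  W (nat_lit 0x9c37),
  W (nat_lit 0xa437),
  W (nat_lit 0xb437),
  W (nat_lit 0x270b437),
  W (nat_lit 0x290b437),
  [52],
  W (nat_lit 0xa435),
  W (nat_lit 0xac35),
  W (nat_lit 0x290ac35),
  W (nat_lit 0xb435),
  W (nat_lit 0x290b435),
  W (nat_lit 0xdc35),
  W (nat_lit 0x290dc35),
  W (nat_lit 0x2d0dc35),
  W (nat_lit 0xa42d0dc35)]
noncomputable def xzcj291 : List (List (List ℕ)) :=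
  [[W (nat_lit 0x8c25), [34], W (nat_lit 0x7c21), [30]],
  [W (nat_lit 0x8425), W (nat_lit 0x7c23), [32], [30]],
  [[36], [34], [32], [30]],
  [[36], [34], [32], [30]],
  [[36], [34], [32], [30]],
  [[36], [34], [32], [30]],
  [[36], [34], [32], [30]],
  [[36], [34], [32], [30]],
  [[36], [34], [32], [30]],
  [[36], [34], [32], [30]]]
noncomputable def xct6_E : List (ℕ × List CE) :=
  [(3, []),
  (3, []),
  (1, [ceD, ⟨false, [44], 0, []⟩]),
  (3, []),
  (3, []),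
  (1, [ceD, ⟨false, [44], 0, []⟩]),
  (1, [ceD, ⟨false, [40], 0, []⟩]),
  (1, [ceD, ⟨false, [40], 0, []⟩]),
  (1, [ceD, ⟨false, [40], 0, []⟩]),
  (3, []),
  (3, []),
  (3, []),
  (1, [ceD, ⟨false, [40], 0, []⟩]),
  (1, [ceD, ⟨false, [40], 0, []⟩]),
  (1, [ceD, ⟨false, [40], 0, []⟩]),
  (3, []),
  (1, [ceD, ⟨false, [44], 0, []⟩]),
  (3, []),
  (1, [ceD, ⟨false, [44], 0, []⟩]),
  (3, []),
  (1, [ceD, ⟨false, [44], 0, []⟩]),
  (3, []),
  (3, []),
  (3, []),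
  (1, [ceD, ⟨false, W (nat_lit 0x134450a42d), 0, W (nat_lit 0x1f08423)⟩])]
noncomputable def xct6_R : List (List ℕ) :=
  [[],
  [36],
  [38],
  W (nat_lit 0x9427),
  [40],
  [42],
  W (nat_lit 0x942b),
  W (nat_lit 0x9c2b),
  W (nat_lit 0x2509c2b),
  W (nat_lit 0xa42b),
  [44],
  W (nat_lit 0x9c2d),
  W (nat_lit 0xa42d),
  [54],
  W (nat_lit 0x9437),
  W (nat_lit 0x9c37),
  W (nat_lit 0x2509c37),
  W (nat_lit 0xa437),
  W (nat_lit 0x250a437),
  W (nat_lit 0xb437),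
  W (nat_lit 0x270b437),
  W (nat_lit 0x290b437),
  [52],
  W (nat_lit 0x9435),
  W (nat_lit 0xa435),
  W (nat_lit 0xac35),
  W (nat_lit 0x250ac35),
  W (nat_lit 0x290ac35),
  W (nat_lit 0xb435),
  W (nat_lit 0x250b435),
  W (nat_lit 0x290b435),
  W (nat_lit 0xdc35),
  W (nat_lit 0x250dc35),
  W (nat_lit 0x290dc35),
  W (nat_lit 0x94290dc35),
  W (nat_lit 0x2d0dc35),
  W (nat_lit 0x942d0dc35),
  W (nat_lit 0xa42d0dc35)]
noncomputable def xzcj298 : List (List (List ℕ)) :=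
  [[[34], W (nat_lit 0x7c21), [30]],
  [W (nat_lit 0x7c23), [32], [30]],
  [[34], [32], [30]],
  [[34], [32], [30]],
  [[34], [32], [30]],
  [[34], [32], [30]],
  [[34], [32], [30]],
  [[34], [32], [30]],
  [[34], [32], [30]],
  [[34], [32], [30]]]
noncomputable def xct7_E : List (ℕ × List CE) :=
  [(3, []),
  (1, [ceD, ⟨false, [52], 0, []⟩]),
  (1, [ceD, ⟨false, [44], 0, []⟩]),
  (1, [ceD, ⟨false, [44], 0, []⟩]),
  (3, []),
  (3, []),
  (1, [ceD, ⟨false, [52], 0, []⟩]),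
  (1, [ceD, ⟨false, [44], 0, []⟩]),
  (1, [ceD, ⟨false, [44], 0, []⟩]),
  (3, []),
  (1, [ceD, ⟨false, [38], 0, []⟩]),
  (1, [ceD, ⟨false, [38], 0, []⟩]),
  (1, [ceD, ⟨false, [38], 0, []⟩]),
  (3, []),
  (1, [ceD, ⟨false, [52], 0, []⟩]),
  (3, []),
  (1, [ceD, ⟨false, [52], 0, []⟩]),
  (3, []),
  (3, []),
  (1, [ceD, ⟨false, [38], 0, []⟩]),
  (1, [ceD, ⟨false, [38], 0, []⟩]),
  (1, [ceD, ⟨false, [38], 0, []⟩]),
  (1, [ceD, ⟨false, [36], 0, []⟩]),
  (1, [ceD, ⟨false, [36], 0, []⟩]),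
  (1, [ceD, ⟨false, [36], 0, []⟩]),
  (1, [ceD, ⟨false, [36], 0, []⟩]),
  (1, [ceD, ⟨false, [36], 0, []⟩]),
  (1, [ceD, ⟨false, [36], 0, []⟩]),
  (1, [ceD, ⟨false, [36], 0, []⟩]),
  (1, [ceD, ⟨false, [36], 0, []⟩]),
  (1, [ceD, ⟨false, [36], 0, []⟩]),
  (1, [ceD, ⟨false, [36], 0, W (nat_lit 0x7c21)⟩]),
  (1, [ceD, ⟨false, [36], 0, W (nat_lit 0x7c21)⟩]),
  (1, [ceD, ⟨false, [36], 0, W (nat_lit 0x7c21)⟩]),
  (1, [ceD, ⟨false, [36], 0, W (nat_lit 0x7c21)⟩]),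
  (1, [ceD, ⟨false, [36], 0, W (nat_lit 0x7c21)⟩]),
  (1, [ceD, ⟨false, [36], 0, W (nat_lit 0x7c21)⟩]),
  (1, [ceD, ⟨false, [36], 0, W (nat_lit 0x7c21)⟩])]
noncomputable def xct7_R : List (List ℕ) :=
  [[],
  [34],
  [36],
  [38],
  W (nat_lit 0x9427),
  [40],
  W (nat_lit 0x8c29),
  [42],
  W (nat_lit 0x8c2b),
  W (nat_lit 0x942b),
  W (nat_lit 0x9c2b),
  W (nat_lit 0x2509c2b),
  W (nat_lit 0xa42b),
  W (nat_lit 0x230a42b),
  [44],
  W (nat_lit 0x9c2d),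
  W (nat_lit 0xa42d),
  [54],
  W (nat_lit 0x8c37),
  W (nat_lit 0x9437),
  W (nat_lit 0x9c37),
  W (nat_lit 0x2309c37),
  W (nat_lit 0x2509c37),
  W (nat_lit 0xa437),
  W (nat_lit 0x230a437),
  W (nat_lit 0x250a437),
  W (nat_lit 0x8c250a437),
  W (nat_lit 0xb437),
  W (nat_lit 0x270b437),
  W (nat_lit 0x290b437),
  [52],
  W (nat_lit 0x9435),
  W (nat_lit 0xa435),
  W (nat_lit 0xac35),
  W (nat_lit 0x250ac35),
  W (nat_lit 0x290ac35),
  W (nat_lit 0xb435),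
  W (nat_lit 0x250b435),
  W (nat_lit 0x290b435),
  W (nat_lit 0xdc35),
  W (nat_lit 0x250dc35),
  W (nat_lit 0x290dc35),
  W (nat_lit 0x94290dc35),
  W (nat_lit 0x2d0dc35),
  W (nat_lit 0x942d0dc35),
  W (nat_lit 0xa42d0dc35)]
noncomputable def xzcj305 : List (List (List ℕ)) :=
  [[W (nat_lit 0x7c21), [30]],
  [[32], [30]],
  [[32], [30]],
  [[32], [30]],
  [[32], [30]],
  [[32], [30]],
  [[32], [30]],
  [[32], [30]],
  [[32], [30]],
  [[32], [30]]]
noncomputable def xct8_E : List (ℕ × List CE) :=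
  [(3, []),
  (3, []),
  (1, [ceD, ⟨false, [54], 0, []⟩]),
  (3, []),
  (1, [ceD, ⟨false, [54], 0, []⟩]),
  (1, [ceD, ⟨false, [42], 0, []⟩]),
  (1, [ceD, ⟨false, [42], 0, []⟩]),
  (1, [ceD, ⟨false, [40], 0, []⟩]),
  (1, [ceD, ⟨false, [40], 0, []⟩]),
  (1, [ceD, ⟨false, [40], 0, []⟩]),
  (1, [ceD, ⟨false, [40], 0, []⟩]),
  (1, [ceD, ⟨false, [40], 0, []⟩]),
  (1, [ceD, ⟨false, [40], 0, []⟩]),
  (1, [ceD, ⟨false, [40], 0, []⟩]),
  (3, []),
  (3, []),
  (1, [ceD, ⟨false, [42], 0, []⟩]),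
  (1, [ceD, ⟨false, [36], 0, []⟩]),
  (1, [ceD, ⟨false, [36], 0, []⟩]),
  (1, [ceD, ⟨false, [36], 0, []⟩]),
  (1, [ceD, ⟨false, [36], 0, []⟩]),
  (1, [ceD, ⟨false, [36], 0, []⟩]),
  (1, [ceD, ⟨false, [36], 0, []⟩]),
  (1, [ceD, ⟨false, [36], 0, []⟩]),
  (1, [ceD, ⟨false, [36], 0, []⟩]),
  (1, [ceD, ⟨false, [36], 0, []⟩]),
  (1, [ceD, ⟨false, [36], 0, []⟩]),
  (1, [ceD, ⟨false, [36], 0, []⟩]),
  (1, [ceD, ⟨false, [36], 0, []⟩]),
  (1, [ceD, ⟨false, [36], 0, []⟩]),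
  (3, []),
  (1, [ceD, ⟨false, [54], 0, []⟩]),
  (1, [ceD, ⟨false, [42], 0, []⟩]),
  (3, []),
  (1, [ceD, ⟨false, [54], 0, []⟩]),
  (1, [ceD, ⟨false, [42], 0, []⟩]),
  (3, []),
  (3, []),
  (1, [ceD, ⟨false, [42], 0, []⟩]),
  (3, []),
  (1, [ceD, ⟨false, [54], 0, []⟩]),
  (1, [ceD, ⟨false, [42], 0, []⟩]),
  (1, [ceD, ⟨false, [42], 0, []⟩]),
  (1, [ceD, ⟨false, [60], 0, [30]⟩]),
  (1, [ceD, ⟨false, W (nat_lit 0x124390942d), 0, []⟩]),
  (1, [ceD, ⟨false, [42], 0, []⟩])]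
noncomputable def xct8_R : List (List ℕ) :=
  [[],
  [32],
  [34],
  W (nat_lit 0x8423),
  [36],
  [38],
  W (nat_lit 0x8427),
  W (nat_lit 0x9427),
  [40],
  W (nat_lit 0x8c29),
  [42],
  W (nat_lit 0x8c2b),
  W (nat_lit 0x942b),
  W (nat_lit 0x9c2b),
  W (nat_lit 0x2509c2b),
  W (nat_lit 0xa42b),
  W (nat_lit 0x230a42b),
  [44],
  W (nat_lit 0x842d),
  W (nat_lit 0x9c2d),
  W (nat_lit 0x2109c2d),
  W (nat_lit 0xa42d),
  [54],
  W (nat_lit 0x8c37),
  W (nat_lit 0x9437),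
  W (nat_lit 0x9c37),
  W (nat_lit 0x2309c37),
  W (nat_lit 0x2509c37),
  W (nat_lit 0xa437),
  W (nat_lit 0x230a437),
  W (nat_lit 0x250a437),
  W (nat_lit 0x8c250a437),
  W (nat_lit 0xb437),
  W (nat_lit 0x270b437),
  W (nat_lit 0x290b437),
  [52],
  W (nat_lit 0x8435),
  W (nat_lit 0x9435),
  W (nat_lit 0xa435),
  W (nat_lit 0xac35),
  W (nat_lit 0x210ac35),
  W (nat_lit 0x250ac35),
  W (nat_lit 0x290ac35),
  W (nat_lit 0xb435),
  W (nat_lit 0x210b435),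
  W (nat_lit 0x250b435),
  W (nat_lit 0x84250b435),
  W (nat_lit 0x290b435),
  W (nat_lit 0xdc35),
  W (nat_lit 0x210dc35),
  W (nat_lit 0x250dc35),
  W (nat_lit 0x290dc35),
  W (nat_lit 0x94290dc35),
  W (nat_lit 0x2d0dc35),
  W (nat_lit 0x942d0dc35),
  W (nat_lit 0xa42d0dc35)]
noncomputable def xzcj312 : List (List (List ℕ)) :=
  [[[30]],
  [[30]],
  [[30]],
  [[30]],
  [[30]],
  [[30]],
  [[30]],
  [[30]],
  [[30]],
  [[30]]]
noncomputable def xct9_E : List (ℕ × List CE) :=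
  [(3, []),
  (1, [ceD, ⟨false, [52], 0, []⟩]),
  (1, [ceD, ⟨false, [54], 0, []⟩]),
  (1, [ceD, ⟨false, [52], 0, []⟩]),
  (3, []),
  (1, [ceD, ⟨false, [42], 0, []⟩]),
  (1, [ceD, ⟨false, [42], 0, []⟩]),
  (1, [ceD, ⟨false, [42], 0, []⟩]),
  (3, []),
  (1, [ceD, ⟨false, [54], 0, []⟩]),
  (1, [ceD, ⟨false, [38], 0, []⟩]),
  (1, [ceD, ⟨false, [38], 0, []⟩]),
  (1, [ceD, ⟨false, [38], 0, []⟩]),
  (1, [ceD, ⟨false, [38], 0, []⟩]),
  (1, [ceD, ⟨false, [38], 0, []⟩]),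
  (1, [ceD, ⟨false, [38], 0, []⟩]),
  (1, [ceD, ⟨false, [38], 0, []⟩]),
  (3, []),
  (1, [ceD, ⟨false, [52], 0, []⟩]),
  (1, [ceD, ⟨false, [42], 0, []⟩]),
  (1, [ceD, ⟨false, [42], 0, []⟩]),
  (3, []),
  (1, [ceD, ⟨false, [34], 0, []⟩]),
  (1, [ceD, ⟨false, [34], 0, []⟩]),
  (1, [ceD, ⟨false, [34], 0, []⟩]),
  (1, [ceD, ⟨false, [34], 0, []⟩]),
  (1, [ceD, ⟨false, [34], 0, []⟩]),
  (1, [ceD, ⟨false, [34], 0, []⟩]),
  (1, [ceD, ⟨false, [34], 0, []⟩]),
  (1, [ceD, ⟨false, [34], 0, []⟩]),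
  (1, [ceD, ⟨false, [34], 0, []⟩]),
  (1, [ceD, ⟨false, [34], 0, []⟩]),
  (1, [ceD, ⟨false, [34], 0, []⟩]),
  (1, [ceD, ⟨false, [34], 0, []⟩]),
  (1, [ceD, ⟨false, [34], 0, []⟩]),
  (1, [ceD, ⟨false, [32], 0, []⟩]),
  (1, [ceD, ⟨false, [32], 0, []⟩]),
  (1, [ceD, ⟨false, [32], 0, []⟩]),
  (1, [ceD, ⟨false, [32], 0, []⟩]),
  (1, [ceD, ⟨false, [32], 0, []⟩]),
  (1, [ceD, ⟨false, [32], 0, []⟩]),
  (1, [ceD, ⟨false, [32], 0, []⟩]),
  (1, [ceD, ⟨false, [32], 0, []⟩]),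
  (1, [ceD, ⟨false, [32], 0, []⟩]),
  (1, [ceD, ⟨false, [32], 0, []⟩]),
  (1, [ceD, ⟨false, [32], 0, []⟩]),
  (1, [ceD, ⟨false, [32], 0, []⟩]),
  (1, [ceD, ⟨false, [32], 0, []⟩]),
  (1, [ceD, ⟨false, [32], 0, []⟩]),
  (1, [ceD, ⟨false, [32], 0, []⟩]),
  (1, [ceD, ⟨false, [32], 0, []⟩]),
  (1, [ceD, ⟨false, [32], 0, []⟩]),
  (1, [ceD, ⟨false, [32], 0, []⟩]),
  (1, [ceD, ⟨false, [32], 0, []⟩]),
  (1, [ceD, ⟨false, [32], 0, []⟩]),
  (1, [ceD, ⟨false, [32], 0, []⟩])]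
noncomputable def xct9_R : List (List ℕ) :=
  [[],
  [30],
  [32],
  [34],
  W (nat_lit 0x8423),
  [36],
  W (nat_lit 0x7c25),
  [38],
  W (nat_lit 0x8427),
  W (nat_lit 0x9427),
  [40],
  W (nat_lit 0x7c29),
  W (nat_lit 0x8c29),
  [42],
  W (nat_lit 0x8c2b),
  W (nat_lit 0x942b),
  W (nat_lit 0x9c2b),
  W (nat_lit 0x2509c2b),
  W (nat_lit 0xa42b),
  W (nat_lit 0x230a42b),
  [44],
  W (nat_lit 0x7c2d),
  W (nat_lit 0x842d),
  W (nat_lit 0x9c2d),
  W (nat_lit 0x2109c2d),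
  W (nat_lit 0xa42d),
  W (nat_lit 0x1f0a42d),
  [54],
  W (nat_lit 0x8c37),
  W (nat_lit 0x9437),
  W (nat_lit 0x9c37),
  W (nat_lit 0x2309c37),
  W (nat_lit 0x2509c37),
  W (nat_lit 0xa437),
  W (nat_lit 0x230a437),
  W (nat_lit 0x250a437),
  W (nat_lit 0x8c250a437),
  W (nat_lit 0xb437),
  W (nat_lit 0x270b437),
  W (nat_lit 0x290b437),
  [52],
  W (nat_lit 0x8435),
  W (nat_lit 0x9435),
  W (nat_lit 0xa435),
  W (nat_lit 0xac35),
  W (nat_lit 0x210ac35),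
  W (nat_lit 0x250ac35),
  W (nat_lit 0x290ac35),
  W (nat_lit 0xb435),
  W (nat_lit 0x210b435),
  W (nat_lit 0x250b435),
  W (nat_lit 0x84250b435),
  W (nat_lit 0x290b435),
  W (nat_lit 0xdc35),
  W (nat_lit 0x210dc35),
  W (nat_lit 0x250dc35),
  W (nat_lit 0x290dc35),
  W (nat_lit 0x94290dc35),
  W (nat_lit 0x2d0dc35),
  W (nat_lit 0x942d0dc35),
  W (nat_lit 0xa42d0dc35)]
noncomputable def xct10_F : List (List ℕ × ℕ × List ℕ) :=
  [([], 0, []),
  ([], 1, []),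
  (W (nat_lit 0x5c1b04c0c03406), 1, []),
  (W (nat_lit 0x741b0681403c110140a), 1, []),
  ([], 2, []),
  (W (nat_lit 0x7817070150480b03809), 1, []),
  (W (nat_lit 0x18070140601202c19), 2, []),
  (W (nat_lit 0x19070140740d01816), 2, []),
  (W (nat_lit 0x6c1a0501c0401202c120140900c09), 1, []),
  (W (nat_lit 0x1e0601503c150300c0040e), 1, []),
  (W (nat_lit 0x1d060140740f02c16), 2, []),
  (W (nat_lit 0x1e05c1b050180481302c190140c), 1, []),
  (W (nat_lit 0x6c130601603c110300d01419), 1, []),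
  (W (nat_lit 0x1e06c1e0501e0401402c1101819), 1, []),
  (W (nat_lit 0x1d0701904c1202c0b01409), 2, []),
  (W (nat_lit 0x741904c1602c1701419), 2, []),
  (W (nat_lit 0x7417070150401402c100140a00c15), 4, []),
  (W (nat_lit 0x1e06c1e0541103c0b0140c00413), 3, []),
  (W (nat_lit 0x1d0601b050190401802c170140d00414), 4, []),
  (W (nat_lit 0x1807013068110400c014190040f), 3, []),
  (W (nat_lit 0x1e0641c0501d044100300c01812), 1, []),
  (W (nat_lit 0x781c050160401802c0e0140c), 2, []),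
  (W (nat_lit 0x781c064140640f01c05), 2, []),
  (W (nat_lit 0x1e0641c04c110301a0181e00418), 4, []),
  (W (nat_lit 0x781b0680f0440b0640a00409), 3, []),
  (W (nat_lit 0x1d070190501d0401a02c100181e0041a), 4, []),
  (W (nat_lit 0x6c1a050110400b0640600409), 3, []),
  (W (nat_lit 0x78180501e03c1102c10), 1, []),
  (W (nat_lit 0x6c1a050180440f0300d0281000c15), 4, []),
  (W (nat_lit 0x5c1306c15044100300800414), 4, []),
  (W (nat_lit 0x1d070140500f02c1801819), 2, []),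
  (W (nat_lit 0x741c04c16058100440d0141d00c15), 4, []),
  (W (nat_lit 0x741706c140701204c0b0140a00415), 3, []),
  (W (nat_lit 0x1e06013058160481302c1702006), 2, []),
  (W (nat_lit 0x741b04c160400b0380700413), 3, []),
  (W (nat_lit 0x1e05c1c0501803c1402c19018190041a), 4, []),
  (W (nat_lit 0x1d05c1c04c1b054110300e0181900415), 3, []),
  (W (nat_lit 0x1d06c13060160401802c0f0140800c0e), 4, []),
  (W (nat_lit 0x641c04c160581103c0e02006), 5, []),
  (W (nat_lit 0x741907013060160401102c120140c), 5, []),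
  (W (nat_lit 0x601b0501d03c1402c0f01419), 2, []),
  (W (nat_lit 0x1c0641306c150481302c0b0140c00c15), 4, []),
  (W (nat_lit 0x7818070150401b02c0900c0e), 4, []),
  (W (nat_lit 0x1706c150401202c1101408), 5, []),
  (W (nat_lit 0x1e05c1b0501d03c0b05805), 1, []),
  (W (nat_lit 0x781306c150481302c0b0140c00c15), 4, []),
  (W (nat_lit 0x601b04c1b0401b02c12014070040d), 3, []),
  (W (nat_lit 0x1d060140701103c0e0181200418), 3, []),
  (W (nat_lit 0x1e0701904c1b0541204c0b04005), 1, []),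
  (W (nat_lit 0x6c140501006c0d0181600413), 3, []),
  (W (nat_lit 0x1c0501c0441c02c160181e00418), 4, []),
  (W (nat_lit 0x1d0601c04c130481302c0f0140c00c15), 3, []),
  (W (nat_lit 0x1e0601c050160480800413), 3, []),
  (W (nat_lit 0x1d0601c0501e0441c02c1801c05), 2, []),
  (W (nat_lit 0x1e06c1e050160401802c0e0281000c15), 4, []),
  (W (nat_lit 0x741704c1b0441002c0b0140b), 5, []),
  (W (nat_lit 0x1906c13060160401802c0f01409), 5, []),
  (W (nat_lit 0x1b060130581202c1b), 4, []),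
  (W (nat_lit 0x170701305816040150300e014070040f), 3, []),
  (W (nat_lit 0x7415040110300e01c05), 5, []),
  (W (nat_lit 0x78170501002c120140b), 6, [])]
noncomputable def xct10_R : List (List ℕ) :=
  [[], [30], W (nat_lit 0x8c21), W (nat_lit 0x8c250a4230b435), W (nat_lit 0x7c210942b0b42309429), W (nat_lit 0x270d42108c2509c29), W (nat_lit 0x7c250a42b0dc23094270b435)]
noncomputable def cl : List PR :=
  [⟨[52, 44, 34], [40, 36, 34], 1, 3, 2⟩,
  ⟨[40, 36, 34], [44, 42, 36, 32, 30], 1, 3, 1⟩,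
  ⟨[40, 38, 36, 34, 32], [52, 38], 1, 3, 0⟩,
  ⟨[52, 44, 38, 36, 34], [54, 42, 40, 36, 30], 2, 7, 0⟩]

theorem xzc0 : CL.M24P.Md.P.chainB xns xD xL_vs [[0], [2]] = true := by decide +kernel
theorem xzc1 : CL.M24P.Md.P.chainB xns xD xT_vs [[52], [54], [44], [42], [40], [38], [36], [34], [32], [30]] = true := by decide +kernel
theorem xzr2 : xchk (pcsR xT_ps []) = true := by decide +kernel
theorem xzb3 : bnd (pcsB xD xT_ps []) (leB (app xD []) [[52], [54], [44], [42], [40], [38], [36], [34], [32], [30]] (pcGens xT_ps [])) = true := by decide +kernel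
theorem xzc4 : CL.M24P.Md.P.chainB xns xD xU_vs [[30], [32], [34], [36], [38], [40], [30], [34], [32], [36], [42], [44]] = true := by decide +kernel
theorem xzr5 : xchk (pcsR xU_ps []) = true := by decide +kernel
theorem xzb6 : bnd (pcsB xD xU_ps []) (leB (app xD []) [[30], [32], [34], [36], [38], [40], [30], [34], [32], [36], [42], [44]] (pcGens xU_ps [])) = true := by decide +kernel
theorem xzc7 : CL.M24P.Md.P.chainB xns xD xA_vs [[30], [32], [34], [36], [38], [40]] = true := by decide +kernel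
theorem xzr8 : xchk (pcsR xA_ps []) = true := by decide +kernel
theorem xzb9 : bnd (pcsB xD xA_ps []) (leB (app xD []) [[30], [32], [34], [36], [38], [40]] (pcGens xA_ps [])) = true := by decide +kernel
theorem xzc10 : CL.M24P.Md.P.chainB xns xD xB_vs [[30], [34], [32], [36], [42], [44]] = true := by decide +kernel
theorem xzr11 : xchk (pcsR xB_ps []) = true := by decide +kernel
theorem xzb12 : bnd (pcsB xD xB_ps []) (leB (app xD []) [[30], [34], [32], [36], [42], [44]] (pcGens xB_ps [])) = true := by decide +kernel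
theorem xzr13 : xchk (zp [] (powWs 2 [[30], [32], [34], [36], [38], [40]]) []) = true := by decide +kernel
theorem xzr14 : xchk (comR [[30], [32], [34], [36], [38], [40]] [[30], [32], [34], [36], [38], [40]]) = true := by decide +kernel
theorem xzr15 : xchk (zp [] (powWs 2 [[30], [34], [32], [36], [42], [44]]) []) = true := by decide +kernel
theorem xzr16 : xchk (comR [[30], [34], [32], [36], [42], [44]] [[30], [34], [32], [36], [42], [44]]) = true := by decide +kernel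
theorem xzb19 : schB xD [[126], [128], [130], [132]] [] xzus17 xzF18 16 = true := by decide +kernel
theorem xzr20 : xchk (schR [[126], [128], [130], [132]] xzus17 xzF18) = true := by decide +kernel
theorem xzb24 : bnd (pcB xD [[126], [128], [130], [132]] 3 xzt22 xzcj23) (leB (app xD xzE21) [[120], [122], [124]] ([122] :: [[126], [128], [130], [132]])) = true := by decide +kernel
theorem xzr25 : xchk (pcR [[126], [128], [130], [132]] [122] 3 xzt22 xzcj23) = true := by decide +kernel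
theorem xzr26 : xchk (defRels xzE21) = true := by decide +kernel
theorem xzb29 : schB xD [[114], [118]] [[120], [122], [124]] xzus27 xzF28 20 = true := by decide +kernel
theorem xzr30 : xchk (schR [[114], [118]] xzus27 xzF28) = true := by decide +kernel
theorem xzb33 : bnd (pcB xD [[114], [118]] 2 xzt31 xzcj32) (leB (app xD []) [[114], [116]] ([116] :: [[114], [118]])) = true := by decide +kernel
theorem xzr34 : xchk (pcR [[114], [118]] [116] 2 xzt31 xzcj32) = true := by decide +kernel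
theorem xzb37 : schB xD [[110], [112]] [[114], [116]] xzus35 xzF36 3 = true := by decide +kernel
theorem xzr38 : xchk (schR [[110], [112]] xzus35 xzF36) = true := by decide +kernel
theorem xzb41 : schB xD [[106], [108]] [[110], [112]] xzus39 xzF40 24 = true := by decide +kernel
theorem xzr42 : xchk (schR [[106], [108]] xzus39 xzF40) = true := by decide +kernel
theorem xzc43 : CL.M24P.Md.P.chainB xns xD xHA_vs [[106], [108]] = true := by decide +kernel
theorem xzm45 : leB xD xzts44 [[106], [108]] = true := by decide +kernel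
theorem xzr46 : xchk (zp [] [[106], [108], [52], [54], [44], [42], [40], [38], [36], [34], [32], [30], [50]] xzts44) = true := by decide +kernel
theorem xzm47 : leB xD [[106], [108]] [[106], [108], [52], [54], [44], [42], [40], [38], [36], [34], [32], [30], [50]] = true := by decide +kernel
theorem xzf50 : CL.M24P.Md.P.fixXB xns (diag [[30], [32], [34], [36], [38], [40]]) xcenA_F = true := by decide +kernel
theorem xzc51 : CL.M24P.Md.P.chainB xns xD xcenAG_vs [[106], [108], [52], [54], [44], [42], [40], [38], [36], [34], [32], [30], [50]] = true := by decide +kernel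
theorem xzs52 : ssB CL.M24P.Md.P.N xns xD (mkS CL.M24P.Md.P.n xcenAG_vs xcenA_x) [[106], [108], [52], [54], [44], [42], [40], [38], [36], [34], [32], [30], [50]] = true := by decide +kernel
theorem xzs54 : xcenA_G.chk xzt53 xcenA_s none = true := by decide +kernel
theorem xzr55 : xchk (comR [[30], [32], [34], [36], [38], [40]] (mapL Prod.snd (diag [[30], [32], [34], [36], [38], [40]]))) = true := by decide +kernel
theorem xzm56 : leB xD [[30], [32], [34], [36], [38], [40]] [[106], [108], [52], [54], [44], [42], [40], [38], [36], [34], [32], [30], [50]] = true := by decide +kernel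
theorem xzf59 : CL.M24P.Md.P.fixXB xns (diag [[30], [32], [34], [36]]) xcedA_F = true := by decide +kernel
theorem xzc60 : CL.M24P.Md.P.chainB xns xD xcedAG_vs [[106], [108], [52], [54], [44], [42], [40], [38], [36], [34], [32], [30], [50]] = true := by decide +kernel
theorem xzs61 : ssB CL.M24P.Md.P.N xns xD (mkS CL.M24P.Md.P.n xcedAG_vs xcedA_x) [[106], [108], [52], [54], [44], [42], [40], [38], [36], [34], [32], [30], [50]] = true := by decide +kernel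
theorem xzs63 : xcedA_G.chk xzt62 xcedA_s none = true := by decide +kernel
theorem xzr64 : xchk (comR [[30], [32], [34], [36], [38], [40], [30], [34], [32], [36], [42], [44]] (mapL Prod.snd (diag [[30], [32], [34], [36]]))) = true := by decide +kernel
theorem xzm65 : leB xD [[30], [32], [34], [36], [38], [40], [30], [34], [32], [36], [42], [44]] [[106], [108], [52], [54], [44], [42], [40], [38], [36], [34], [32], [30], [50]] = true := by decide +kernel
theorem xzf67 : Nat.beq (CL.M24P.Md.P.fixL xns [[30], [32], [34], [36], [38], [40]]) xzm66 = true := by decide +kernel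
theorem xzc68 : CL.M24P.Md.P.chainB xns xD xnorAG_vs [[0], [2]] = true := by decide +kernel
theorem xzs69 : ssB CL.M24P.Md.P.N xns xD (mkS CL.M24P.Md.P.n xnorAG_vs xnorA_x) [[0], [2]] = true := by decide +kernel
theorem xzs71 : xnorA_G.chk xzt70 xnorA_s none = true := by decide +kernel
theorem xzm72 : leB xD [[106], [108], [52], [54], [44], [42], [40], [38], [36], [34], [32], [30], [50]] [[0], [2]] = true := by decide +kernel
theorem xzm74 : nrmB xD [[106], [108], [52], [54], [44], [42], [40], [38], [36], [34], [32], [30], [50]] [[30], [32], [34], [36], [38], [40]] xzcj73 = true := by decide +kernel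
theorem xzr75 : xchk (nrmR [[106], [108], [52], [54], [44], [42], [40], [38], [36], [34], [32], [30], [50]] [[30], [32], [34], [36], [38], [40]] xzcj73) = true := by decide +kernel
theorem xzm76 : leB xD [[30], [32], [34], [36], [38], [40]] [[0], [2]] = true := by decide +kernel
theorem xzm78 : leB xD xzts77 [[106], [108], [52], [54], [44], [42], [40], [38], [36], [34], [32], [30], [50]] = true := by decide +kernel
theorem xzr79 : xchk (zp [] (haL w sA) xzts77) = true := by decide +kernel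
theorem xzd80 : xA.ok = true := by decide +kernel
theorem xzd81 : smB w xA sA = true := by decide +kernel
theorem xzr82 : xchk (comR sA.qw [w.z]) = true := by decide +kernel
theorem xzr83 : xchk (cjRs sA.bw (smL w xA sA)) = true := by decide +kernel
theorem xzd84 : sfB w sA = true := by decide +kernel
theorem xzm86 : leB xD xzts85 [[30], [32], [34], [36], [38], [40]] = true := by decide +kernel
theorem xzr87 : xchk (zp [] (sfA w) xzts85) = true := by decide +kernel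
theorem xzm89 : leB xD xzts88 [[30], [32], [34], [36], [38], [40], [30], [34], [32], [36], [42], [44]] = true := by decide +kernel
theorem xzr90 : xchk (zp [] (sfU w sA) xzts88) = true := by decide +kernel
theorem xzr91 : xchk (sfR w sA) = true := by decide +kernel
theorem xzm92 : leB xD [[0], [2]] [[0], [2]] = true := by decide +kernel
theorem xzm93 : leB xD [[106], [108], [52], [54], [44], [42], [40], [38], [36], [34], [32], [30], [50]] [[0], [2]] = true := by decide +kernel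
theorem xzb96 : schB xD [[182], [184], [186]] [] xzus94 xzF95 8 = true := by decide +kernel
theorem xzr97 : xchk (schR [[182], [184], [186]] xzus94 xzF95) = true := by decide +kernel
theorem xzb100 : schB xD [[178], [180]] [[182], [184], [186]] xzus98 xzF99 20 = true := by decide +kernel
theorem xzr101 : xchk (schR [[178], [180]] xzus98 xzF99) = true := by decide +kernel
theorem xzb105 : bnd (pcB xD [[178], [180]] 2 xzt103 xzcj104) (leB (app xD xzE102) [[174], [176]] ([176] :: [[178], [180]])) = true := by decide +kernel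
theorem xzr106 : xchk (pcR [[178], [180]] [176] 2 xzt103 xzcj104) = true := by decide +kernel
theorem xzr107 : xchk (defRels xzE102) = true := by decide +kernel
theorem xzb110 : schB xD [[170], [172]] [[174], [176]] xzus108 xzF109 24 = true := by decide +kernel
theorem xzr111 : xchk (schR [[170], [172]] xzus108 xzF109) = true := by decide +kernel
theorem xzc112 : CL.M24P.Md.P.chainB xns xD xYA_vs [[170], [172]] = true := by decide +kernel
theorem xzf113 : CL.M24P.Md.P.fixXB xns (diag [W (nat_lit 0x8c21)]) xceyA_F = true := by decide +kernel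
theorem xzc114 : CL.M24P.Md.P.chainB xns xD xceyAG_vs [[106], [108], [52], [54], [44], [42], [40], [38], [36], [34], [32], [30], [50]] = true := by decide +kernel
theorem xzs115 : ssB CL.M24P.Md.P.N xns xD (mkS CL.M24P.Md.P.n xceyAG_vs xceyA_x) [[106], [108], [52], [54], [44], [42], [40], [38], [36], [34], [32], [30], [50]] = true := by decide +kernel
theorem xzs117 : xceyA_G.chk xzt116 xceyA_s none = true := by decide +kernel
theorem xzr118 : xchk (comR [[170], [172]] (mapL Prod.snd (diag [W (nat_lit 0x8c21)]))) = true := by decide +kernel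
theorem xzm119 : leB xD [[170], [172]] [[106], [108], [52], [54], [44], [42], [40], [38], [36], [34], [32], [30], [50]] = true := by decide +kernel
theorem xzm121 : nrmB xD [[106], [108], [52], [54], [44], [42], [40], [38], [36], [34], [32], [30], [50]] [[46], [30], [32], [34], [36], [38], [40]] xzcj120 = true := by decide +kernel
theorem xzr122 : xchk (nrmR [[106], [108], [52], [54], [44], [42], [40], [38], [36], [34], [32], [30], [50]] [[46], [30], [32], [34], [36], [38], [40]] xzcj120) = true := by decide +kernel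
theorem xzd123 : decide (xA.n = 6 ∧ xA.okFix = true ∧ (19 = 19 ∨ 19 = 43) ∧ 7680 * (19 - 1) = 138240) = true := by decide +kernel
theorem xzq124 : [elW sA.bw xA.y] = [W (nat_lit 0x8c21)] := by decide +kernel
theorem xzb127 : schB xD [[224], [226], [228], [230]] [] xzus125 xzF126 16 = true := by decide +kernel
theorem xzr128 : xchk (schR [[224], [226], [228], [230]] xzus125 xzF126) = true := by decide +kernel
theorem xzb131 : schB xD [[216], [218], [220], [222]] [[224], [226], [228], [230]] xzus129 xzF130 4 = true := by decide +kernel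
theorem xzr132 : xchk (schR [[216], [218], [220], [222]] xzus129 xzF130) = true := by decide +kernel
theorem xzb135 : schB xD [[212], [214]] [[216], [218], [220], [222]] xzus133 xzF134 6 = true := by decide +kernel
theorem xzr136 : xchk (schR [[212], [214]] xzus133 xzF134) = true := by decide +kernel
theorem xzb139 : schB xD [[208], [210]] [[212], [214]] xzus137 xzF138 7 = true := by decide +kernel
theorem xzr140 : xchk (schR [[208], [210]] xzus137 xzF138) = true := by decide +kernel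
theorem xzb143 : schB xD [[204], [206]] [[208], [210]] xzus141 xzF142 24 = true := by decide +kernel
theorem xzr144 : xchk (schR [[204], [206]] xzus141 xzF142) = true := by decide +kernel
theorem xzc145 : CL.M24P.Md.P.chainB xns xD xHB_vs [[204], [206]] = true := by decide +kernel
theorem xzm147 : leB xD xzts146 [[204], [206]] = true := by decide +kernel
theorem xzr148 : xchk (zp [] [[204], [206], [52], [54], [44], [42], [40], [38], [36], [34], [32], [30], [50]] xzts146) = true := by decide +kernel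
theorem xzm149 : leB xD [[204], [206]] [[204], [206], [52], [54], [44], [42], [40], [38], [36], [34], [32], [30], [50]] = true := by decide +kernel
theorem xzf152 : CL.M24P.Md.P.fixXB xns (diag [[30], [34], [32], [36], [42], [44]]) xcenB_F = true := by decide +kernel
theorem xzc153 : CL.M24P.Md.P.chainB xns xD xcenBG_vs [[204], [206], [52], [54], [44], [42], [40], [38], [36], [34], [32], [30], [50]] = true := by decide +kernel
theorem xzs154 : ssB CL.M24P.Md.P.N xns xD (mkS CL.M24P.Md.P.n xcenBG_vs xcenB_x) [[204], [206], [52], [54], [44], [42], [40], [38], [36], [34], [32], [30], [50]] = true := by decide +kernel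
theorem xzs156 : xcenB_G.chk xzt155 xcenB_s none = true := by decide +kernel
theorem xzr157 : xchk (comR [[30], [34], [32], [36], [42], [44]] (mapL Prod.snd (diag [[30], [34], [32], [36], [42], [44]]))) = true := by decide +kernel
theorem xzm158 : leB xD [[30], [34], [32], [36], [42], [44]] [[204], [206], [52], [54], [44], [42], [40], [38], [36], [34], [32], [30], [50]] = true := by decide +kernel
theorem xzf161 : CL.M24P.Md.P.fixXB xns (diag [[30], [32], [34], [36]]) xcedB_F = true := by decide +kernel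
theorem xzc162 : CL.M24P.Md.P.chainB xns xD xcedBG_vs [[204], [206], [52], [54], [44], [42], [40], [38], [36], [34], [32], [30], [50]] = true := by decide +kernel
theorem xzs163 : ssB CL.M24P.Md.P.N xns xD (mkS CL.M24P.Md.P.n xcedBG_vs xcedB_x) [[204], [206], [52], [54], [44], [42], [40], [38], [36], [34], [32], [30], [50]] = true := by decide +kernel
theorem xzs165 : xcedB_G.chk xzt164 xcedB_s none = true := by decide +kernel
theorem xzr166 : xchk (comR [[30], [32], [34], [36], [38], [40], [30], [34], [32], [36], [42], [44]] (mapL Prod.snd (diag [[30], [32], [34], [36]]))) = true := by decide +kernel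
theorem xzm167 : leB xD [[30], [32], [34], [36], [38], [40], [30], [34], [32], [36], [42], [44]] [[204], [206], [52], [54], [44], [42], [40], [38], [36], [34], [32], [30], [50]] = true := by decide +kernel
theorem xzf169 : Nat.beq (CL.M24P.Md.P.fixL xns [[30], [34], [32], [36], [42], [44]]) xzm168 = true := by decide +kernel
theorem xzc170 : CL.M24P.Md.P.chainB xns xD xnorBG_vs [[0], [2]] = true := by decide +kernel
theorem xzs171 : ssB CL.M24P.Md.P.N xns xD (mkS CL.M24P.Md.P.n xnorBG_vs xnorB_x) [[0], [2]] = true := by decide +kernel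
theorem xzs173 : xnorB_G.chk xzt172 xnorB_s none = true := by decide +kernel
theorem xzm174 : leB xD [[204], [206], [52], [54], [44], [42], [40], [38], [36], [34], [32], [30], [50]] [[0], [2]] = true := by decide +kernel
theorem xzm176 : nrmB xD [[204], [206], [52], [54], [44], [42], [40], [38], [36], [34], [32], [30], [50]] [[30], [34], [32], [36], [42], [44]] xzcj175 = true := by decide +kernel
theorem xzr177 : xchk (nrmR [[204], [206], [52], [54], [44], [42], [40], [38], [36], [34], [32], [30], [50]] [[30], [34], [32], [36], [42], [44]] xzcj175) = true := by decide +kernel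
theorem xzm178 : leB xD [[30], [34], [32], [36], [42], [44]] [[0], [2]] = true := by decide +kernel
theorem xzm180 : leB xD xzts179 [[204], [206], [52], [54], [44], [42], [40], [38], [36], [34], [32], [30], [50]] = true := by decide +kernel
theorem xzr181 : xchk (zp [] (haL w.swap sB) xzts179) = true := by decide +kernel
theorem xzd182 : xB.ok = true := by decide +kernel
theorem xzd183 : smB w.swap xB sB = true := by decide +kernel
theorem xzr184 : xchk (comR sB.qw [w.z]) = true := by decide +kernel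
theorem xzr185 : xchk (cjRs sB.bw (smL w.swap xB sB)) = true := by decide +kernel
theorem xzd186 : sfB w.swap sB = true := by decide +kernel
theorem xzm188 : leB xD xzts187 [[30], [34], [32], [36], [42], [44]] = true := by decide +kernel
theorem xzr189 : xchk (zp [] (sfA w.swap) xzts187) = true := by decide +kernel
theorem xzm191 : leB xD xzts190 [[30], [32], [34], [36], [38], [40], [30], [34], [32], [36], [42], [44]] = true := by decide +kernel
theorem xzr192 : xchk (zp [] (sfU w.swap sB) xzts190) = true := by decide +kernel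
theorem xzr193 : xchk (sfR w.swap sB) = true := by decide +kernel
theorem xzm194 : leB xD [[0], [2]] [[0], [2]] = true := by decide +kernel
theorem xzm195 : leB xD [[204], [206], [52], [54], [44], [42], [40], [38], [36], [34], [32], [30], [50]] [[0], [2]] = true := by decide +kernel
theorem xzb198 : schB xD [[278], [275], [280]] [] xzus196 xzF197 8 = true := by decide +kernel
theorem xzr199 : xchk (schR [[278], [275], [280]] xzus196 xzF197) = true := by decide +kernel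
theorem xzb202 : schB xD [[274], [273], [276]] [[278], [275], [280]] xzus200 xzF201 4 = true := by decide +kernel
theorem xzr203 : xchk (schR [[274], [273], [276]] xzus200 xzF201) = true := by decide +kernel
theorem xzb207 : bnd (pcB xD [[274], [273], [276]] 2 xzt205 xzcj206) (leB (app xD xzE204) [[270], [272]] ([270] :: [[274], [273], [276]])) = true := by decide +kernel
theorem xzr208 : xchk (pcR [[274], [273], [276]] [270] 2 xzt205 xzcj206) = true := by decide +kernel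
theorem xzr209 : xchk (defRels xzE204) = true := by decide +kernel
theorem xzb212 : schB xD [[266], [268]] [[270], [272]] xzus210 xzF211 24 = true := by decide +kernel
theorem xzr213 : xchk (schR [[266], [268]] xzus210 xzF211) = true := by decide +kernel
theorem xzc214 : CL.M24P.Md.P.chainB xns xD xYB_vs [[266], [268]] = true := by decide +kernel
theorem xzf215 : CL.M24P.Md.P.fixXB xns (diag [W (nat_lit 0x8423)]) xceyB_F = true := by decide +kernel
theorem xzc216 : CL.M24P.Md.P.chainB xns xD xceyBG_vs [[204], [206], [52], [54], [44], [42], [40], [38], [36], [34], [32], [30], [50]] = true := by decide +kernel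
theorem xzs217 : ssB CL.M24P.Md.P.N xns xD (mkS CL.M24P.Md.P.n xceyBG_vs xceyB_x) [[204], [206], [52], [54], [44], [42], [40], [38], [36], [34], [32], [30], [50]] = true := by decide +kernel
theorem xzs219 : xceyB_G.chk xzt218 xceyB_s none = true := by decide +kernel
theorem xzr220 : xchk (comR [[266], [268]] (mapL Prod.snd (diag [W (nat_lit 0x8423)]))) = true := by decide +kernel
theorem xzm221 : leB xD [[266], [268]] [[204], [206], [52], [54], [44], [42], [40], [38], [36], [34], [32], [30], [50]] = true := by decide +kernel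
theorem xzm223 : nrmB xD [[204], [206], [52], [54], [44], [42], [40], [38], [36], [34], [32], [30], [50]] [[48], [30], [34], [32], [36], [42], [44]] xzcj222 = true := by decide +kernel
theorem xzr224 : xchk (nrmR [[204], [206], [52], [54], [44], [42], [40], [38], [36], [34], [32], [30], [50]] [[48], [30], [34], [32], [36], [42], [44]] xzcj222) = true := by decide +kernel
theorem xzd225 : decide (xB.n = 6 ∧ xB.okFix = true ∧ (43 = 19 ∨ 43 = 43) ∧ 1536 * (43 - 1) = 64512) = true := by decide +kernel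
theorem xzq226 : [elW sB.bw xB.y] = [W (nat_lit 0x8423)] := by decide +kernel
theorem xzf228 : CL.M24P.Md.P.fixXB xns (diag [[30]]) xcez_F = true := by decide +kernel
theorem xzc229 : CL.M24P.Md.P.chainB xns xD xcezG_vs [[0], [2]] = true := by decide +kernel
theorem xzs230 : ssB CL.M24P.Md.P.N xns xD (mkS CL.M24P.Md.P.n xcezG_vs xcez_x) [[0], [2]] = true := by decide +kernel
theorem xzs232 : xcez_G.chk xzt231 xcez_s none = true := by decide +kernel
theorem xzr233 : xchk (comR [[296], [298], [300], [302]] (mapL Prod.snd (diag [[30]]))) = true := by decide +kernel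
theorem xzm234 : leB xD [[296], [298], [300], [302]] [[0], [2]] = true := by decide +kernel
theorem xzd235 : ([[30], [328], [330], [332], [334]].all fun a => [[30], [328], [330], [332], [334]].all fun b => cq.any fun q => decide (a ∈ [q.x, q.y] ∧ b ∈ [q.x, q.y])) = true := by decide +kernel
theorem xzr236 : xchk (okR w (PA ++ PB) cq) = true := by decide +kernel
theorem xzd237 : leB xD (cq.map CQ.g) w.L = true := by decide +kernel
theorem xzm239 : leB xD xzts238 [[30], [328], [330], [332], [334]] = true := by decide +kernel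
theorem xzr240 : xchk (zp [] [[0], [2]] xzts238) = true := by decide +kernel
theorem xzd241 : leB xD ([[300], [302]] ++ PB) w.HB = true := by decide +kernel
theorem xzd242 : leB xD ([[296], [298]] ++ PA) w.HA = true := by decide +kernel
theorem xzr243 : xchk (zp [] w.D (genD w)) = true := by decide +kernel
theorem xzr244 : xchk (comR w.T [w.z]) = true := by decide +kernel
theorem xzm245 : leB xD [[52], [54], [44], [42], [40], [38], [36], [34], [32], [30]] [[0], [2]] = true := by decide +kernel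
theorem xzd246 : (decide (∀ p ∈ fk.map Prod.snd, p.2.length = xA.n ∧ ∀ c ∈ p.2, c < 2 ^ xA.n) &&
      xA.okF (fk.map fun p => (p.1, p.2.2)) [1, 2, 4, 8, 27, 45]) = true := by decide +kernel
theorem xzd247 : leB xD ((fk.filter fun p => p.1).map fun p => p.2.1) w.B = true := by decide +kernel
theorem xzd248 : leB xD ((fk.filter fun p => !p.1).map fun p => p.2.1) w.HA = true := by decide +kernel
theorem xzr249 : xchk (cjRs sA.bw (fk.map Prod.snd)) = true := by decide +kernel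
theorem xzq250 : cvN 2 [52] [[]] xct0_E = xct0_R := by decide +kernel
theorem xzr251 : xchk (cvR 0 2 [52] [[]] xct0_E) = true := by decide +kernel
theorem xzb252 : cvB xD [[52], [54], [44], [42], [40], [38], [36], [34], [32], [30]] [[54], [44], [42], [40], [38], [36], [34], [32], [30]] 2 [52] [[]] xct0_E = true := by decide +kernel
theorem xzm254 : leB xD xzts253 [[0], [2]] = true := by decide +kernel
theorem xzr255 : xchk (zp [] [[52], [54], [44], [42], [40], [38], [36], [34], [32], [30]] xzts253) = true := by decide +kernel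
theorem xzm257 : nrmB xD [[52], [54], [44], [42], [40], [38], [36], [34], [32], [30]] [[54], [44], [42], [40], [38], [36], [34], [32], [30]] xzcj256 = true := by decide +kernel
theorem xzr258 : xchk (nrmR [[52], [54], [44], [42], [40], [38], [36], [34], [32], [30]] [[54], [44], [42], [40], [38], [36], [34], [32], [30]] xzcj256) = true := by decide +kernel
theorem xzm259 : leB xD [[54], [44], [42], [40], [38], [36], [34], [32], [30]] [[52], [54], [44], [42], [40], [38], [36], [34], [32], [30]] = true := by decide +kernel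
theorem xzq260 : cvN 2 [54] xct0_R xct1_E = xct1_R := by decide +kernel
theorem xzr261 : xchk (cvR 0 2 [54] xct0_R xct1_E) = true := by decide +kernel
theorem xzb262 : cvB xD [[52], [54], [44], [42], [40], [38], [36], [34], [32], [30]] [[44], [42], [40], [38], [36], [34], [32], [30]] 2 [54] xct0_R xct1_E = true := by decide +kernel
theorem xzm264 : nrmB xD [[52], [54], [44], [42], [40], [38], [36], [34], [32], [30]] [[44], [42], [40], [38], [36], [34], [32], [30]] xzcj263 = true := by decide +kernel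
theorem xzr265 : xchk (nrmR [[52], [54], [44], [42], [40], [38], [36], [34], [32], [30]] [[44], [42], [40], [38], [36], [34], [32], [30]] xzcj263) = true := by decide +kernel
theorem xzm266 : leB xD [[44], [42], [40], [38], [36], [34], [32], [30]] [[52], [54], [44], [42], [40], [38], [36], [34], [32], [30]] = true := by decide +kernel
theorem xzq267 : cvN 2 [44] xct1_R xct2_E = xct2_R := by decide +kernel
theorem xzr268 : xchk (cvR 0 2 [44] xct1_R xct2_E) = true := by decide +kernel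
theorem xzb269 : cvB xD [[52], [54], [44], [42], [40], [38], [36], [34], [32], [30]] [[42], [40], [38], [36], [34], [32], [30]] 2 [44] xct1_R xct2_E = true := by decide +kernel
theorem xzm271 : nrmB xD [[52], [54], [44], [42], [40], [38], [36], [34], [32], [30]] [[42], [40], [38], [36], [34], [32], [30]] xzcj270 = true := by decide +kernel
theorem xzr272 : xchk (nrmR [[52], [54], [44], [42], [40], [38], [36], [34], [32], [30]] [[42], [40], [38], [36], [34], [32], [30]] xzcj270) = true := by decide +kernel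
theorem xzm273 : leB xD [[42], [40], [38], [36], [34], [32], [30]] [[52], [54], [44], [42], [40], [38], [36], [34], [32], [30]] = true := by decide +kernel
theorem xzq274 : cvN 2 [42] xct2_R xct3_E = xct3_R := by decide +kernel
theorem xzr275 : xchk (cvR 0 2 [42] xct2_R xct3_E) = true := by decide +kernel
theorem xzb276 : cvB xD [[52], [54], [44], [42], [40], [38], [36], [34], [32], [30]] [[40], [38], [36], [34], [32], [30]] 2 [42] xct2_R xct3_E = true := by decide +kernel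
theorem xzm278 : nrmB xD [[52], [54], [44], [42], [40], [38], [36], [34], [32], [30]] [[40], [38], [36], [34], [32], [30]] xzcj277 = true := by decide +kernel
theorem xzr279 : xchk (nrmR [[52], [54], [44], [42], [40], [38], [36], [34], [32], [30]] [[40], [38], [36], [34], [32], [30]] xzcj277) = true := by decide +kernel
theorem xzm280 : leB xD [[40], [38], [36], [34], [32], [30]] [[52], [54], [44], [42], [40], [38], [36], [34], [32], [30]] = true := by decide +kernel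
theorem xzq281 : cvN 2 [40] xct3_R xct4_E = xct4_R := by decide +kernel
theorem xzr282 : xchk (cvR 0 2 [40] xct3_R xct4_E) = true := by decide +kernel
theorem xzb283 : cvB xD [[52], [54], [44], [42], [40], [38], [36], [34], [32], [30]] [[38], [36], [34], [32], [30]] 2 [40] xct3_R xct4_E = true := by decide +kernel
theorem xzm285 : nrmB xD [[52], [54], [44], [42], [40], [38], [36], [34], [32], [30]] [[38], [36], [34], [32], [30]] xzcj284 = true := by decide +kernel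
theorem xzr286 : xchk (nrmR [[52], [54], [44], [42], [40], [38], [36], [34], [32], [30]] [[38], [36], [34], [32], [30]] xzcj284) = true := by decide +kernel
theorem xzm287 : leB xD [[38], [36], [34], [32], [30]] [[52], [54], [44], [42], [40], [38], [36], [34], [32], [30]] = true := by decide +kernel
theorem xzq288 : cvN 2 [38] xct4_R xct5_E = xct5_R := by decide +kernel
theorem xzr289 : xchk (cvR 0 2 [38] xct4_R xct5_E) = true := by decide +kernel
theorem xzb290 : cvB xD [[52], [54], [44], [42], [40], [38], [36], [34], [32], [30]] [[36], [34], [32], [30]] 2 [38] xct4_R xct5_E = true := by decide +kernel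
theorem xzm292 : nrmB xD [[52], [54], [44], [42], [40], [38], [36], [34], [32], [30]] [[36], [34], [32], [30]] xzcj291 = true := by decide +kernel
theorem xzr293 : xchk (nrmR [[52], [54], [44], [42], [40], [38], [36], [34], [32], [30]] [[36], [34], [32], [30]] xzcj291) = true := by decide +kernel
theorem xzm294 : leB xD [[36], [34], [32], [30]] [[52], [54], [44], [42], [40], [38], [36], [34], [32], [30]] = true := by decide +kernel
theorem xzq295 : cvN 2 [36] xct5_R xct6_E = xct6_R := by decide +kernel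
theorem xzr296 : xchk (cvR 0 2 [36] xct5_R xct6_E) = true := by decide +kernel
theorem xzb297 : cvB xD [[52], [54], [44], [42], [40], [38], [36], [34], [32], [30]] [[34], [32], [30]] 2 [36] xct5_R xct6_E = true := by decide +kernel
theorem xzm299 : nrmB xD [[52], [54], [44], [42], [40], [38], [36], [34], [32], [30]] [[34], [32], [30]] xzcj298 = true := by decide +kernel
theorem xzr300 : xchk (nrmR [[52], [54], [44], [42], [40], [38], [36], [34], [32], [30]] [[34], [32], [30]] xzcj298) = true := by decide +kernel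
theorem xzm301 : leB xD [[34], [32], [30]] [[52], [54], [44], [42], [40], [38], [36], [34], [32], [30]] = true := by decide +kernel
theorem xzq302 : cvN 2 [34] xct6_R xct7_E = xct7_R := by decide +kernel
theorem xzr303 : xchk (cvR 0 2 [34] xct6_R xct7_E) = true := by decide +kernel
theorem xzb304 : cvB xD [[52], [54], [44], [42], [40], [38], [36], [34], [32], [30]] [[32], [30]] 2 [34] xct6_R xct7_E = true := by decide +kernel
theorem xzm306 : nrmB xD [[52], [54], [44], [42], [40], [38], [36], [34], [32], [30]] [[32], [30]] xzcj305 = true := by decide +kernel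
theorem xzr307 : xchk (nrmR [[52], [54], [44], [42], [40], [38], [36], [34], [32], [30]] [[32], [30]] xzcj305) = true := by decide +kernel
theorem xzm308 : leB xD [[32], [30]] [[52], [54], [44], [42], [40], [38], [36], [34], [32], [30]] = true := by decide +kernel
theorem xzq309 : cvN 2 [32] xct7_R xct8_E = xct8_R := by decide +kernel
theorem xzr310 : xchk (cvR 0 2 [32] xct7_R xct8_E) = true := by decide +kernel
theorem xzb311 : cvB xD [[52], [54], [44], [42], [40], [38], [36], [34], [32], [30]] [[30]] 2 [32] xct7_R xct8_E = true := by decide +kernel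
theorem xzm313 : nrmB xD [[52], [54], [44], [42], [40], [38], [36], [34], [32], [30]] [[30]] xzcj312 = true := by decide +kernel
theorem xzr314 : xchk (nrmR [[52], [54], [44], [42], [40], [38], [36], [34], [32], [30]] [[30]] xzcj312) = true := by decide +kernel
theorem xzm315 : leB xD [[30]] [[52], [54], [44], [42], [40], [38], [36], [34], [32], [30]] = true := by decide +kernel
theorem xzq316 : cvN 2 [30] xct8_R xct9_E = xct9_R := by decide +kernel
theorem xzr317 : xchk (cvR 0 2 [30] xct8_R xct9_E) = true := by decide +kernel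
theorem xzb318 : cvB xD [[52], [54], [44], [42], [40], [38], [36], [34], [32], [30]] [] 2 [30] xct8_R xct9_E = true := by decide +kernel
theorem xzr319 : xchk (fuR xct9_R xct10_R xct10_F) = true := by decide +kernel
theorem xzb320 : fuB xD [[0], [2]] [] xct9_R xct10_R xct10_F = true := by decide +kernel
theorem xzm321 : leB xD [[0], [2]] [[0], [2]] = true := by decide +kernel
theorem xzd322 : decide ([[], [30], W (nat_lit 0x8c21), W (nat_lit 0x8c250a4230b435), W (nat_lit 0x7c210942b0b42309429), W (nat_lit 0x270d42108c2509c29), W (nat_lit 0x7c250a42b0dc23094270b435)] = [[], w.z, [32, 34]] ++ cl.map (fun c => c.i ++ c.j) ∧ ∀ c ∈ cl, 1 ≤ c.n) = true := by decide +kernel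
theorem xzd323 : allL (fun q : PR => movB CL.M24P.Md.P.n CL.M24P.Md.P.N xns (powW (q.i ++ q.j) (2 ^ q.n)) q.pt) cl = true := by decide +kernel
theorem xzr324 : xchk (prR cl) = true := by decide +kernel
theorem xzd325 : leB xD (cl.map PR.i ++ cl.map PR.j) w.T = true := by decide +kernel
theorem xzd326 : leB xD [[], w.z, [32, 34]] w.D = true := by decide +kernel
theorem xzd327 : xB.okE = true := by decide +kernel
theorem xzd328 : xA.okE = true := by decide +kernel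
theorem xzm329 : leB xD [[52], [54], [44], [42], [40], [38], [36], [34], [32], [30]] [[0], [2]] = true := by decide +kernel
theorem xze330 : extB CL.M24P.Md.ns0 xns 2 xws [] = true := by decide +kernel
theorem xzn331 : CL.M24P.Md.P.netsB xns (mkDefs xws 2) = true := by decide +kernel

variable {G X : Type*} [Group G] [MulAction G X] {e : ℕ → X} {gs : List G}

theorem xlen {k} (c : Ctx CL.M24P.Md.P e gs CL.M24P.Md.ns0 [] k) : gs.length = 2 := c.len xze330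

theorem xctx0 {k} (c : Ctx CL.M24P.Md.P e gs CL.M24P.Md.ns0 [] k) : Ctx CL.M24P.Md.P e (ext gs xws) xns xD chk0 :=
  c.ext rfl xze330 xzn331

theorem xctx {k} (c : Ctx CL.M24P.Md.P e gs CL.M24P.Md.ns0 [] k) {H : Subgroup G} (hF : Faithful e CL.M24P.Md.P.n H) (hH : ∀ g ∈ gs, g ∈ H) :
    Ctx CL.M24P.Md.P e (ext gs xws) xns xD xchk :=
  (xctx0 c).withB hF (mem_of_mem_ext hH _)

theorem xL_c : CL.M24P.Md.P.chainB xns xD xL_vs [[0], [2]] = true :=
  xzc0

theorem xL_o : prodL xL_vs 1 = 244823040 := by decide +kernel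

theorem xL_lb (c : Ctx CL.M24P.Md.P e gs xns xD xchk) :
    LB (subW gs [[0], [2]]) 244823040 :=
  c.lb xL_c xL_o

theorem L_card (c : Ctx CL.M24P.Md.P e gs xns xD xchk) (hU : UB (subW gs [[0], [2]]) 244823040) :
    Nat.card (subW gs [[0], [2]]) = 244823040 :=
  hU.card_eq (xL_lb c)

theorem xT_c : CL.M24P.Md.P.chainB xns xD xT_vs [[52], [54], [44], [42], [40], [38], [36], [34], [32], [30]] = true :=
  xzc1

theorem xT_o : prodL xT_vs 1 = 1024 := by decide +kernel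

theorem xT_lb (c : Ctx CL.M24P.Md.P e gs xns xD xchk) :
    LB (subW gs [[52], [54], [44], [42], [40], [38], [36], [34], [32], [30]]) 1024 :=
  c.lb xT_c xT_o

theorem xT_pr (c : Ctx CL.M24P.Md.P e gs xns xD xchk) :
    Rels gs (pcsR xT_ps []) :=
  (c.rels _ xzr2)

theorem xT_pe (c : Ctx CL.M24P.Md.P e gs xns xD xchk) :
    Rels gs (defRels []) :=
  (Rels.nil _)

theorem xT_pb : bnd (pcsB xD xT_ps []) (leB (app xD []) [[52], [54], [44], [42], [40], [38], [36], [34], [32], [30]] (pcGens xT_ps [])) = true := xzb3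

theorem xT_ub (c : Ctx CL.M24P.Md.P e gs xns xD xchk) :
    UB (subW gs [[52], [54], [44], [42], [40], [38], [36], [34], [32], [30]]) 1024 :=
  c.pcs (UB.nil gs) (xT_pe c) (xT_pr c) xT_pb (by decide +kernel)

theorem xT_card (c : Ctx CL.M24P.Md.P e gs xns xD xchk) :
    Nat.card (subW gs [[52], [54], [44], [42], [40], [38], [36], [34], [32], [30]]) = 1024 :=
  (xT_ub c).card_eq (xT_lb c)

theorem xU_c : CL.M24P.Md.P.chainB xns xD xU_vs [[30], [32], [34], [36], [38], [40], [30], [34], [32], [36], [42], [44]] = true :=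
  xzc4

theorem xU_o : prodL xU_vs 1 = 256 := by decide +kernel

theorem xU_lb (c : Ctx CL.M24P.Md.P e gs xns xD xchk) :
    LB (subW gs [[30], [32], [34], [36], [38], [40], [30], [34], [32], [36], [42], [44]]) 256 :=
  c.lb xU_c xU_o

theorem xU_pr (c : Ctx CL.M24P.Md.P e gs xns xD xchk) :
    Rels gs (pcsR xU_ps []) :=
  (c.rels _ xzr5)

theorem xU_pe (c : Ctx CL.M24P.Md.P e gs xns xD xchk) :
    Rels gs (defRels []) :=
  (Rels.nil _)

theorem xU_pb : bnd (pcsB xD xU_ps []) (leB (app xD []) [[30], [32], [34], [36], [38], [40], [30], [34], [32], [36], [42], [44]] (pcGens xU_ps [])) = true := xzb6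

theorem xU_ub (c : Ctx CL.M24P.Md.P e gs xns xD xchk) :
    UB (subW gs [[30], [32], [34], [36], [38], [40], [30], [34], [32], [36], [42], [44]]) 256 :=
  c.pcs (UB.nil gs) (xU_pe c) (xU_pr c) xU_pb (by decide +kernel)

theorem xU_card (c : Ctx CL.M24P.Md.P e gs xns xD xchk) :
    Nat.card (subW gs [[30], [32], [34], [36], [38], [40], [30], [34], [32], [36], [42], [44]]) = 256 :=
  (xU_ub c).card_eq (xU_lb c)

theorem xA_c : CL.M24P.Md.P.chainB xns xD xA_vs [[30], [32], [34], [36], [38], [40]] = true :=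
  xzc7

theorem xA_o : prodL xA_vs 1 = 64 := by decide +kernel

theorem xA_lb (c : Ctx CL.M24P.Md.P e gs xns xD xchk) :
    LB (subW gs [[30], [32], [34], [36], [38], [40]]) 64 :=
  c.lb xA_c xA_o

theorem xA_pr (c : Ctx CL.M24P.Md.P e gs xns xD xchk) :
    Rels gs (pcsR xA_ps []) :=
  (c.rels _ xzr8)

theorem xA_pe (c : Ctx CL.M24P.Md.P e gs xns xD xchk) :
    Rels gs (defRels []) :=
  (Rels.nil _)

theorem xA_pb : bnd (pcsB xD xA_ps []) (leB (app xD []) [[30], [32], [34], [36], [38], [40]] (pcGens xA_ps [])) = true := xzb9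

theorem xA_ub (c : Ctx CL.M24P.Md.P e gs xns xD xchk) :
    UB (subW gs [[30], [32], [34], [36], [38], [40]]) 64 :=
  c.pcs (UB.nil gs) (xA_pe c) (xA_pr c) xA_pb (by decide +kernel)

theorem xA_card (c : Ctx CL.M24P.Md.P e gs xns xD xchk) :
    Nat.card (subW gs [[30], [32], [34], [36], [38], [40]]) = 64 :=
  (xA_ub c).card_eq (xA_lb c)

theorem xB_c : CL.M24P.Md.P.chainB xns xD xB_vs [[30], [34], [32], [36], [42], [44]] = true :=
  xzc10

theorem xB_o : prodL xB_vs 1 = 64 := by decide +kernel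

theorem xB_lb (c : Ctx CL.M24P.Md.P e gs xns xD xchk) :
    LB (subW gs [[30], [34], [32], [36], [42], [44]]) 64 :=
  c.lb xB_c xB_o

theorem xB_pr (c : Ctx CL.M24P.Md.P e gs xns xD xchk) :
    Rels gs (pcsR xB_ps []) :=
  (c.rels _ xzr11)

theorem xB_pe (c : Ctx CL.M24P.Md.P e gs xns xD xchk) :
    Rels gs (defRels []) :=
  (Rels.nil _)

theorem xB_pb : bnd (pcsB xD xB_ps []) (leB (app xD []) [[30], [34], [32], [36], [42], [44]] (pcGens xB_ps [])) = true := xzb12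

theorem xB_ub (c : Ctx CL.M24P.Md.P e gs xns xD xchk) :
    UB (subW gs [[30], [34], [32], [36], [42], [44]]) 64 :=
  c.pcs (UB.nil gs) (xB_pe c) (xB_pr c) xB_pb (by decide +kernel)

theorem xB_card (c : Ctx CL.M24P.Md.P e gs xns xD xchk) :
    Nat.card (subW gs [[30], [34], [32], [36], [42], [44]]) = 64 :=
  (xB_ub c).card_eq (xB_lb c)

theorem xAea (c : Ctx CL.M24P.Md.P e gs xns xD xchk) :
    Cfsg.IsElementaryAbelian 2 (subW gs [[30], [32], [34], [36], [38], [40]]) :=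
  elemAb_of_rels (c.rels _ xzr14) (c.rels _ xzr13)

theorem xBea (c : Ctx CL.M24P.Md.P e gs xns xD xchk) :
    Cfsg.IsElementaryAbelian 2 (subW gs [[30], [34], [32], [36], [42], [44]]) :=
  elemAb_of_rels (c.rels _ xzr16) (c.rels _ xzr15)

theorem xHA_u5 (c : Ctx CL.M24P.Md.P e gs xns xD xchk) :
    UB (subW gs [[126], [128], [130], [132]]) 16 :=
  (c.sch_step (UB.nil gs)
    (c.rels _ xzr20) xzb19).le (by decide)

theorem xHA_u4 (c : Ctx CL.M24P.Md.P e gs xns xD xchk) :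
    UB (subW gs [[120], [122], [124]]) 48 :=
  (c.pc_step (xHA_u5 c) (c.rels _ xzr26)
    (c.rels _ xzr25) xzb24).le (by decide)

theorem xHA_u3 (c : Ctx CL.M24P.Md.P e gs xns xD xchk) :
    UB (subW gs [[114], [118]]) 960 :=
  (c.sch_step (xHA_u4 c)
    (c.rels _ xzr30) xzb29).le (by decide)

theorem xHA_u2 (c : Ctx CL.M24P.Md.P e gs xns xD xchk) :
    UB (subW gs [[114], [116]]) 1920 :=
  (c.pc_step (xHA_u3 c) (Rels.nil _)
    (c.rels _ xzr34) xzb33).le (by decide)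

theorem xHA_u1 (c : Ctx CL.M24P.Md.P e gs xns xD xchk) :
    UB (subW gs [[110], [112]]) 5760 :=
  (c.sch_step (xHA_u2 c)
    (c.rels _ xzr38) xzb37).le (by decide)

theorem xHA_u0 (c : Ctx CL.M24P.Md.P e gs xns xD xchk) :
    UB (subW gs [[106], [108]]) 138240 :=
  (c.sch_step (xHA_u1 c)
    (c.rels _ xzr42) xzb41).le (by decide)

theorem xHA_ub (c : Ctx CL.M24P.Md.P e gs xns xD xchk) :
    UB (subW gs [[106], [108]]) 138240 :=
  (xHA_u0 c)

theorem xHA_c : CL.M24P.Md.P.chainB xns xD xHA_vs [[106], [108]] = true :=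
  xzc43

theorem xHA_o : prodL xHA_vs 1 = 138240 := by decide +kernel

theorem xHA_lb (c : Ctx CL.M24P.Md.P e gs xns xD xchk) :
    LB (subW gs [[106], [108]]) 138240 :=
  c.lb xHA_c xHA_o

theorem HA_ub (c : Ctx CL.M24P.Md.P e gs xns xD xchk) :
    UB (subW gs [[106], [108], [52], [54], [44], [42], [40], [38], [36], [34], [32], [30], [50]]) 138240 :=
  (xHA_ub c).mono (c.le_of_rels (ws := [[106], [108], [52], [54], [44], [42], [40], [38], [36], [34], [32], [30], [50]]) (l := [[106], [108]]) (c.rels _ xzr46) xzm45)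

theorem HA_card (c : Ctx CL.M24P.Md.P e gs xns xD xchk) :
    Nat.card (subW gs [[106], [108], [52], [54], [44], [42], [40], [38], [36], [34], [32], [30], [50]]) = 138240 :=
  (HA_ub c).card_eq ((xHA_lb c).mono (c.le xzm47))

theorem xcenAG_c : CL.M24P.Md.P.chainB xns xD xcenAG_vs [[106], [108], [52], [54], [44], [42], [40], [38], [36], [34], [32], [30], [50]] = true :=
  xzc51

theorem xcenAG_o : prodL xcenAG_vs 1 = 138240 := by decide +kernel

theorem xcenA (c : Ctx CL.M24P.Md.P e gs xns xD xchk) :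
    (subW gs [[106], [108], [52], [54], [44], [42], [40], [38], [36], [34], [32], [30], [50]]) ⊓ Subgroup.centralizer (subW gs [[30], [32], [34], [36], [38], [40]] : Set G) = (subW gs [[30], [32], [34], [36], [38], [40]]) :=
  c.cent (lx := [[30], [32], [34], [36], [38], [40]]) (Rels.nil _) (c.sOk (c.exact xcenAG_c xcenAG_o (HA_ub c)) xzs52) (fun _ h => by cases h)
    (c.fixX xzf50) (c.rels _ xzr55) xzm56 xzs54

theorem xcedAG_c : CL.M24P.Md.P.chainB xns xD xcedAG_vs [[106], [108], [52], [54], [44], [42], [40], [38], [36], [34], [32], [30], [50]] = true :=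
  xzc60

theorem xcedAG_o : prodL xcedAG_vs 1 = 138240 := by decide +kernel

theorem xcedA (c : Ctx CL.M24P.Md.P e gs xns xD xchk) :
    (subW gs [[106], [108], [52], [54], [44], [42], [40], [38], [36], [34], [32], [30], [50]]) ⊓ Subgroup.centralizer (subW gs [[30], [32], [34], [36]] : Set G) = (subW gs [[30], [32], [34], [36], [38], [40], [30], [34], [32], [36], [42], [44]]) :=
  c.cent (lx := [[30], [32], [34], [36]]) (Rels.nil _) (c.sOk (c.exact xcedAG_c xcedAG_o (HA_ub c)) xzs61) (fun _ h => by cases h)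
    (c.fixX xzf59) (c.rels _ xzr64) xzm65 xzs63

theorem xnorAG_c : CL.M24P.Md.P.chainB xns xD xnorAG_vs [[0], [2]] = true :=
  xzc68

theorem xnorAG_o : prodL xnorAG_vs 1 = 244823040 := by decide +kernel

theorem xnorA (c : Ctx CL.M24P.Md.P e gs xns xD xchk) (hU : UB (subW gs [[0], [2]]) 244823040) :
    (subW gs [[0], [2]]) ⊓ Subgroup.normalizer (subW gs [[30], [32], [34], [36], [38], [40]] : Set G) = (subW gs [[106], [108], [52], [54], [44], [42], [40], [38], [36], [34], [32], [30], [50]]) :=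
  have hfin : Finite (subW gs [[30], [32], [34], [36], [38], [40]]) := (UB.mono hU (c.le xzm76)).1
  c.norm (Rels.nil _) (c.sOk (c.exact xnorAG_c xnorAG_o hU) xzs69) (fun _ h => by cases h)
    (c.isFix xzf67) (c.le_normalizer (cj := xzcj73) hfin (c.rels _ xzr75) xzm74) xzm72 xzs71

theorem haA (c : Ctx CL.M24P.Md.P e gs xns xD xchk) :
    subW gs (haL w sA) ≤ (subW gs [[106], [108], [52], [54], [44], [42], [40], [38], [36], [34], [32], [30], [50]]) :=
  (c.le_of_rels (ws := (haL w sA)) (l := [[106], [108], [52], [54], [44], [42], [40], [38], [36], [34], [32], [30], [50]]) (c.rels _ xzr79) xzm78)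

theorem xYA_u3 (c : Ctx CL.M24P.Md.P e gs xns xD xchk) :
    UB (subW gs [[182], [184], [186]]) 8 :=
  (c.sch_step (UB.nil gs)
    (c.rels _ xzr97) xzb96).le (by decide)

theorem xYA_u2 (c : Ctx CL.M24P.Md.P e gs xns xD xchk) :
    UB (subW gs [[178], [180]]) 160 :=
  (c.sch_step (xYA_u3 c)
    (c.rels _ xzr101) xzb100).le (by decide)

theorem xYA_u1 (c : Ctx CL.M24P.Md.P e gs xns xD xchk) :
    UB (subW gs [[174], [176]]) 320 :=
  (c.pc_step (xYA_u2 c) (c.rels _ xzr107)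
    (c.rels _ xzr106) xzb105).le (by decide)

theorem xYA_u0 (c : Ctx CL.M24P.Md.P e gs xns xD xchk) :
    UB (subW gs [[170], [172]]) 7680 :=
  (c.sch_step (xYA_u1 c)
    (c.rels _ xzr111) xzb110).le (by decide)

theorem xYA_ub (c : Ctx CL.M24P.Md.P e gs xns xD xchk) :
    UB (subW gs [[170], [172]]) 7680 :=
  (xYA_u0 c)

theorem xYA_c : CL.M24P.Md.P.chainB xns xD xYA_vs [[170], [172]] = true :=
  xzc112

theorem xYA_o : prodL xYA_vs 1 = 7680 := by decide +kernel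

theorem xYA_ex (c : Ctx CL.M24P.Md.P e gs xns xD xchk) :
    Exact e CL.M24P.Md.P.n CL.M24P.Md.P.N gs xns 1 xYA_vs [[170], [172]] :=
  c.exact xYA_c xYA_o (xYA_ub c)

theorem xYA_card (c : Ctx CL.M24P.Md.P e gs xns xD xchk) :
    Nat.card (subW gs [[170], [172]]) = 7680 :=
  (xYA_ex c).card.trans xYA_o

theorem xceyAG_c : CL.M24P.Md.P.chainB xns xD xceyAG_vs [[106], [108], [52], [54], [44], [42], [40], [38], [36], [34], [32], [30], [50]] = true :=
  xzc114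

theorem xceyAG_o : prodL xceyAG_vs 1 = 138240 := by decide +kernel

theorem xceyA (c : Ctx CL.M24P.Md.P e gs xns xD xchk) :
    (subW gs [[106], [108], [52], [54], [44], [42], [40], [38], [36], [34], [32], [30], [50]]) ⊓ Subgroup.centralizer (subW gs [W (nat_lit 0x8c21)] : Set G) = (subW gs [[170], [172]]) :=
  c.cent (lx := [W (nat_lit 0x8c21)]) (Rels.nil _) (c.sOk (c.exact xceyAG_c xceyAG_o (HA_ub c)) xzs115) (fun _ h => by cases h)
    (c.fixX xzf113) (c.rels _ xzr118) xzm119 xzs117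

theorem xrhoA (c : Ctx CL.M24P.Md.P e gs xns xD xchk) [Finite G] :
    (subW gs [[106], [108], [52], [54], [44], [42], [40], [38], [36], [34], [32], [30], [50]]) ≤ Subgroup.normalizer (subW gs [[46], [30], [32], [34], [36], [38], [40]] : Set G) :=
  have hfin : Finite (subW gs [[46], [30], [32], [34], [36], [38], [40]]) := Subtype.finite
  (c.le_normalizer (cj := xzcj120) hfin (c.rels _ xzr122) xzm121)

theorem xHB_u4 (c : Ctx CL.M24P.Md.P e gs xns xD xchk) :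
    UB (subW gs [[224], [226], [228], [230]]) 16 :=
  (c.sch_step (UB.nil gs)
    (c.rels _ xzr128) xzb127).le (by decide)

theorem xHB_u3 (c : Ctx CL.M24P.Md.P e gs xns xD xchk) :
    UB (subW gs [[216], [218], [220], [222]]) 64 :=
  (c.sch_step (xHB_u4 c)
    (c.rels _ xzr132) xzb131).le (by decide)

theorem xHB_u2 (c : Ctx CL.M24P.Md.P e gs xns xD xchk) :
    UB (subW gs [[212], [214]]) 384 :=
  (c.sch_step (xHB_u3 c)
    (c.rels _ xzr136) xzb135).le (by decide)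

theorem xHB_u1 (c : Ctx CL.M24P.Md.P e gs xns xD xchk) :
    UB (subW gs [[208], [210]]) 2688 :=
  (c.sch_step (xHB_u2 c)
    (c.rels _ xzr140) xzb139).le (by decide)

theorem xHB_u0 (c : Ctx CL.M24P.Md.P e gs xns xD xchk) :
    UB (subW gs [[204], [206]]) 64512 :=
  (c.sch_step (xHB_u1 c)
    (c.rels _ xzr144) xzb143).le (by decide)

theorem xHB_ub (c : Ctx CL.M24P.Md.P e gs xns xD xchk) :
    UB (subW gs [[204], [206]]) 64512 :=
  (xHB_u0 c)

theorem xHB_c : CL.M24P.Md.P.chainB xns xD xHB_vs [[204], [206]] = true :=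
  xzc145

theorem xHB_o : prodL xHB_vs 1 = 64512 := by decide +kernel

theorem xHB_lb (c : Ctx CL.M24P.Md.P e gs xns xD xchk) :
    LB (subW gs [[204], [206]]) 64512 :=
  c.lb xHB_c xHB_o

theorem HB_ub (c : Ctx CL.M24P.Md.P e gs xns xD xchk) :
    UB (subW gs [[204], [206], [52], [54], [44], [42], [40], [38], [36], [34], [32], [30], [50]]) 64512 :=
  (xHB_ub c).mono (c.le_of_rels (ws := [[204], [206], [52], [54], [44], [42], [40], [38], [36], [34], [32], [30], [50]]) (l := [[204], [206]]) (c.rels _ xzr148) xzm147)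

theorem HB_card (c : Ctx CL.M24P.Md.P e gs xns xD xchk) :
    Nat.card (subW gs [[204], [206], [52], [54], [44], [42], [40], [38], [36], [34], [32], [30], [50]]) = 64512 :=
  (HB_ub c).card_eq ((xHB_lb c).mono (c.le xzm149))

theorem xcenBG_c : CL.M24P.Md.P.chainB xns xD xcenBG_vs [[204], [206], [52], [54], [44], [42], [40], [38], [36], [34], [32], [30], [50]] = true :=
  xzc153

theorem xcenBG_o : prodL xcenBG_vs 1 = 64512 := by decide +kernel

theorem xcenB (c : Ctx CL.M24P.Md.P e gs xns xD xchk) :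
    (subW gs [[204], [206], [52], [54], [44], [42], [40], [38], [36], [34], [32], [30], [50]]) ⊓ Subgroup.centralizer (subW gs [[30], [34], [32], [36], [42], [44]] : Set G) = (subW gs [[30], [34], [32], [36], [42], [44]]) :=
  c.cent (lx := [[30], [34], [32], [36], [42], [44]]) (Rels.nil _) (c.sOk (c.exact xcenBG_c xcenBG_o (HB_ub c)) xzs154) (fun _ h => by cases h)
    (c.fixX xzf152) (c.rels _ xzr157) xzm158 xzs156

theorem xcedBG_c : CL.M24P.Md.P.chainB xns xD xcedBG_vs [[204], [206], [52], [54], [44], [42], [40], [38], [36], [34], [32], [30], [50]] = true :=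
  xzc162

theorem xcedBG_o : prodL xcedBG_vs 1 = 64512 := by decide +kernel

theorem xcedB (c : Ctx CL.M24P.Md.P e gs xns xD xchk) :
    (subW gs [[204], [206], [52], [54], [44], [42], [40], [38], [36], [34], [32], [30], [50]]) ⊓ Subgroup.centralizer (subW gs [[30], [32], [34], [36]] : Set G) = (subW gs [[30], [32], [34], [36], [38], [40], [30], [34], [32], [36], [42], [44]]) :=
  c.cent (lx := [[30], [32], [34], [36]]) (Rels.nil _) (c.sOk (c.exact xcedBG_c xcedBG_o (HB_ub c)) xzs163) (fun _ h => by cases h)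
    (c.fixX xzf161) (c.rels _ xzr166) xzm167 xzs165

theorem xnorBG_c : CL.M24P.Md.P.chainB xns xD xnorBG_vs [[0], [2]] = true :=
  xzc170

theorem xnorBG_o : prodL xnorBG_vs 1 = 244823040 := by decide +kernel

theorem xnorB (c : Ctx CL.M24P.Md.P e gs xns xD xchk) (hU : UB (subW gs [[0], [2]]) 244823040) :
    (subW gs [[0], [2]]) ⊓ Subgroup.normalizer (subW gs [[30], [34], [32], [36], [42], [44]] : Set G) = (subW gs [[204], [206], [52], [54], [44], [42], [40], [38], [36], [34], [32], [30], [50]]) :=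
  have hfin : Finite (subW gs [[30], [34], [32], [36], [42], [44]]) := (UB.mono hU (c.le xzm178)).1
  c.norm (Rels.nil _) (c.sOk (c.exact xnorBG_c xnorBG_o hU) xzs171) (fun _ h => by cases h)
    (c.isFix xzf169) (c.le_normalizer (cj := xzcj175) hfin (c.rels _ xzr177) xzm176) xzm174 xzs173

theorem haB (c : Ctx CL.M24P.Md.P e gs xns xD xchk) :
    subW gs (haL w.swap sB) ≤ (subW gs [[204], [206], [52], [54], [44], [42], [40], [38], [36], [34], [32], [30], [50]]) :=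
  (c.le_of_rels (ws := (haL w.swap sB)) (l := [[204], [206], [52], [54], [44], [42], [40], [38], [36], [34], [32], [30], [50]]) (c.rels _ xzr181) xzm180)

theorem xYB_u3 (c : Ctx CL.M24P.Md.P e gs xns xD xchk) :
    UB (subW gs [[278], [275], [280]]) 8 :=
  (c.sch_step (UB.nil gs)
    (c.rels _ xzr199) xzb198).le (by decide)

theorem xYB_u2 (c : Ctx CL.M24P.Md.P e gs xns xD xchk) :
    UB (subW gs [[274], [273], [276]]) 32 :=
  (c.sch_step (xYB_u3 c)
    (c.rels _ xzr203) xzb202).le (by decide)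

theorem xYB_u1 (c : Ctx CL.M24P.Md.P e gs xns xD xchk) :
    UB (subW gs [[270], [272]]) 64 :=
  (c.pc_step (xYB_u2 c) (c.rels _ xzr209)
    (c.rels _ xzr208) xzb207).le (by decide)

theorem xYB_u0 (c : Ctx CL.M24P.Md.P e gs xns xD xchk) :
    UB (subW gs [[266], [268]]) 1536 :=
  (c.sch_step (xYB_u1 c)
    (c.rels _ xzr213) xzb212).le (by decide)

theorem xYB_ub (c : Ctx CL.M24P.Md.P e gs xns xD xchk) :
    UB (subW gs [[266], [268]]) 1536 :=
  (xYB_u0 c)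

theorem xYB_c : CL.M24P.Md.P.chainB xns xD xYB_vs [[266], [268]] = true :=
  xzc214

theorem xYB_o : prodL xYB_vs 1 = 1536 := by decide +kernel

theorem xYB_ex (c : Ctx CL.M24P.Md.P e gs xns xD xchk) :
    Exact e CL.M24P.Md.P.n CL.M24P.Md.P.N gs xns 1 xYB_vs [[266], [268]] :=
  c.exact xYB_c xYB_o (xYB_ub c)

theorem xYB_card (c : Ctx CL.M24P.Md.P e gs xns xD xchk) :
    Nat.card (subW gs [[266], [268]]) = 1536 :=
  (xYB_ex c).card.trans xYB_o

theorem xceyBG_c : CL.M24P.Md.P.chainB xns xD xceyBG_vs [[204], [206], [52], [54], [44], [42], [40], [38], [36], [34], [32], [30], [50]] = true :=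
  xzc216

theorem xceyBG_o : prodL xceyBG_vs 1 = 64512 := by decide +kernel

theorem xceyB (c : Ctx CL.M24P.Md.P e gs xns xD xchk) :
    (subW gs [[204], [206], [52], [54], [44], [42], [40], [38], [36], [34], [32], [30], [50]]) ⊓ Subgroup.centralizer (subW gs [W (nat_lit 0x8423)] : Set G) = (subW gs [[266], [268]]) :=
  c.cent (lx := [W (nat_lit 0x8423)]) (Rels.nil _) (c.sOk (c.exact xceyBG_c xceyBG_o (HB_ub c)) xzs217) (fun _ h => by cases h)
    (c.fixX xzf215) (c.rels _ xzr220) xzm221 xzs219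

theorem xrhoB (c : Ctx CL.M24P.Md.P e gs xns xD xchk) [Finite G] :
    (subW gs [[204], [206], [52], [54], [44], [42], [40], [38], [36], [34], [32], [30], [50]]) ≤ Subgroup.normalizer (subW gs [[48], [30], [34], [32], [36], [42], [44]] : Set G) :=
  have hfin : Finite (subW gs [[48], [30], [34], [32], [36], [42], [44]]) := Subtype.finite
  (c.le_normalizer (cj := xzcj222) hfin (c.rels _ xzr224) xzm223)

theorem xcezG_c : CL.M24P.Md.P.chainB xns xD xcezG_vs [[0], [2]] = true :=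
  xzc229

theorem xcezG_o : prodL xcezG_vs 1 = 244823040 := by decide +kernel

theorem xcez (c : Ctx CL.M24P.Md.P e gs xns xD xchk) (hU : UB (subW gs [[0], [2]]) 244823040) :
    (subW gs [[0], [2]]) ⊓ Subgroup.centralizer (subW gs [[30]] : Set G) = (subW gs [[296], [298], [300], [302]]) :=
  c.cent (lx := [[30]]) (Rels.nil _) (c.sOk (c.exact xcezG_c xcezG_o hU) xzs230) (fun _ h => by cases h)
    (c.fixX xzf228) (c.rels _ xzr233) xzm234 xzs232

theorem xct_le0 (c : Ctx CL.M24P.Md.P e gs xns xD xchk) :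
    (subW gs [[52], [54], [44], [42], [40], [38], [36], [34], [32], [30]]) ≤ (subW gs [[0], [2]]) :=
  (c.le_of_rels (ws := [[52], [54], [44], [42], [40], [38], [36], [34], [32], [30]]) (l := [[0], [2]]) (c.rels _ xzr255) xzm254)

theorem xct0 (c : Ctx CL.M24P.Md.P e gs xns xD xchk) :
    Cov 0 (subW gs [[52], [54], [44], [42], [40], [38], [36], [34], [32], [30]]) (subW gs [[0], [2]]) gs xct0_R (subW gs [[54], [44], [42], [40], [38], [36], [34], [32], [30]]) :=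
  Cov.step' (q := 2) (g := [52]) c.defs (by norm_num) (Cov.init 0 (subW gs [[52], [54], [44], [42], [40], [38], [36], [34], [32], [30]]) (subW gs [[0], [2]]) gs)
    (pc_lvl' c.defs (xT_pr c) xT_pb (xT_lb c) 0 (by decide +kernel))
    (c.le_normalizer (cj := xzcj256) (((xT_ub c).mono (c.le xzm259)).1) (c.rels _ xzr258) xzm257) (xct_le0 c)
    (c.rels _ xzr251) xzb252 xzq250

theorem xct1 (c : Ctx CL.M24P.Md.P e gs xns xD xchk) :
    Cov 0 (subW gs [[52], [54], [44], [42], [40], [38], [36], [34], [32], [30]]) (subW gs [[0], [2]]) gs xct1_R (subW gs [[44], [42], [40], [38], [36], [34], [32], [30]]) :=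
  Cov.step' (q := 2) (g := [54]) c.defs (by norm_num) (xct0 c)
    (pc_lvl' c.defs (xT_pr c) xT_pb (xT_lb c) 1 (by decide +kernel))
    (c.le_normalizer (cj := xzcj263) (((xT_ub c).mono (c.le xzm266)).1) (c.rels _ xzr265) xzm264) (xct_le0 c)
    (c.rels _ xzr261) xzb262 xzq260

theorem xct2 (c : Ctx CL.M24P.Md.P e gs xns xD xchk) :
    Cov 0 (subW gs [[52], [54], [44], [42], [40], [38], [36], [34], [32], [30]]) (subW gs [[0], [2]]) gs xct2_R (subW gs [[42], [40], [38], [36], [34], [32], [30]]) :=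
  Cov.step' (q := 2) (g := [44]) c.defs (by norm_num) (xct1 c)
    (pc_lvl' c.defs (xT_pr c) xT_pb (xT_lb c) 2 (by decide +kernel))
    (c.le_normalizer (cj := xzcj270) (((xT_ub c).mono (c.le xzm273)).1) (c.rels _ xzr272) xzm271) (xct_le0 c)
    (c.rels _ xzr268) xzb269 xzq267

theorem xct3 (c : Ctx CL.M24P.Md.P e gs xns xD xchk) :
    Cov 0 (subW gs [[52], [54], [44], [42], [40], [38], [36], [34], [32], [30]]) (subW gs [[0], [2]]) gs xct3_R (subW gs [[40], [38], [36], [34], [32], [30]]) :=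
  Cov.step' (q := 2) (g := [42]) c.defs (by norm_num) (xct2 c)
    (pc_lvl' c.defs (xT_pr c) xT_pb (xT_lb c) 3 (by decide +kernel))
    (c.le_normalizer (cj := xzcj277) (((xT_ub c).mono (c.le xzm280)).1) (c.rels _ xzr279) xzm278) (xct_le0 c)
    (c.rels _ xzr275) xzb276 xzq274

theorem xct4 (c : Ctx CL.M24P.Md.P e gs xns xD xchk) :
    Cov 0 (subW gs [[52], [54], [44], [42], [40], [38], [36], [34], [32], [30]]) (subW gs [[0], [2]]) gs xct4_R (subW gs [[38], [36], [34], [32], [30]]) :=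
  Cov.step' (q := 2) (g := [40]) c.defs (by norm_num) (xct3 c)
    (pc_lvl' c.defs (xT_pr c) xT_pb (xT_lb c) 4 (by decide +kernel))
    (c.le_normalizer (cj := xzcj284) (((xT_ub c).mono (c.le xzm287)).1) (c.rels _ xzr286) xzm285) (xct_le0 c)
    (c.rels _ xzr282) xzb283 xzq281

theorem xct5 (c : Ctx CL.M24P.Md.P e gs xns xD xchk) :
    Cov 0 (subW gs [[52], [54], [44], [42], [40], [38], [36], [34], [32], [30]]) (subW gs [[0], [2]]) gs xct5_R (subW gs [[36], [34], [32], [30]]) :=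
  Cov.step' (q := 2) (g := [38]) c.defs (by norm_num) (xct4 c)
    (pc_lvl' c.defs (xT_pr c) xT_pb (xT_lb c) 5 (by decide +kernel))
    (c.le_normalizer (cj := xzcj291) (((xT_ub c).mono (c.le xzm294)).1) (c.rels _ xzr293) xzm292) (xct_le0 c)
    (c.rels _ xzr289) xzb290 xzq288

theorem xct6 (c : Ctx CL.M24P.Md.P e gs xns xD xchk) :
    Cov 0 (subW gs [[52], [54], [44], [42], [40], [38], [36], [34], [32], [30]]) (subW gs [[0], [2]]) gs xct6_R (subW gs [[34], [32], [30]]) :=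
  Cov.step' (q := 2) (g := [36]) c.defs (by norm_num) (xct5 c)
    (pc_lvl' c.defs (xT_pr c) xT_pb (xT_lb c) 6 (by decide +kernel))
    (c.le_normalizer (cj := xzcj298) (((xT_ub c).mono (c.le xzm301)).1) (c.rels _ xzr300) xzm299) (xct_le0 c)
    (c.rels _ xzr296) xzb297 xzq295

theorem xct7 (c : Ctx CL.M24P.Md.P e gs xns xD xchk) :
    Cov 0 (subW gs [[52], [54], [44], [42], [40], [38], [36], [34], [32], [30]]) (subW gs [[0], [2]]) gs xct7_R (subW gs [[32], [30]]) :=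
  Cov.step' (q := 2) (g := [34]) c.defs (by norm_num) (xct6 c)
    (pc_lvl' c.defs (xT_pr c) xT_pb (xT_lb c) 7 (by decide +kernel))
    (c.le_normalizer (cj := xzcj305) (((xT_ub c).mono (c.le xzm308)).1) (c.rels _ xzr307) xzm306) (xct_le0 c)
    (c.rels _ xzr303) xzb304 xzq302

theorem xct8 (c : Ctx CL.M24P.Md.P e gs xns xD xchk) :
    Cov 0 (subW gs [[52], [54], [44], [42], [40], [38], [36], [34], [32], [30]]) (subW gs [[0], [2]]) gs xct8_R (subW gs [[30]]) :=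
  Cov.step' (q := 2) (g := [32]) c.defs (by norm_num) (xct7 c)
    (pc_lvl' c.defs (xT_pr c) xT_pb (xT_lb c) 8 (by decide +kernel))
    (c.le_normalizer (cj := xzcj312) (((xT_ub c).mono (c.le xzm315)).1) (c.rels _ xzr314) xzm313) (xct_le0 c)
    (c.rels _ xzr310) xzb311 xzq309

theorem xct9 (c : Ctx CL.M24P.Md.P e gs xns xD xchk) :
    Cov 0 (subW gs [[52], [54], [44], [42], [40], [38], [36], [34], [32], [30]]) (subW gs [[0], [2]]) gs xct9_R (subW gs []) :=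
  Cov.step' (q := 2) (g := [30]) c.defs (by norm_num) (xct8 c)
    (pc_lvl' c.defs (xT_pr c) xT_pb (xT_lb c) 9 (by decide +kernel))
    (le_normalizer_nil gs _) (xct_le0 c)
    (c.rels _ xzr317) xzb318 xzq316

theorem xct10 (c : Ctx CL.M24P.Md.P e gs xns xD xchk) :
    Cov 0 (subW gs [[52], [54], [44], [42], [40], [38], [36], [34], [32], [30]]) (subW gs [[0], [2]]) gs xct10_R (subW gs []) :=
  Cov.fuse c.defs (xct9 c) (le_normalizer_nil gs _) (c.le xzm321)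
    (c.rels _ xzr319) xzb320

theorem xct_cls (c : Ctx CL.M24P.Md.P e gs xns xD xchk) :
    Cls 0 (subW gs [[52], [54], [44], [42], [40], [38], [36], [34], [32], [30]]) (subW gs [[0], [2]]) gs [[], [30], W (nat_lit 0x8c21), W (nat_lit 0x8c250a4230b435), W (nat_lit 0x7c210942b0b42309429), W (nat_lit 0x270d42108c2509c29), W (nat_lit 0x7c250a42b0dc23094270b435)] :=
  (xct10 c).cls

section
set_option linter.unusedSectionVars false
variable {Γ X : Type} [Group Γ] [Finite Γ] [MulAction Γ X] {e : ℕ → X} {gs : List Γ}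

theorem smA (c : Ctx CL.M24P.Md.P e gs xns xD xchk) : SM (w.dat gs) (sA.bw.map (letG gs)) xA :=
  sm_of w xA sA (xAea c) (xA_card c) (c.rels _ xzr83) (haA c)
    (c.rels _ xzr82) xzd81 xzd80

theorem smB' (c : Ctx CL.M24P.Md.P e gs xns xD xchk) : SM (w.dat gs).swap (sB.bw.map (letG gs)) xB :=
  sm_of w.swap xB sB (xBea c) (xB_card c) (c.rels _ xzr185) (haB c)
    (c.rels _ xzr184) xzd183 xzd182

theorem sfA' (c : Ctx CL.M24P.Md.P e gs xns xD xchk) (hU : UB (subW gs [[0], [2]]) 244823040) : SF (w.dat gs) :=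
  sf_of w sA (smA c) (smB' c) (haA c) (c.le xzm93) (c.le xzm92) (c.rels _ xzr91)
    (c.le_of_rels (ws := (sfU w sA)) (l := [[30], [32], [34], [36], [38], [40], [30], [34], [32], [36], [42], [44]]) (c.rels _ xzr90) xzm89) (c.le_of_rels (ws := (sfA w)) (l := [[30], [32], [34], [36], [38], [40]]) (c.rels _ xzr87) xzm86)
    (xcenA c) (xnorA c hU) (xcedA c) xzd84

theorem trA (c : Ctx CL.M24P.Md.P e gs xns xD xchk) : TrF (w.dat gs) (sA.bw.map (letG gs)) xA :=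
  trF_rho (p := 19) w sA.bw xA (xrhoA c) (by rw [xzq124]; exact xceyA c) (xYA_card c) (HA_card c) (of_decide_eq_true xzd123)

theorem sfB' (c : Ctx CL.M24P.Md.P e gs xns xD xchk) (hU : UB (subW gs [[0], [2]]) 244823040) : SF (w.dat gs).swap :=
  sf_of w.swap sB (smB' c) (smA c) (haB c) (c.le xzm195) (c.le xzm194) (c.rels _ xzr193)
    (c.le_of_rels (ws := (sfU w.swap sB)) (l := [[30], [32], [34], [36], [38], [40], [30], [34], [32], [36], [42], [44]]) (c.rels _ xzr192) xzm191) (c.le_of_rels (ws := (sfA w.swap)) (l := [[30], [34], [32], [36], [42], [44]]) (c.rels _ xzr189) xzm188)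
    (xcenB c) (xnorB c hU) (xcedB c) xzd186

theorem trB (c : Ctx CL.M24P.Md.P e gs xns xD xchk) : TrF (w.dat gs).swap (sB.bw.map (letG gs)) xB :=
  trF_rho (p := 43) w.swap sB.bw xB (xrhoB c) (by rw [xzq226]; exact xceyB c) (xYB_card c) (HB_card c) (of_decide_eq_true xzd225)

theorem ok (c : Ctx CL.M24P.Md.P e gs xns xD xchk) (hU : UB (subW gs [[0], [2]]) 244823040)
    (hs : IsSimpleGroup (subW gs [[0], [2]])) : Ok (w.dat gs) :=
  ok_of w (smA c) (smB' c) (sfA' c hU) (sfB' c hU) (trA c) (trB c) Subgroup.le_normalizer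
    (syl_of_card (j := 10) (c.le xzm245) (xT_card c) (L_card c hU) (by norm_num)) (c.rels _ xzr244) (c.rels _ xzr243)
    (Or.inl rfl) (Z₁ := [[296], [298]]) (Z₂ := [[300], [302]]) (xcez c hU) (S := [[30], [328], [330], [332], [334]]) (PA := PA) (PB := PB) (E := cq)
    (c.le xzd242) (c.le xzd241) (c.le_of_rels (ws := [[0], [2]]) (l := [[30], [328], [330], [332], [334]]) (c.rels _ xzr240) xzm239)
    (c.le xzd237) (c.rels _ xzr236) xzd235 hs

theorem fake (c : Ctx CL.M24P.Md.P e gs xns xD xchk) (o : Ok (w.dat gs)) : Fake (w.dat gs) :=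
  fake_of w o (smA c) (W := fk) (F := [1, 2, 4, 8, 27, 45]) (c.rels _ xzr249) (c.le xzd248)
    (c.le xzd247) xzd246

theorem ct (c : Ctx CL.M24P.Md.P e gs xns xD xchk) (o : Ok (w.dat gs)) : CT (w.dat gs) {y | ∃ r ∈ [[], w.z, [32, 34]], wordG gs r = y} :=
  ct_of w o (cl := cl) (xct_cls c) (c.le xzd326) (c.le xzd325) (c.rels _ xzr324)
    (fun q hq => c.ne_one (allL_spec xzd323 q hq))
    (of_decide_eq_true xzd322)

theorem top (c : Ctx CL.M24P.Md.P e gs xns xD xchk) (hU : UB (subW gs [[0], [2]]) 244823040)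
    (hs : IsSimpleGroup (subW gs [[0], [2]]))
    (ha : Nat.card (MulAut (subW gs [[0], [2]])) ≤ 244823040) : Top (w.dat gs) (subW gs [[52], [54], [44], [42], [40], [38], [36], [34], [32], [30]]) :=
  have o := ok c hU hs
  top_of o (fake c o) rfl (smA c) (smB' c) (sfA' c hU) (sfB' c hU) le_rfl
    (syl_of_card (j := 10) (c.le xzm329) (xT_card c) (L_card c hU) (by norm_num)) hs (ha.trans (L_card c hU).ge) (ct c o) (xT_card c) (xU_card c)
    ⟨xzd328, xzd327, rfl, by norm_num, by norm_num⟩ (Or.inl rfl)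

end


end CL.Wr.GM24
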